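import Mathlib

/-!
# Translations of an elementary abelian subgroup of order eight

A fully normalised member of the class of a subgroup, and the axis of a full group of translations.
-/

set_option autoImplicit false
set_option linter.unusedSectionVars false

namespace CfsgLib.NormalRankTwo

open Subgroup

variable {G : Type*} [Group G]

/-- A two-element of `K` lies in a normalised subgroup containing a subgroup of odd index. -/
theorem two_elem_mem {K M P : Subgroup G} (hodd : ¬ 2 ∣ P.relIndex K) (hPM : P ≤ M) (hMK : M ≤ K)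
    (hn : K ≤ normalizer (M : Set G)) {n : G} (hnK : n ∈ K) {k : ℕ} (hk : n ^ 2 ^ k = 1) : n ∈ M := by
  let M' := M.subgroupOf K
  haveI : M'.Normal := ⟨fun m hm g => (mem_normalizer_iff.1 (hn g.2) _).1 hm⟩
  have hidx : ¬ 2 ∣ M'.index := by
    intro h
    refine hodd ?_
    have e : M'.index ∣ (P.subgroupOf K).index := index_dvd_of_le (comap_mono hPM)
    exact h.trans e
  have h1 : ((⟨n, hnK⟩ : ↥K) : ↥K ⧸ M') ^ 2 ^ k = 1 := by
    rw [← QuotientGroup.mk_pow, show (⟨n, hnK⟩ : ↥K) ^ 2 ^ k = 1 from Subtype.ext hk]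
    exact QuotientGroup.mk_one M'
  obtain ⟨j, -, hj⟩ := (Nat.dvd_prime_pow Nat.prime_two).1 (orderOf_dvd_of_pow_eq_one h1)
  have h2 : orderOf ((⟨n, hnK⟩ : ↥K) : ↥K ⧸ M') ∣ M'.index := orderOf_dvd_natCard _
  rcases j with _ | j
  · rw [pow_zero, orderOf_eq_one_iff, QuotientGroup.eq_one_iff] at hj
    exact hj
  · rw [hj, pow_succ'] at h2
    exact absurd (dvd_trans (dvd_mul_right 2 _) h2) hidx

/-- A conjugate inside `T` whose normaliser in `T` is Sylow in the whole normaliser. -/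
theorem exists_fully [Finite G] (T : Sylow 2 G) {E : Subgroup G} (hE : E ≤ T) :
    ∃ g : G, E.map (MulAut.conj g).toMonoidHom ≤ T ∧
      ¬ 2 ∣ ((T : Subgroup G) ⊓ normalizer ((E.map (MulAut.conj g).toMonoidHom : Subgroup G) : Set G)).relIndex
        (normalizer ((E.map (MulAut.conj g).toMonoidHom : Subgroup G) : Set G)) := by
  classical
  haveI := Fact.mk Nat.prime_two
  let E' : G → Subgroup G := fun g => E.map (MulAut.conj g).toMonoidHom
  obtain ⟨g, hg, hmax⟩ := (Set.toFinite {g : G | E' g ≤ T}).exists_maximalFor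
    (fun g => Nat.card ↥((T : Subgroup G) ⊓ normalizer (E' g : Set G))) _
    ⟨1, show E' 1 ≤ T from fun x hx => by
      obtain ⟨y, hy, rfl⟩ := hx
      simpa using hE hy⟩
  refine ⟨g, hg, fun hdvd => ?_⟩
  set N := normalizer (E' g : Set G) with hN
  set P := ((T : Subgroup G) ⊓ N).subgroupOf N with hP
  have hPp : IsPGroup 2 ↥P := (T.2.to_le inf_le_left).of_injective
    (subgroupOfEquivOfLe (inf_le_right : (T : Subgroup G) ⊓ N ≤ N)).toMonoidHom (MulEquiv.injective _)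
  obtain ⟨Q, hQ⟩ := hPp.exists_le_sylow
  have hQo : ¬ 2 ∣ (Q : Subgroup ↥N).index := Q.not_dvd_index
  have hlt : P < (Q : Subgroup ↥N) := lt_of_le_of_ne hQ fun h => hQo (h ▸ hdvd)
  obtain ⟨R, hR⟩ := (Q.2.map N.subtype).exists_le_sylow
  obtain ⟨h, hh⟩ := MulAction.exists_smul_eq G R T
  have hconj : ∀ x ∈ (Q : Subgroup ↥N).map N.subtype, h * x * h⁻¹ ∈ (T : Subgroup G) := fun x hx => by
    rw [← hh]
    exact ⟨x, hR hx, by simp⟩
  have hEQ : ∀ x ∈ E' g, x ∈ (Q : Subgroup ↥N).map N.subtype := fun x hx =>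
    ⟨⟨x, le_normalizer hx⟩, hQ (show (⟨x, le_normalizer hx⟩ : ↥N) ∈ P from ⟨hg hx, le_normalizer hx⟩), rfl⟩
  have e' : E' (h * g) = (E' g).map (MulAut.conj h).toMonoidHom := by
    show E.map _ = (E.map _).map _
    rw [Subgroup.map_map]
    congr 1
    ext x; simp [mul_assoc]
  have hle : E' (h * g) ≤ T := by
    rw [e']
    rintro _ ⟨x, hx, rfl⟩
    exact hconj x (hEQ x hx)
  have hle' : ((Q : Subgroup ↥N).map N.subtype).map (MulAut.conj h).toMonoidHom ≤
      (T : Subgroup G) ⊓ normalizer (E' (h * g) : Set G) := by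
    rintro _ ⟨x, hx, rfl⟩
    refine ⟨hconj x hx, ?_⟩
    obtain ⟨y, -, rfl⟩ := hx
    rw [e']
    refine mem_normalizer_iff.2 fun w => ?_
    simp only [mem_map_equiv]
    have := mem_normalizer_iff.1 y.2 ((MulAut.conj h).symm w)
    simpa [mul_assoc] using this
  have h1 := card_le_of_le hle'
  rw [card_map_of_injective (MulEquiv.injective _), card_map_of_injective N.subtype_injective] at h1
  have h2 : Nat.card ↥P < Nat.card ↥(Q : Subgroup ↥N) := by
    by_contra hge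
    exact hlt.ne (eq_of_le_of_card_ge hlt.le (not_lt.1 hge))
  have h3 : Nat.card ↥P = Nat.card ↥((T : Subgroup G) ⊓ N) :=
    Nat.card_congr (subgroupOfEquivOfLe inf_le_right).toEquiv
  have hlt' : Nat.card ↥((T : Subgroup G) ⊓ normalizer (E' g : Set G)) <
      Nat.card ↥((T : Subgroup G) ⊓ normalizer (E' (h * g) : Set G)) := h3 ▸ h2.trans_le h1
  exact (not_le.2 hlt') (hmax (j := h * g) hle hlt'.le)

/-- The two-elements that normalise `E` and `U` centralise `U`. -/
def Axis (E U : Subgroup G) : Prop :=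
  ∀ n ∈ normalizer (E : Set G), n ∈ normalizer (U : Set G) → ∀ k : ℕ, n ^ 2 ^ k = 1 → ∀ u ∈ U, n * u * n⁻¹ = u

theorem axis_of_fully {T : Subgroup G} {E U : Subgroup G}
    (hodd : ¬ 2 ∣ (T ⊓ normalizer (E : Set G)).relIndex (normalizer (E : Set G)))
    (hTU : ∀ t ∈ T, ∀ u ∈ U, t * u = u * t) : Axis E U := by
  intro n hnE hnU k hk
  have hPK : T ⊓ normalizer (E : Set G) ≤ normalizer (E : Set G) ⊓ normalizer (U : Set G) :=
    le_inf inf_le_right fun t ht => mem_normalizer_iff.2 fun u => ⟨fun hu => by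
      rwa [hTU t ht.1 u hu, mul_inv_cancel_right], fun hu => by
      have := hTU t⁻¹ (inv_mem ht.1) _ hu
      have e : u = t⁻¹ * (t * u * t⁻¹) * t := by group
      rw [e, this, inv_mul_cancel_right]; exact hu⟩
  set K := normalizer (E : Set G) ⊓ normalizer (U : Set G)
  have hoddK : ¬ 2 ∣ (T ⊓ normalizer (E : Set G)).relIndex K := fun h => hodd (by
    rw [← relIndex_mul_relIndex _ _ _ hPK (inf_le_left : K ≤ normalizer (E : Set G))]
    exact dvd_mul_of_dvd_left h _)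
  have hM := two_elem_mem (M := K ⊓ centralizer (U : Set G)) hoddK
    (le_inf hPK fun t ht u hu => (hTU t ht.1 u hu).symm) inf_le_left (fun g hg => by
      refine mem_normalizer_iff.2 fun w => ?_
      have key : ∀ g ∈ K, ∀ w ∈ K ⊓ centralizer (U : Set G), g * w * g⁻¹ ∈ K ⊓ centralizer (U : Set G) := by
        intro g hg w hw
        refine ⟨K.mul_mem (K.mul_mem hg hw.1) (K.inv_mem hg), fun u hu => ?_⟩
        have h2 : g⁻¹ * u * g ∈ U := by
          have := (mem_normalizer_iff.1 ((inv_mem hg : g⁻¹ ∈ K).2) u).1 hu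
          simpa using this
        have h3 := hw.2 _ h2
        calc u * (g * w * g⁻¹) = g * ((g⁻¹ * u * g) * w) * g⁻¹ := by group
          _ = g * w * g⁻¹ * u := by rw [h3]; group
      exact ⟨key g hg w, fun h => by simpa [mul_assoc] using key g⁻¹ (inv_mem hg) _ h⟩)
    (show n ∈ K from ⟨hnE, hnU⟩) hk
  intro u hu
  rw [← hM.2 u hu, mul_inv_cancel_right]

/-- `π` is the translation by `l` with axis `W`. -/
def IsTrans (E W : Subgroup G) (π l : G) : Prop :=
  π ∈ normalizer (E : Set G) ∧ (∃ k : ℕ, π ^ 2 ^ k = 1) ∧ (∀ w ∈ W, π * w * π⁻¹ = w) ∧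
    ∀ e ∈ E, e ∉ W → π * e * π⁻¹ = e * l

theorem exists_meet {E U W : Subgroup G} (hUE : U ≤ E) (h4 : Nat.card ↥U = 4) (hW : W.relIndex E = 2)
    (hne : ¬ U ≤ W) : ∃ u ∈ U, u ∉ W ∧ ∃ l ∈ U, l ∈ W ∧ l ≠ 1 := by
  obtain ⟨u, hu, huW⟩ := SetLike.not_le_iff_exists.1 hne
  haveI : Finite ↥U := Nat.finite_of_card_ne_zero (by omega)
  obtain ⟨u', hu', h1, hu'u⟩ : ∃ u' ∈ U, u' ≠ 1 ∧ u' ≠ u := by
    by_contra hno
    push Not at hno
    have hs : Function.Surjective (fun b : Bool => if b then (⟨u, hu⟩ : ↥U) else 1) := fun v => by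
      by_cases hv : (v : G) = 1
      · exact ⟨false, by simpa using Subtype.ext hv.symm⟩
      · exact ⟨true, by simpa using Subtype.ext (hno v v.2 hv).symm⟩
    have := Nat.card_le_card_of_surjective _ hs
    simp [h4] at this
  refine ⟨u, hu, huW, ?_⟩
  by_cases h : u' ∈ W
  · exact ⟨u', hu', h, h1⟩
  · have := mul_mem_iff_of_index_two (H := W.subgroupOf E) hW (a := ⟨u⁻¹, inv_mem (hUE hu)⟩) (b := ⟨u', hUE hu'⟩)
    simp only [mem_subgroupOf, coe_mul] at this
    refine ⟨u⁻¹ * u', mul_mem (inv_mem hu) hu', ?_, fun h2 => hu'u (inv_mul_eq_one.1 h2).symm⟩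
    exact this.2 (iff_of_false (fun h2 => huW (inv_inv u ▸ inv_mem h2)) h)

/-- A group containing all translations of one axis determines this axis. -/
theorem axis_eq {E U W : Subgroup G} (hax : Axis E U) (hUE : U ≤ E) (h4 : Nat.card ↥U = 4)
    (hW : W.relIndex E = 2) (hWE : W ≤ E) (h4' : Nat.card ↥W = 4) (hfull : ∀ l ∈ W, ∃ π, IsTrans E W π l) :
    W = U := by
  haveI : Finite ↥U := Nat.finite_of_card_ne_zero (by omega)
  haveI : Finite ↥W := Nat.finite_of_card_ne_zero (by omega)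
  by_contra hne
  have hnle : ¬ U ≤ W := fun h => hne (eq_of_le_of_card_ge h (by omega)).symm
  obtain ⟨u, hu, huW, l, hlU, hlW, hl1⟩ := exists_meet hUE h4 hW hnle
  obtain ⟨π, hπE, ⟨k, hk⟩, hfix, hmov⟩ := hfull l hlW
  have key : ∀ v ∈ U, π * v * π⁻¹ ∈ U := fun v hv => by
    by_cases hvW : v ∈ W
    · rwa [hfix v hvW]
    · rw [hmov v (hUE hv) hvW]; exact mul_mem hv hlU
  have hπU : π ∈ normalizer (U : Set G) := by
    haveI : Finite (U : Set G) := ‹Finite ↥U›
    exact mem_normalizer_fintype key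
  have := hax π hπE hπU k hk u hu
  rw [hmov u (hUE hu) huW] at this
  exact hl1 (mul_eq_left.1 this)

/-- With all translations of axis `U`, every nontrivial translation has axis `U`. -/
theorem axis_eq_of_trans {E U W : Subgroup G} (hax : Axis E U) (hUE : U ≤ E) (h4 : Nat.card ↥U = 4)
    (hfull : ∀ l ∈ U, ∃ π, IsTrans E U π l) (hW : W.relIndex E = 2) (hWE : W ≤ E) (h4' : Nat.card ↥W = 4)
    (hexp : ∀ x ∈ E, x * x = 1) {τ c : G} (hc : c ∈ W) (hc1 : c ≠ 1)
    (hτ : IsTrans E W τ c) : W = U := by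
  haveI : Finite ↥U := Nat.finite_of_card_ne_zero (by omega)
  haveI : Finite ↥W := Nat.finite_of_card_ne_zero (by omega)
  haveI : Finite (U : Set G) := ‹Finite ↥U›
  by_contra hne
  have hnle : ¬ U ≤ W := fun h => hne (eq_of_le_of_card_ge h (by omega)).symm
  obtain ⟨u, hu, huW, l, hlU, hlW, hl1⟩ := exists_meet hUE h4 hW hnle
  obtain ⟨hτE, ⟨k, hk⟩, hfix, hmov⟩ := hτ
  by_cases hcU : c ∈ U
  · have key : ∀ v ∈ U, τ * v * τ⁻¹ ∈ U := fun v hv => by
      by_cases hvW : v ∈ W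
      · rwa [hfix v hvW]
      · rw [hmov v (hUE hv) hvW]; exact mul_mem hv hcU
    have := hax τ hτE (mem_normalizer_fintype key) k hk u hu
    rw [hmov u (hUE hu) huW] at this
    exact hc1 (mul_eq_left.1 this)
  · obtain ⟨π, hπE, ⟨j, hj⟩, hπfix, hπmov⟩ := hfull l hlU
    have hback : ∀ v ∈ E, τ⁻¹ * v * τ = v ∨ τ⁻¹ * v * τ = v * c := by
      intro v hv
      by_cases hvW : v ∈ W
      · left
        calc τ⁻¹ * v * τ = τ⁻¹ * (τ * v * τ⁻¹) * τ := by rw [hfix v hvW]
          _ = v := by group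
      · right
        have h2 : v * c ∉ W := fun h => hvW (by simpa using mul_mem h (inv_mem hc))
        have h3 := hmov _ (mul_mem hv (hWE hc)) h2
        rw [mul_assoc v c c, hexp c (hWE hc), mul_one] at h3
        calc τ⁻¹ * v * τ = τ⁻¹ * (τ * (v * c) * τ⁻¹) * τ := by rw [h3]
          _ = v * c := by group
    have hbackE : ∀ v ∈ E, τ⁻¹ * v * τ ∈ E := fun v hv => by
      rcases hback v hv with h | h <;> rw [h]
      exacts [hv, mul_mem hv (hWE hc)]
    have hn : ∀ v ∈ E, τ * π * τ⁻¹ * v * (τ * π * τ⁻¹)⁻¹ = v ∨ τ * π * τ⁻¹ * v * (τ * π * τ⁻¹)⁻¹ = v * l := by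
      intro v hv
      by_cases hvU : τ⁻¹ * v * τ ∈ U
      · left
        calc τ * π * τ⁻¹ * v * (τ * π * τ⁻¹)⁻¹ = τ * (π * (τ⁻¹ * v * τ) * π⁻¹) * τ⁻¹ := by group
          _ = v := by rw [hπfix _ hvU]; group
      · right
        calc τ * π * τ⁻¹ * v * (τ * π * τ⁻¹)⁻¹ = τ * (π * (τ⁻¹ * v * τ) * π⁻¹) * τ⁻¹ := by group
          _ = τ * (τ⁻¹ * v * τ * l) * τ⁻¹ := by rw [hπmov _ (hbackE v hv) hvU]
          _ = v * (τ * l * τ⁻¹) := by group
          _ = v * l := by rw [hfix l hlW]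
    have key : ∀ v ∈ U, τ * π * τ⁻¹ * v * (τ * π * τ⁻¹)⁻¹ ∈ U := fun v hv => by
      rcases hn v (hUE hv) with h | h <;> rw [h]
      exacts [hv, mul_mem hv hlU]
    have hk' : (τ * π * τ⁻¹) ^ 2 ^ j = 1 := by rw [conj_pow, hj, mul_one, mul_inv_cancel]
    have := hax _ (mul_mem (mul_mem hτE hπE) (inv_mem hτE)) (mem_normalizer_fintype key) j hk' u hu
    have hnu : τ⁻¹ * u * τ ∉ U := by
      rcases hback u (hUE hu) with h | h <;> intro hU'
      · have h' : τ * u * τ⁻¹ = u := by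
          conv_rhs => rw [show u = τ * (τ⁻¹ * u * τ) * τ⁻¹ by group, h]
        rw [hmov u (hUE hu) huW] at h'
        exact hc1 (mul_eq_left.1 h')
      · rw [h] at hU'
        exact hcU (by simpa using mul_mem (inv_mem hu) hU')
    have e : τ * π * τ⁻¹ * u * (τ * π * τ⁻¹)⁻¹ = u * l := by
      calc τ * π * τ⁻¹ * u * (τ * π * τ⁻¹)⁻¹ = τ * (π * (τ⁻¹ * u * τ) * π⁻¹) * τ⁻¹ := by group
        _ = τ * (τ⁻¹ * u * τ * l) * τ⁻¹ := by rw [hπmov _ (hbackE u (hUE hu)) hnu]
        _ = u * (τ * l * τ⁻¹) := by group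
        _ = u * l := by rw [hfix l hlW]
    rw [e] at this
    exact hl1 (mul_eq_left.1 this)

end CfsgLib.NormalRankTwo
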