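import Cfsg.Agent.Lib.NormalRankTwo.AbSmall
import Cfsg.Agent.Lib.NormalRankTwo.Trans
import Cfsg.Agent.Lib.Fusion.RankTwoSimple

/-!
# An abelian critical subgroup of exponent at least eight does not occur
-/

set_option autoImplicit false
set_option linter.unusedSectionVars false

namespace CfsgLib.NormalRankTwo

open Subgroup CfsgLib.MacWilliams CfsgLib.ThompsonLemma

variable {G : Type*} [Group G] [Finite G] {s : Ctx G}

/-- A two-subgroup of an overgroup of a Sylow subgroup is conjugate into it there. -/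
theorem exists_conj_into (P : Sylow 2 G) {H K : Subgroup G} (hPH : (P : Subgroup G) ≤ H) (hK : IsPGroup 2 ↥K)
    (hKH : K ≤ H) : ∃ h ∈ H, ∀ x ∈ K, h * x * h⁻¹ ∈ (P : Subgroup G) := by
  haveI := Fact.mk Nat.prime_two
  have hK' : IsPGroup 2 ↥(K.subgroupOf H) := hK.of_injective (subgroupOfEquivOfLe hKH).toMonoidHom
    (MulEquiv.injective _)
  obtain ⟨Q, hQ⟩ := hK'.exists_le_sylow
  obtain ⟨h, hh⟩ := MulAction.exists_smul_eq ↥H Q (P.subtype hPH)
  refine ⟨h, h.2, fun x hx => ?_⟩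
  have h1 : h * (⟨x, hKH hx⟩ : ↥H) * h⁻¹ ∈ ((h • Q : Sylow 2 ↥H) : Subgroup ↥H) :=
    ⟨⟨x, hKH hx⟩, hQ hx, by simp⟩
  rw [hh, Sylow.coe_subtype] at h1
  exact h1

namespace Frame

variable (F : Frame s)
include F

theorem lev_pow {i : ℕ} (hi : 2 ≤ i) {t : G} {M : M4} (h : F.Lev i t M) :
    ∀ n : ℕ, ∃ r, F.Lev (i + n) r M
  | 0 => ⟨t, h⟩
  | n + 1 => by
    obtain ⟨r, hr⟩ := lev_pow hi h n
    exact ⟨r * r, F.lev_sq (hi.trans (Nat.le_add_right _ _)) hr⟩

variable (h2 : 2 ≤ top (s := s))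
include h2

theorem mu_idem {x : G} (hx : x ∈ s.T) (hxx : x * x = 1) : mulM (F.mu x) (F.mu x) = F.mu x := by
  have h := F.lev_qq (F.lev_mu (by omega) hx)
  rw [hxx] at h
  have h0 := F.lev_unique h2 (F.lev_c (i := 2) (one_mem s.C)) h
  rw [qq] at h0
  calc mulM (F.mu x) (F.mu x) = F.mu x + (F.mu x + mulM (F.mu x) (F.mu x)) := by
        rw [← add_assoc, m4_self_add, zero_add]
    _ = F.mu x := by rw [← h0, add_zero]

theorem mem_u_of_mu_zero {x : G} (hx : x ∈ s.T) (hxx : x * x = 1) (h : F.mu x = 0) : x ∈ s.U := by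
  by_contra hxU
  have h4 : ∀ z ∈ s.C, z ^ 2 ^ 2 = 1 → cm x z = 1 := fun z hz hz4 => by
    obtain ⟨v, hv⟩ := F.iota_surj (F.mem_u' (pow_mem hz (2 ^ 1)) (by rw [← pow_add]; exact hz4))
    rw [(F.lev_mu (by omega) hx).2 z hz v hv.symm, h, app_zero, F.iota_zero]
  have hyy : ∀ d ∈ s.C, (cm x d) ^ 2 ^ 2 = 1 → cm x d * cm x d = 1 := fun d hd hy => by
    have e : cm (x * x) d = cm x (cm x d) * cm x d * cm x d := cm_left
    rw [h4 _ (F.cm_mem hx hd) hy, one_mul, hxx] at e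
    rw [← e, cm]; group
  have key : ∀ i, i ≤ top (s := s) → ∀ c ∈ s.C, c ^ 2 ^ i = 1 → cm x c = 1 := by
    intro i
    induction i with
    | zero => intro _ c _ hc; rw [pow_zero, pow_one] at hc; rw [hc, cm_one]
    | succ i ih =>
      intro hi c hc hci
      obtain ⟨d, hd, rfl⟩ := F.exists_sqrt (i + 1) hi c hc hci
      have hy : cm x d * cm x d = cm x (d * d) := (F.cm_right hx hd hd).symm
      rw [← hy]
      refine hyy d hd ?_
      have h1 : cm x (d * d * (d * d)) = 1 := ih (by omega) _ (mul_mem hc hc) (by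
        rw [← pow_two (d * d), ← pow_mul, ← pow_succ']; exact hci)
      rw [F.cm_right hx hc hc, ← hy] at h1
      rw [show (2 : ℕ) ^ 2 = 2 * 2 from rfl, pow_mul, pow_two, pow_two]
      exact h1
  have hall : ∀ c ∈ s.C, cm x c ∈ s.U := fun c hc => by
    refine F.mem_u' (F.cm_mem hx hc) ?_
    rw [← F.cm_right hx hc hc]
    refine key _ le_rfl _ (mul_mem hc hc) ?_
    rw [← pow_two, ← pow_mul, ← pow_succ']; exact pow_top hc
  refine F.normal_false hx hxx hxU fun t ht => ?_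
  have hinv : x⁻¹ = x := inv_eq_of_mul_eq_one_left hxx
  set d := x⁻¹ * (t * x * t⁻¹) with hd
  have hdT : d ∈ s.T := mul_mem (inv_mem hx) (mul_mem (mul_mem ht hx) (inv_mem ht))
  have hdC : d ∈ s.C := by
    refine s.z_le_c (s.mem_z_of_cent hdT fun c hc => ?_)
    have hc' : t⁻¹ * c * t ∈ s.C := by
      have := s.conj_c (inv_mem ht) hc; rwa [inv_inv] at this
    have e1 : cm x (t⁻¹ * c * t) = cm x c := by
      have e : t⁻¹ * c * t = cm t⁻¹ c * c := by unfold cm; group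
      rw [e, F.cm_right hx (F.cm_mem (inv_mem ht) hc) hc]
      rw [key _ le_rfl _ (F.cm_mem (inv_mem ht) hc) ?_, one_mul]
      rw [← F.cm_pow (inv_mem ht) hc]
      refine F.cm_u (inv_mem ht) (F.mem_u' (pow_mem hc _) ?_)
      rw [← pow_add, ← two_mul, ← pow_succ']; exact pow_top hc
    have e2 : t * x * t⁻¹ * c * (t * x * t⁻¹)⁻¹ = x * c * x⁻¹ := by
      calc t * x * t⁻¹ * c * (t * x * t⁻¹)⁻¹ = t * cm x (t⁻¹ * c * t) * t⁻¹ * c := by unfold cm; group
        _ = cm x c * c := by rw [e1, F.htu t ht _ (hall c hc), mul_inv_cancel_right]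
        _ = _ := by unfold cm; group
    calc d * c = x⁻¹ * (t * x * t⁻¹ * c * (t * x * t⁻¹)⁻¹) * (t * x * t⁻¹) := by rw [hd]; group
      _ = c * d := by rw [e2, hd]; group
  have hxd : (x * d) * (x * d) = 1 := by
    rw [hd, mul_inv_cancel_left, show t * x * t⁻¹ * (t * x * t⁻¹) = t * (x * x) * t⁻¹ by group, hxx]; group
  have hcm : cm x d = (d * d)⁻¹ := by
    have e : x * d * x⁻¹ = d⁻¹ := by
      rw [hinv]; exact eq_inv_of_mul_eq_one_left (by rw [mul_assoc (x * d) x d]; exact hxd)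
    rw [cm, e, ← mul_inv_rev]
  have h1 := hall d hdC
  rw [hcm] at h1
  have hd4 : d ^ 2 ^ 2 = 1 := by
    have := h1.2
    rw [← mul_inv_rev, inv_eq_one] at this
    rw [show (2 : ℕ) ^ 2 = 2 * 2 from rfl, pow_mul, pow_two, pow_two]; exact this
  have hd1 := key _ le_rfl d hdC (by
    obtain ⟨k, hk⟩ : ∃ k, top (s := s) = 2 + k := ⟨top (s := s) - 2, by omega⟩
    rw [hk, pow_add, pow_mul, hd4, one_pow])
  have hdd : d * d = 1 := by rw [hcm, inv_eq_one] at hd1; exact hd1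
  have : t * x * t⁻¹ * x⁻¹ = d := by
    have h3 : x * d * x⁻¹ = d := mul_inv_eq_iff_eq_mul.2 (cm_eq_one.1 hd1)
    rw [hd] at h3 ⊢
    rw [← h3]; group
  rw [this]
  exact F.mem_u' hdC hdd

/-- No projection of rank one occurs. -/
theorem mu_eq_id {x : G} (hx : x ∈ s.T) (hxx : x * x = 1) (hxU : x ∉ s.U) : F.mu x = idM := by
  by_contra hne
  set e := F.mu x with he
  have hid := F.mu_idem h2 hx hxx
  have he0 : e ≠ 0 := fun h => hxU (F.mem_u_of_mu_zero h2 hx hxx h)
  have hgen := proj_gens e hid he0 hne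
  have h1 : 1 ≤ top (s := s) := by omega
  have hxa := (mem_normalizer_iff.1 s.haT x).1 hx
  have hxaa := (mem_normalizer_iff.1 s.haT _).1 hxa
  obtain ⟨r, hr, hrmu⟩ := F.mu_avg h1 hx
  have up : ∀ t ∈ s.T, ∃ h, F.Lev (top (s := s)) h (qq (F.mu t)) := fun t ht => by
    have := F.lev_pow le_rfl (F.lev_qq (F.lev_mu h1 ht)) (top (s := s) - 2)
    rwa [show 2 + (top (s := s) - 2) = top (s := s) by omega] at this
  obtain ⟨p₁, hp₁⟩ := up r hr
  obtain ⟨p₂, hp₂⟩ := up _ (mul_mem hx hxa)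
  obtain ⟨p₃, hp₃⟩ := up _ (mul_mem hxa hxaa)
  rw [hrmu] at hp₁
  rw [F.mu_mul h1 hx hxa, F.mu_a h1 hx] at hp₂
  rw [F.mu_mul h1 hxa hxaa, F.mu_a h1 hxa, F.mu_a h1 hx] at hp₃
  have hL₂ := F.lev_mul hp₁ hp₂
  have hL₃ := F.lev_mul hp₁ hp₃
  set N₁ := qq (avg e) with hN₁
  set N₂ := qq (avg e) + qq (e + cj e) with hN₂
  set N₃ := qq (avg e) + qq (cj e + cj (cj e)) with hN₃
  let N : Subgroup G :=
    { carrier := {c | c ∈ s.C ∧ c ^ 2 ^ top (s := s) = 1}
      one_mem' := ⟨one_mem _, one_pow _⟩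
      mul_mem' := fun {c d} hc hd => ⟨mul_mem hc.1 hd.1, by
        rw [(show Commute c d from F.cc hc.1 hd.1).mul_pow, hc.2, hd.2, one_mul]⟩
      inv_mem' := fun {c} hc => ⟨inv_mem hc.1, by rw [inv_pow, hc.2, inv_one]⟩ }
  have hNn : s.T ≤ normalizer (N : Set G) := le_normalizer_of_conj fun t ht c hc =>
    ⟨s.conj_c ht hc.1, by rw [conj_pow, hc.2, mul_one, mul_inv_cancel]⟩
  have hcmU : ∀ {h : G} {M : M4}, F.Lev (top (s := s)) h M → ∀ c ∈ s.C, cm h c ∈ s.U := fun {h M} hL c hc => by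
    obtain ⟨v, hv⟩ := F.iota_surj (F.mem_u' (pow_mem hc (2 ^ top (s := s))) (by
      rw [← pow_add, ← two_mul, ← pow_succ']; exact pow_top hc))
    rw [hL.2 c hc v hv.symm]
    exact F.iota_mem _
  have hcent : ∀ {h : G} {M : M4}, F.Lev (top (s := s)) h M → ∀ c ∈ s.C, c ^ 2 ^ top (s := s) = 1 →
      h * c = c * h := fun hL c hc hct => cm_eq_one.1 ((F.lev_q hL).2 c hc hct)
  have hsq : ∀ {h : G} {M : M4}, F.Lev (top (s := s)) h M → Inv M → h * h ∈ N := fun {h M} hL hM => by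
    have hC : h * h ∈ s.C := s.z_le_c (s.mem_z_of_cent (mul_mem hL.1 hL.1) fun c hc => cm_eq_one.1 (by
      rw [cm_left, F.cm_u hL.1 (hcmU hL c hc), one_mul, (hcmU hL c hc).2]))
    refine ⟨hC, ?_⟩
    obtain ⟨v, hv⟩ := F.iota_surj (F.mem_u' (pow_mem hC (2 ^ top (s := s))) (by
      rw [← pow_add, ← two_mul, ← pow_succ']; exact pow_top hC))
    have h3 := hL.2 _ hC v hv.symm
    rw [show cm h (h * h) = 1 from cm_eq_one.2 (mul_assoc h h h).symm] at h3
    rw [← hv, hM v (F.iota_eq_one h3.symm), F.iota_zero]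
  have hpow4 : ∀ c ∈ s.C, c ^ 2 ^ 2 = 1 → c ∈ N := fun c hc h => ⟨hc, by
    obtain ⟨k, hk⟩ : ∃ k, top (s := s) = 2 + k := ⟨top (s := s) - 2, by omega⟩
    rw [hk, pow_add, pow_mul, h, one_pow]⟩
  have hcomm : ∀ {h k : G} {M M' : M4}, F.Lev (top (s := s)) h M → F.Lev (top (s := s)) k M' → h * h ∈ N →
      h * k * h⁻¹ * k⁻¹ ∈ N := fun {h k M M'} hL hL' hhN => by
    set w := h * k * h⁻¹ * k⁻¹ with hw
    have hwT : w ∈ s.T := mul_mem (mul_mem (mul_mem hL.1 hL'.1) (inv_mem hL.1)) (inv_mem hL'.1)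
    have hwC : w ∈ s.C := s.z_le_c (s.mem_z_of_cent hwT fun c hc => by
      have hc' : (k * h)⁻¹ * c * (k * h) ∈ s.C := by
        have := s.conj_c (inv_mem (mul_mem hL'.1 hL.1)) hc
        rwa [inv_inv] at this
      set q := (k * h)⁻¹ * c * (k * h)
      have e1 : cm (h * k) q = cm (k * h) q := by
        rw [cm_left, cm_left, F.cm_u hL.1 (hcmU hL' q hc'), F.cm_u hL'.1 (hcmU hL q hc'), one_mul, one_mul,
          s.z_ab _ (hcmU hL' q hc').1 _ (hcmU hL q hc').1]
      have e2 : h * k * q * (h * k)⁻¹ = c := by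
        calc h * k * q * (h * k)⁻¹ = cm (h * k) q * q := by unfold cm; group
          _ = cm (k * h) q * q := by rw [e1]
          _ = c := by simp only [cm, q]; group
      calc w * c = h * k * q * (h * k)⁻¹ * w := by simp only [w, q]; group
        _ = c * w := by rw [e2])
    refine hpow4 w hwC ?_
    have hk2 : k * (h * h) = h * h * k := hcent hL' _ hhN.1 hhN.2
    have e3 : cm h w = (w * w)⁻¹ := by
      have : h * w * h⁻¹ * w = 1 := by
        calc h * w * h⁻¹ * w = (h * h * k) * (h * h)⁻¹ * k⁻¹ := by simp only [w]; group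
          _ = 1 := by rw [← hk2]; group
      rw [cm, eq_inv_of_mul_eq_one_left this, ← mul_inv_rev]
    have h5 := (hcmU hL w hwC).2
    rw [e3, ← mul_inv_rev, inv_eq_one] at h5
    rw [show (2 : ℕ) ^ 2 = 2 * 2 from rfl, pow_mul, pow_two, pow_two]; exact h5
  choose rt hrt hrtv using fun v => F.exists_root (le_refl (top (s := s))) v
  let S : Set G := (s.C : Set G) ∪ {p₁, p₁ * p₂, p₁ * p₃}
  let H : Subgroup G := closure S
  have hST : S ⊆ s.T := Set.union_subset s.hCT (by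
    rintro w (rfl | rfl | rfl)
    exacts [hp₁.1, hL₂.1, hL₃.1])
  have hHT : H ≤ s.T := (closure_le _).2 hST
  have hCS : ∀ c ∈ s.C, c * c ∈ N := fun c hc => ⟨mul_mem hc hc, by
    rw [← pow_two, ← pow_mul, ← pow_succ']; exact pow_top hc⟩
  have hgsq : ∀ g ∈ S, g * g ∈ N := by
    rintro g (hg | rfl | rfl | rfl)
    exacts [hCS g hg, hsq hp₁ (hgen 0 0 0).1, hsq hL₂ (hgen 0 0 0).2.1, hsq hL₃ (hgen 0 0 0).2.2.1]
  have hSlev : ∀ g ∈ S, ∃ M, F.Lev (top (s := s)) g M := by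
    rintro g (hg | rfl | rfl | rfl)
    exacts [⟨0, F.lev_c hg⟩, ⟨_, hp₁⟩, ⟨_, hL₂⟩, ⟨_, hL₃⟩]
  let N' := N.subgroupOf s.T
  haveI : N'.Normal := ⟨fun c hc t => (mem_normalizer_iff.1 (hNn t.2) _).1 hc⟩
  let π := QuotientGroup.mk' N'
  have hπ : ∀ g : ↥s.T, π g = 1 ↔ (g : G) ∈ N := fun g => (QuotientGroup.eq_one_iff g).trans Iff.rfl
  haveI : IsMulCommutative ↥(closure (π '' {g : ↥s.T | (g : G) ∈ S})) := isMulCommutative_closure (by
    rintro _ ⟨g, hg, rfl⟩ _ ⟨g', hg', rfl⟩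
    obtain ⟨M, hM⟩ := hSlev g hg
    obtain ⟨M', hM'⟩ := hSlev g' hg'
    have := (hπ (g * g' * g⁻¹ * g'⁻¹)).2 (hcomm hM hM' (hgsq g hg))
    simpa [map_mul, map_inv, mul_inv_eq_one, mul_inv_eq_iff_eq_mul] using this)
  have hHN : ∀ g ∈ H, g * g ∈ N := by
    have key : ∀ g ∈ H, ∃ hg : g ∈ s.T, π ⟨g, hg⟩ ∈ closure (π '' {g : ↥s.T | (g : G) ∈ S}) ∧
        π ⟨g, hg⟩ * π ⟨g, hg⟩ = 1 := by
      intro g hg
      induction hg using closure_induction with
      | mem g hg => exact ⟨hST hg, subset_closure ⟨⟨g, hST hg⟩, hg, rfl⟩, (hπ _).2 (hgsq g hg)⟩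
      | one => exact ⟨one_mem _, one_mem _, one_mul 1⟩
      | mul g k _ _ ihg ihk =>
        obtain ⟨hg, hg1, hg2⟩ := ihg
        obtain ⟨hk, hk1, hk2⟩ := ihk
        refine ⟨mul_mem hg hk, mul_mem hg1 hk1, ?_⟩
        have hc : π ⟨k, hk⟩ * π ⟨g, hg⟩ = π ⟨g, hg⟩ * π ⟨k, hk⟩ :=
          congrArg Subtype.val (mul_comm' (⟨_, hk1⟩ : ↥(closure (π '' {g : ↥s.T | (g : G) ∈ S}))) ⟨_, hg1⟩)
        show π ⟨g, hg⟩ * π ⟨k, hk⟩ * (π ⟨g, hg⟩ * π ⟨k, hk⟩) = 1
        rw [mul_assoc, ← mul_assoc (π ⟨k, hk⟩), hc, mul_assoc, hk2, mul_one, hg2]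
      | inv g _ ih =>
        obtain ⟨hg, hg1, hg2⟩ := ih
        refine ⟨inv_mem hg, inv_mem hg1, ?_⟩
        show (π ⟨g, hg⟩)⁻¹ * (π ⟨g, hg⟩)⁻¹ = 1
        rw [← mul_inv_rev, hg2, inv_one]
    intro g hg
    obtain ⟨hgT, -, h3⟩ := key g hg
    exact (hπ (⟨g, hgT⟩ * ⟨g, hgT⟩)).1 h3
  have hNH : N ≤ H := fun c hc => subset_closure (Or.inl hc.1)
  have h16 := s.relIndex_le_sixteen hHT hNH (hHT.trans hNn) hHN
  let pw : G → ZMod 2 → G := fun g b => if b = 0 then 1 else g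
  let f : V2 × ZMod 2 × ZMod 2 × ZMod 2 → ↥H := fun q => ⟨rt q.1 * (pw p₁ q.2.1 * pw (p₁ * p₂) q.2.2.1 *
    pw (p₁ * p₃) q.2.2.2), by
      refine mul_mem (subset_closure (Or.inl (hrt _))) (mul_mem (mul_mem ?_ ?_) ?_) <;>
        (simp only [pw]; split_ifs <;> first | exact one_mem _ | exact subset_closure (Or.inr (by simp)))⟩
  have hpw : ∀ {g : G} {M : M4}, F.Lev (top (s := s)) g M → ∀ b, F.Lev (top (s := s)) (pw g b) (if b = 0 then 0 else M) :=
    fun hg b => by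
      simp only [pw]; split_ifs
      exacts [F.lev_c (one_mem _), hg]
  let comb : ZMod 2 × ZMod 2 × ZMod 2 → M4 := fun b =>
    (if b.1 = 0 then 0 else N₁) + (if b.2.1 = 0 then 0 else N₂) + (if b.2.2 = 0 then 0 else N₃)
  have hfl : ∀ q, F.Lev (top (s := s)) (f q : G) (comb q.2) := fun q => by
    have := F.lev_mul (F.lev_c (i := top (s := s)) (hrt q.1))
      (F.lev_mul (F.lev_mul (hpw hp₁ q.2.1) (hpw hL₂ q.2.2.1)) (hpw hL₃ q.2.2.2))
    rwa [zero_add] at this
  have hcomb : ∀ b b', comb b = comb b' → b = b' := by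
    intro b b' h
    by_contra hne'
    have hadd : ∀ p q : ZMod 2, ∀ X : M4,
        (if p + q = 0 then 0 else X) = (if p = 0 then 0 else X) + (if q = 0 then 0 else X) := by
      intro p q X
      have h01 : ∀ p : ZMod 2, p = 0 ∨ p = 1 := by decide
      rcases h01 p with rfl | rfl <;> rcases h01 q with rfl | rfl <;>
        simp [show (1 : ZMod 2) + 1 = 0 by decide, m4_self_add]
    refine (hgen (b.1 + b'.1) (b.2.1 + b'.2.1) (b.2.2 + b'.2.2)).2.2.2 (fun h0 => hne' ?_) ?_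
    · simp only [Prod.mk_eq_zero] at h0
      have e : ∀ p q : ZMod 2, p + q = 0 → p = q := by decide
      exact Prod.ext (e _ _ h0.1) (Prod.ext (e _ _ h0.2.1) (e _ _ h0.2.2))
    · rw [hadd, hadd, hadd]
      calc _ = comb b + comb b' := by simp only [comb]; abel
        _ = 0 := by rw [h, m4_self_add]
  let f' : V2 × ZMod 2 × ZMod 2 × ZMod 2 → ↥H ⧸ N.subgroupOf H := fun q => (f q : ↥H ⧸ N.subgroupOf H)
  have hinj : Function.Injective f' := by
    rintro ⟨v, b⟩ ⟨v', b'⟩ h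
    have hn : ((f (v, b) : G))⁻¹ * (f (v', b') : G) ∈ N := (QuotientGroup.eq (s := N.subgroupOf H)).1 h
    set n := ((f (v, b) : G))⁻¹ * (f (v', b') : G) with hn'
    have hprod : (f (v', b') : G) = f (v, b) * n := by rw [hn', mul_inv_cancel_left]
    have hb : b = b' := by
      refine hcomb b b' (F.lev_unique le_rfl ?_ (hfl (v', b')))
      have := F.lev_mul (hfl (v, b)) (F.lev_c (i := top (s := s)) hn.1)
      rw [add_zero, ← hprod] at this
      exact this
    subst hb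
    set W : G := pw p₁ b.1 * pw (p₁ * p₂) b.2.1 * pw (p₁ * p₃) b.2.2 with hW
    have hWL : F.Lev (top (s := s)) W (comb b) := F.lev_mul (F.lev_mul (hpw hp₁ b.1) (hpw hL₂ b.2.1)) (hpw hL₃ b.2.2)
    have e : rt v' = rt v * (W * n * W⁻¹) := by
      have : rt v' * W = rt v * W * n := hprod
      rw [← eq_mul_inv_iff_mul_eq] at this
      rw [this]; group
    have hwn : (W * n * W⁻¹) ^ 2 ^ top (s := s) = 1 := by rw [conj_pow, hn.2, mul_one, mul_inv_cancel]
    have hv : F.iota v' = F.iota v := by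
      rw [← hrtv v', e, (show Commute (rt v) (W * n * W⁻¹) from F.cc (hrt v) (s.conj_c hWL.1 hn.1)).mul_pow, hwn,
        mul_one, hrtv]
    exact Prod.ext (F.iota_inj hv).symm rfl
  have h32 := Nat.card_le_card_of_injective f' hinj
  rw [← index_eq_card] at h32
  simp only [Nat.card_prod, Nat.card_zmod] at h32
  change N.relIndex H ≤ 16 at h16
  rw [relIndex] at h16
  omega

theorem card_u : Nat.card ↥s.U = 4 := by
  rw [← Nat.card_congr (Equiv.ofBijective (fun v : V2 => (⟨F.iota v, F.iota_mem v⟩ : ↥s.U))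
    ⟨fun v w h => F.iota_inj (congrArg Subtype.val h), fun u => by
      obtain ⟨v, hv⟩ := F.iota_surj u.2; exact ⟨v, Subtype.ext hv⟩⟩)]
  simp

/-- Elementary abelian subgroups of order eight contain `U` and carry all translations of axis `U`. -/
theorem member {E : Subgroup G} (hET : E ≤ s.T) (hab : ∀ x ∈ E, ∀ y ∈ E, x * y = y * x)
    (hsq : ∀ x ∈ E, x * x = 1) (h8 : Nat.card ↥E = 8) :
    s.U ≤ E ∧ ∀ l ∈ s.U, ∃ π ∈ s.T, IsTrans E s.U π l := by
  classical
  have h1 : 1 ≤ top (s := s) := by omega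
  obtain ⟨x, hx, hxU⟩ : ∃ x ∈ E, x ∉ s.U := by
    by_contra h
    push Not at h
    have := card_le_of_le (show E ≤ s.U from h)
    have := s.card_u_le
    omega
  have hmem : ∀ y ∈ E, y ∈ s.U ∨ x * y ∈ s.U := fun y hy => by
    by_cases hyU : y ∈ s.U
    · exact Or.inl hyU
    refine Or.inr (F.mem_u_of_mu_zero h2 (mul_mem (hET hx) (hET hy)) (hsq _ (mul_mem hx hy)) ?_)
    rw [F.mu_mul h1 (hET hx) (hET hy), F.mu_eq_id h2 (hET hx) (hsq x hx) hxU,
      F.mu_eq_id h2 (hET hy) (hsq y hy) hyU, m4_self_add]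
  have hsub : (E : Set G) ⊆ (s.U : Set G) ∪ (fun u => x * u) '' (s.U : Set G) := fun y hy => by
    rcases hmem y hy with h | h
    · exact Or.inl h
    · exact Or.inr ⟨x * y, h, show x * (x * y) = y by rw [← mul_assoc, hsq x hx, one_mul]⟩
  have hUE : s.U ≤ E := by
    have hU4 : (s.U : Set G).ncard = 4 := by rw [← Nat.card_coe_set_eq]; exact F.card_u h2
    have e := Set.eq_of_subset_of_ncard_le hsub (by
      refine (Set.ncard_union_le _ _).trans ?_
      have := Set.ncard_image_le (f := fun u => x * u) (s := (s.U : Set G)) (Set.toFinite _)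
      have hE : (E : Set G).ncard = 8 := by rw [← Nat.card_coe_set_eq]; exact h8
      omega) (Set.toFinite _)
    intro u hu
    show u ∈ (E : Set G)
    rw [e]; exact Or.inl hu
  refine ⟨hUE, fun l hl => ?_⟩
  obtain ⟨v, rfl⟩ := F.iota_surj hl
  obtain ⟨c, hc, hcv⟩ := F.exists_root h1 v
  have hmov : ∀ e ∈ E, e ∉ s.U → c * e * c⁻¹ = e * F.iota v := fun e he heU => by
    have h := (F.lev_mu h1 (hET he)).2 c hc v hcv
    rw [F.mu_eq_id h2 (hET he) (hsq e he) heU, app_idM] at h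
    have hlU := F.iota_mem v
    calc c * e * c⁻¹ = (cm e c)⁻¹ * e := by unfold cm; group
      _ = F.iota v * e := by rw [h, inv_eq_of_mul_eq_one_left hlU.2]
      _ = e * F.iota v := (F.htu e (hET he) _ hlU).symm
  have hfix : ∀ u ∈ s.U, c * u * c⁻¹ = u := fun u hu => by rw [F.cc hc (F.u_c hu), mul_inv_cancel_right]
  refine ⟨c, s.hCT hc, ?_, ⟨_, pow_top hc⟩, hfix, hmov⟩
  haveI : Finite (E : Set G) := Finite.of_injective (fun x : (E : Set G) => (x : G)) Subtype.val_injective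
  refine mem_normalizer_fintype fun e he => ?_
  by_cases heU : e ∈ s.U
  · show c * e * c⁻¹ ∈ E
    rw [hfix e heU]; exact hUE heU
  · show c * e * c⁻¹ ∈ E
    rw [hmov e he heU]; exact mul_mem he (hUE hl)

/-- An involution outside `U` is not fused into `U`. -/
theorem not_fused (P : Sylow 2 G) (hP : (P : Subgroup G) = s.T) {x g : G} (hx : x ∈ s.T) (hxx : x * x = 1)
    (hxU : x ∉ s.U) (hg : g * x * g⁻¹ ∈ s.U) : False := by
  have h4 := F.card_u h2
  let E : Subgroup G := closure (insert x (s.U : Set G))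
  haveI : IsMulCommutative ↥E := isMulCommutative_closure (by
    rintro p (rfl | hp) q (rfl | hq)
    · rfl
    · exact F.htu p hx q hq
    · exact (F.htu q hx p hp).symm
    · exact s.z_ab p hp.1 q hq.1)
  have hEab : ∀ p ∈ E, ∀ q ∈ E, p * q = q * p := fun p hp q hq =>
    congrArg Subtype.val (mul_comm' (⟨p, hp⟩ : ↥E) ⟨q, hq⟩)
  have hET : E ≤ s.T := (closure_le _).2 (Set.insert_subset hx fun u hu => s.z_le_t hu.1)
  have hsqE : E ≤ omega E hEab := (closure_le _).2 (Set.insert_subset ⟨subset_closure (Or.inl rfl), hxx⟩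
    fun u hu => ⟨subset_closure (Or.inr hu), hu.2⟩)
  have hE8 : Nat.card ↥E = 8 := by
    have hle : (E : Set G) ⊆ (s.U : Set G) ∪ (fun u => x * u) '' (s.U : Set G) := fun y hy => by
      by_cases hyU : y ∈ s.U
      · exact Or.inl hyU
      have h0 : F.mu (x * y) = 0 := by
        rw [F.mu_mul (by omega) hx (hET hy), F.mu_eq_id h2 hx hxx hxU,
          F.mu_eq_id h2 (hET hy) (hsqE hy).2 hyU, m4_self_add]
      exact Or.inr ⟨x * y, F.mem_u_of_mu_zero h2 (mul_mem hx (hET hy))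
        (hsqE (mul_mem (subset_closure (Or.inl rfl)) hy)).2 h0, show x * (x * y) = y by rw [← mul_assoc, hxx, one_mul]⟩
    have hge : (s.U : Set G) ∪ (fun u => x * u) '' (s.U : Set G) ⊆ E := by
      rintro y (hy | ⟨u, hu, rfl⟩)
      exacts [subset_closure (Or.inr hy), mul_mem (subset_closure (Or.inl rfl)) (subset_closure (Or.inr hu))]
    rw [← SetLike.coe_sort_coe, Nat.card_coe_set_eq, Set.Subset.antisymm hle hge, Set.ncard_union_eq (by
      rw [Set.disjoint_left]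
      rintro y hy ⟨u, hu, rfl⟩
      exact hxU (by simpa using mul_mem hy (inv_mem hu))) (Set.toFinite _) (Set.toFinite _),
      Set.ncard_image_of_injective _ (mul_right_injective x), ← Nat.card_coe_set_eq]
    show Nat.card ↥s.U + Nat.card ↥s.U = 8
    omega
  have hEP : E ≤ (P : Subgroup G) := hP ▸ hET
  -- move the whole subgroup into `T`
  obtain ⟨g', hg', hg'x⟩ : ∃ g' : G, (∀ e ∈ E, g' * e * g'⁻¹ ∈ s.T) ∧ g' * x * g'⁻¹ ∈ s.U := by
    have hcen : (P : Subgroup G) ≤ centralizer ({g * x * g⁻¹} : Set G) := fun t ht => by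
      rw [mem_centralizer_singleton_iff]; exact F.htu t (hP ▸ ht) _ hg
    have hEg : E.map (MulAut.conj g).toMonoidHom ≤ centralizer ({g * x * g⁻¹} : Set G) := by
      rintro _ ⟨e, he, rfl⟩
      rw [mem_centralizer_singleton_iff]
      show g * e * g⁻¹ * (g * x * g⁻¹) = g * x * g⁻¹ * (g * e * g⁻¹)
      rw [show g * e * g⁻¹ * (g * x * g⁻¹) = g * (e * x) * g⁻¹ by group, hEab e he x (subset_closure (Or.inl rfl))]
      group
    obtain ⟨h, hh, hhT⟩ := exists_conj_into P hcen ((P.2.to_le hEP).map _) hEg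
    refine ⟨h * g, fun e he => ?_, ?_⟩
    · have := hhT _ ⟨e, he, rfl⟩
      rw [hP] at this
      simpa [mul_assoc] using this
    · rw [mem_centralizer_singleton_iff] at hh
      rw [show h * g * x * (h * g)⁻¹ = h * (g * x * g⁻¹) * h⁻¹ by group, hh, mul_inv_cancel_right]
      exact hg
  obtain ⟨k, hkT, hkodd⟩ := exists_fully P hEP
  rw [hP] at hkodd hkT
  set E₁ := E.map (MulAut.conj k).toMonoidHom with hE₁
  have memmap : ∀ y, y ∈ E₁ ↔ k⁻¹ * y * k ∈ E := fun y => by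
    rw [hE₁, mem_map_equiv]; simp [mul_assoc]
  have h81 : Nat.card ↥E₁ = 8 := by rw [hE₁, card_map_of_injective (MulEquiv.injective _), hE8]
  have hab1 : ∀ p ∈ E₁, ∀ q ∈ E₁, p * q = q * p := fun p hp q hq => by
    have := congrArg (fun w => k * w * k⁻¹) (hEab _ ((memmap p).1 hp) _ ((memmap q).1 hq))
    simpa [mul_assoc] using this
  have hsq1 : ∀ p ∈ E₁, p * p = 1 := fun p hp => by
    have := (hsqE ((memmap p).1 hp)).2
    have := congrArg (fun w => k * w * k⁻¹) this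
    simpa [mul_assoc] using this
  obtain ⟨hU1, -⟩ := F.member h2 hkT hab1 hsq1 h81
  have hax : Axis E₁ s.U := axis_of_fully hkodd F.htu
  have key : ∀ m : G, (∀ e ∈ E₁, m * e * m⁻¹ ∈ s.T) → ∀ u ∈ s.U, m⁻¹ * u * m ∈ s.U := by
    intro m hm
    set E₂ := E₁.map (MulAut.conj m).toMonoidHom with hE₂
    have h2T : E₂ ≤ s.T := by rintro _ ⟨e, he, rfl⟩; exact hm e he
    have mm : ∀ y, y ∈ E₂ ↔ m⁻¹ * y * m ∈ E₁ := fun y => by rw [hE₂, mem_map_equiv]; simp [mul_assoc]
    obtain ⟨hU2, htr⟩ := F.member h2 h2T (fun p hp q hq => by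
        have := congrArg (fun w => m * w * m⁻¹) (hab1 _ ((mm p).1 hp) _ ((mm q).1 hq))
        simpa [mul_assoc] using this) (fun p hp => by
        have := congrArg (fun w => m * w * m⁻¹) (hsq1 _ ((mm p).1 hp))
        simpa [mul_assoc] using this) (by rw [hE₂, card_map_of_injective (MulEquiv.injective _), h81])
    set W := s.U.map (MulAut.conj m⁻¹).toMonoidHom with hW
    have mW : ∀ y, y ∈ W ↔ m * y * m⁻¹ ∈ s.U := fun y => by rw [hW, mem_map_equiv]; simp [mul_assoc]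
    have hWE : W ≤ E₁ := fun y hy => by
      have := (mm _).1 (hU2 ((mW y).1 hy))
      simpa [mul_assoc] using this
    have hW4 : Nat.card ↥W = 4 := by rw [hW, card_map_of_injective (MulEquiv.injective _), h4]
    have hWi : W.relIndex E₁ = 2 := by
      have := card_mul_index (W.subgroupOf E₁)
      rw [Nat.card_congr (subgroupOfEquivOfLe hWE).toEquiv, hW4, h81] at this
      rw [relIndex]; omega
    have hfull : ∀ l ∈ W, ∃ π, IsTrans E₁ W π l := by
      intro l hl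
      obtain ⟨π, -, hπE, ⟨j, hj⟩, hπfix, hπmov⟩ := htr _ ((mW l).1 hl)
      refine ⟨m⁻¹ * π * m, ?_, ⟨j, ?_⟩, fun w hw => ?_, fun e he heW => ?_⟩
      · refine mem_normalizer_iff.2 fun y => ?_
        have h0 := mem_normalizer_iff.1 hπE (m * y * m⁻¹)
        simp only [mm] at h0
        simpa [mul_assoc] using h0
      · have e := conj_pow (a := m⁻¹) (b := π) (i := 2 ^ j)
        rw [inv_inv] at e
        rw [e, hj, mul_one, inv_mul_cancel]
      · calc m⁻¹ * π * m * w * (m⁻¹ * π * m)⁻¹ = m⁻¹ * (π * (m * w * m⁻¹) * π⁻¹) * m := by group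
          _ = w := by rw [hπfix _ ((mW w).1 hw)]; group
      · have he2 : m * e * m⁻¹ ∈ E₂ := (mm _).2 (by simpa [mul_assoc] using he)
        calc m⁻¹ * π * m * e * (m⁻¹ * π * m)⁻¹ = m⁻¹ * (π * (m * e * m⁻¹) * π⁻¹) * m := by group
          _ = m⁻¹ * (m * e * m⁻¹ * (m * l * m⁻¹)) * m := by rw [hπmov _ he2 fun h => heW ((mW e).2 h)]
          _ = e * l := by group
    have hWU := axis_eq hax hU1 h4 hWi hWE hW4 hfull
    intro u hu
    have : m⁻¹ * u * m ∈ W := (mW _).2 (by simpa [mul_assoc] using hu)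
    rwa [hWU] at this
  have k1 := key k⁻¹ (fun e he => by
    have := hET ((memmap e).1 he); simpa [mul_assoc] using this)
  have k2 := key (g' * k⁻¹) (fun e he => by
    have := hg' _ ((memmap e).1 he); simpa [mul_assoc] using this) _ hg'x
  -- `x` is then an element of `U`
  refine hxU ?_
  have k3 : k * x * k⁻¹ ∈ s.U := by simpa [mul_assoc] using k2
  haveI : Finite (s.U : Set G) := Finite.of_injective (fun x : (s.U : Set G) => (x : G)) Subtype.val_injective
  have hkU : k ∈ normalizer (s.U : Set G) := mem_normalizer_fintype fun u hu => by simpa using k1 u hu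
  have := (mem_normalizer_iff.1 hkU x).2 k3
  exact this

theorem big_false (P : Sylow 2 G) (hP : (P : Subgroup G) = s.T) (hidx : ∀ K : Subgroup G, K.Normal → K.index ≠ 2)
    (hbig : Big s) : False := by
  have h1 : 1 ≤ top (s := s) := by omega
  obtain ⟨x, hx, hxx, hxC⟩ := hbig.exists_outer
  have hxU : x ∉ s.U := fun h => hxC (F.u_c h)
  have hxid := F.mu_eq_id h2 hx hxx hxU
  let f : ↥s.T →* Multiplicative (ZMod 2) :=
    MonoidHom.mk' (fun t => Multiplicative.ofAdd (lam (F.mu t))) fun t r => by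
      rw [← ofAdd_add, ← lam_add, ← F.mu_mul h1 t.2 r.2]; rfl
  let M : Subgroup G := f.ker.map s.T.subtype
  have hidx2 : f.ker.index = 2 := by
    rw [index_ker, show f.range = ⊤ from eq_top_iff.2 fun z _ => ?_, card_top]
    · simp
    · have h01 : ∀ p : ZMod 2, p = 0 ∨ p = 1 := by decide
      rcases h01 z.toAdd with h | h
      · rw [show z = 1 from Multiplicative.toAdd.injective h]; exact one_mem _
      · exact ⟨⟨x, hx⟩, Multiplicative.toAdd.injective (by
          rw [h]; show lam (F.mu x) = 1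
          rw [hxid, lam_id])⟩
  haveI := Fact.mk Nat.prime_two
  have hMi : M.index = 2 * (P : Subgroup G).index := by
    rw [index_map_subtype, hidx2, hP]
  have hodd : Odd (P : Subgroup G).index := Nat.odd_iff.2 (Nat.two_dvd_ne_zero.1 P.not_dvd_index)
  obtain ⟨K, hK, hK2⟩ := CfsgLib.RankTwoSimple.exists_index_two M hMi hodd hxx fun g hgM => by
    obtain ⟨⟨t, ht⟩, htk, he⟩ := hgM
    have he' : t = g⁻¹ * x * g := he
    have htt : t * t = 1 := by
      rw [he', show g⁻¹ * x * g * (g⁻¹ * x * g) = g⁻¹ * (x * x) * g by group, hxx]; group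
    by_cases htU : t ∈ s.U
    · exact F.not_fused h2 P hP hx hxx hxU (g := g⁻¹) (by rw [inv_inv, ← he']; exact htU)
    · have : lam (F.mu t) = 0 := Multiplicative.ofAdd.injective (MonoidHom.mem_ker.1 htk)
      rw [F.mu_eq_id h2 ht htt htU, lam_id] at this
      exact one_ne_zero this
  exact hidx K hK hK2

end Frame

/-- An abelian moved part gives order 128. -/
theorem card_of_abelian (s : Ctx G) (hab : ∀ x ∈ s.X, ∀ y ∈ s.X, x * y = y * x) (P : Sylow 2 G)
    (hP : (P : Subgroup G) = s.T) (hidx : ∀ K : Subgroup G, K.Normal → K.index ≠ 2) (hbig : Big s) :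
    Nat.card ↥s.T = 128 := by
  obtain ⟨F⟩ := s.exists_frame hab
  have h1 := F.one_le_top hbig
  rcases eq_or_lt_of_le h1 with h | h
  · exact F.card_small h1 h.symm hbig
  · exact (F.big_false h P hP hidx hbig).elim

end CfsgLib.NormalRankTwo
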