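import Cfsg.Agent.Lib.NormalRankTwo.Basic
import Cfsg.Agent.Lib.CoprimeAbelian

/-!
# An abelian moved part: the critical subgroup is abelian and its involutions are central
-/

set_option autoImplicit false
set_option linter.unusedSectionVars false

namespace CfsgLib.NormalRankTwo

open Subgroup

variable {G : Type*} [Group G] [Finite G]

/-- A basis of the involutions adapted to `a`. -/
structure Frame (s : Ctx G) where
  u₁ : G
  u₂ : G
  hu₁ : u₁ ∈ s.U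
  hu₂ : u₂ = s.a * u₁ * s.a⁻¹
  hne₁ : u₁ ≠ 1
  hne₂ : u₂ ≠ u₁
  hrot : s.a * u₂ * s.a⁻¹ = u₁ * u₂
  hall : ∀ u ∈ s.U, u = 1 ∨ u = u₁ ∨ u = u₂ ∨ u = u₁ * u₂
  htu : ∀ t ∈ s.T, ∀ u ∈ s.U, t * u = u * t
  hfix : ∀ c ∈ s.C, s.a * c = c * s.a → c = 1
  hZC : s.Z = s.C

theorem cyc_swap {a c x : G} (hc : a * c = c * a) (hcc : c * c = 1) (h3 : a * (a * (a * x * a⁻¹) * a⁻¹) * a⁻¹ = x)
    (hmove : a * x * a⁻¹ ≠ x) : c * x * c ≠ a * x * a⁻¹ ∧ c * x * c ≠ a * (a * x * a⁻¹) * a⁻¹ := by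
  have hcomm : ∀ w : G, c * (a * w * a⁻¹) * c = a * (c * w * c) * a⁻¹ := fun w => by
    have e : a⁻¹ * c = c * a⁻¹ := (show Commute a c from hc).inv_left.eq
    calc c * (a * w * a⁻¹) * c = (c * a) * w * (a⁻¹ * c) := by group
      _ = a * (c * w * c) * a⁻¹ := by rw [← hc, e]; group
  have hinv : ∀ w : G, c * (c * w * c) * c = w := fun w => by
    rw [show c * (c * w * c) * c = (c * c) * w * (c * c) by group, hcc, one_mul, mul_one]
  refine ⟨fun h => ?_, fun h => ?_⟩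
  · have h2 := hinv x
    rw [h, hcomm, h] at h2
    refine hmove ?_
    conv_rhs => rw [← h3, h2]
  · have h2 := hinv x
    rw [h, hcomm, hcomm, h, h3] at h2
    exact hmove h2

namespace Ctx

variable (s : Ctx G)

theorem a_pow_fix {x : G} (h : s.a * (s.a * x * s.a⁻¹) * s.a⁻¹ = x) : s.a * x * s.a⁻¹ = x := by
  obtain ⟨k, hk⟩ := s.ha
  have h2 : Commute (s.a * s.a) x := by
    show s.a * s.a * x = x * (s.a * s.a)
    conv_rhs => rw [← h]
    group
  have h3 : Commute ((s.a * s.a) ^ (k + 1)) x := h2.pow_left _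
  have e : (s.a * s.a) ^ (k + 1) = s.a := by
    rw [← pow_two, ← pow_mul, show 2 * (k + 1) = orderOf s.a + 1 by omega, pow_succ, pow_orderOf_eq_one, one_mul]
  rw [e] at h3
  rw [h3.eq, mul_inv_cancel_right]

/-- The structure of `C` when its moved part is abelian. -/
theorem exists_frame (hab : ∀ x ∈ s.X, ∀ y ∈ s.X, x * y = y * x) : Nonempty (Frame s) := by
  haveI := Fact.mk Nat.prime_two
  haveI : IsMulCommutative ↥s.X := ⟨⟨fun x y => Subtype.ext (hab x x.2 y y.2)⟩⟩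
  have hdis := CfsgLib.coprime_abelian_disjoint s.A s.X s.a_normalizes_x
    (s.coprime_c.coprime_dvd_right (card_dvd_of_le s.x_le_c))
  have hfp : ∀ x ∈ s.X, s.a * x * s.a⁻¹ = x → x = 1 := fun x hx h => by
    have : x ∈ (s.X ⊓ centralizer (s.A : Set G)) ⊓ ⁅s.X, s.A⁆ :=
      ⟨⟨hx, s.fixed_zpow (mul_inv_eq_iff_eq_mul.1 h)⟩, by rw [s.x_eq]; exact hx⟩
    rwa [hdis, mem_bot] at this
  obtain ⟨x, hx, hxx⟩ : ∃ x ∈ s.X, orderOf x = 2 := by
    obtain ⟨n, hn⟩ := IsPGroup.iff_card.1 (s.hT.to_le (s.x_le_c.trans s.hCT))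
    have hn0 : n ≠ 0 := fun h => s.x_ne_bot (card_eq_one.1 (by rw [hn, h, pow_zero]))
    obtain ⟨⟨x, hx⟩, hxo⟩ := exists_prime_orderOf_dvd_card' (G := ↥s.X) 2 (hn ▸ dvd_pow_self 2 hn0)
    exact ⟨x, hx, by simpa [← Subgroup.orderOf_coe] using hxo⟩
  have hsq : x * x = 1 := by rw [← sq, ← hxx, pow_orderOf_eq_one]
  have x1 : x ≠ 1 := fun h => by rw [h, orderOf_one] at hxx; omega
  set y := s.a * x * s.a⁻¹ with hy
  have hyX : y ∈ s.X := s.x_conj hx
  have hysq : y * y = 1 := by rw [hy, show s.a * x * s.a⁻¹ * (s.a * x * s.a⁻¹) = s.a * (x * x) * s.a⁻¹ by group, hsq]; group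
  have yx : y ≠ x := fun h => x1 (hfp x hx h)
  have y1 : y ≠ 1 := fun h => x1 (conj_eq_one_iff.1 h)
  set w := s.a * y * s.a⁻¹ with hw
  have hwX : w ∈ s.X := s.x_conj hyX
  have hwsq : w * w = 1 := by rw [hw, show s.a * y * s.a⁻¹ * (s.a * y * s.a⁻¹) = s.a * (y * y) * s.a⁻¹ by group, hysq]; group
  have w1 : w ≠ 1 := fun h => y1 (conj_eq_one_iff.1 h)
  have wy : w ≠ y := fun h => y1 (hfp y hyX h)
  have wx : w ≠ x := fun h => yx (s.a_pow_fix h)
  have hwxy : w = x * y := by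
    by_contra h
    exact s.no_three (s.x_le_c hx) (s.x_le_c hyX) (s.x_le_c hwX) hsq hysq hwsq (hab x hx y hyX) (hab x hx w hwX)
      (hab y hyX w hwX) x1 y1 yx w1 wx wy h
  have h3 : s.a * w * s.a⁻¹ = x := by
    rw [hwxy, show s.a * (x * y) * s.a⁻¹ = y * w by rw [hw, hy]; group, hwxy, hab x hx y hyX, ← mul_assoc, hysq,
      one_mul]
  have hXfour : ∀ v ∈ s.X, v * v = 1 → v = 1 ∨ v = x ∨ v = y ∨ v = x * y := by
    intro v hv hvv
    by_contra h
    push Not at h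
    exact s.no_three (s.x_le_c hx) (s.x_le_c hyX) (s.x_le_c hv) hsq hysq hvv (hab x hx y hyX) (hab x hx v hv)
      (hab y hyX v hv) x1 y1 yx h.1 h.2.1 h.2.2.1 h.2.2.2
  have hfix : ∀ c ∈ s.C, s.a * c = c * s.a → c = 1 := by
    intro c hc hca
    by_contra hc1
    obtain ⟨n, hn⟩ := (s.hT.to_le s.hCT) ⟨c, hc⟩
    have hn' : c ^ 2 ^ n = 1 := congrArg Subtype.val hn
    obtain ⟨d, hdC, hda, hdd, hd1⟩ : ∃ d ∈ s.C, s.a * d = d * s.a ∧ d * d = 1 ∧ d ≠ 1 := by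
      obtain ⟨j, -, hj⟩ := (Nat.dvd_prime_pow Nat.prime_two).1 (orderOf_dvd_of_pow_eq_one hn')
      have hj0 : j ≠ 0 := fun h => hc1 (orderOf_eq_one_iff.1 (by rw [hj, h, pow_zero]))
      refine ⟨c ^ 2 ^ (j - 1), pow_mem hc _, ((show Commute s.a c from hca).pow_right _).eq, ?_, ?_⟩
      · rw [← pow_add, ← two_mul, ← pow_succ', show j - 1 + 1 = j by omega, ← hj, pow_orderOf_eq_one]
      · intro h
        have h5 := Nat.le_of_dvd (by positivity) (orderOf_dvd_of_pow_eq_one h)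
        rw [hj] at h5
        have := Nat.pow_lt_pow_right (show 1 < 2 by norm_num) (show j - 1 < j by omega)
        omega
    have hdinv : d⁻¹ = d := inv_eq_of_mul_eq_one_left hdd
    have hin : d * x * d ∈ s.X := by
      have := (mem_normalizer_iff.1 (s.c_normalizes_x hdC) x).1 hx
      rwa [hdinv] at this
    have hdxd : d * x * d = x := by
      have hsqv : d * x * d * (d * x * d) = 1 := by
        rw [show d * x * d * (d * x * d) = d * (x * (d * d) * x) * d by group, hdd, mul_one, hsq, mul_one, hdd]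
      rcases hXfour _ hin hsqv with h | h | h | h
      · exfalso
        apply x1
        calc x = d * (d * x * d) * d := by
              rw [show d * (d * x * d) * d = (d * d) * x * (d * d) by group, hdd, one_mul, mul_one]
          _ = 1 := by rw [h, mul_one, hdd]
      · exact h
      · exact absurd h (cyc_swap hda hdd h3 yx).1
      · exact absurd (h.trans hwxy.symm) (cyc_swap hda hdd h3 yx).2
    have hdx : d * x = x * d := by
      calc d * x = (d * x * d) * d := by rw [mul_assoc _ d d, hdd, mul_one]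
        _ = x * d := by rw [hdxd]
    have hdy : d * y = y * d := by
      rw [hy]
      calc d * (s.a * x * s.a⁻¹) = (d * s.a) * x * s.a⁻¹ := by group
        _ = s.a * (d * x) * s.a⁻¹ := by rw [← hda]; group
        _ = s.a * x * (s.a⁻¹ * (s.a * d)) * s.a⁻¹ := by rw [hdx]; group
        _ = _ := by rw [hda]; group
    have hnX : d ∉ s.X := fun h => hd1 (hfp d h (by rw [hda, mul_inv_cancel_right]))
    exact s.no_three (s.x_le_c hx) (s.x_le_c hyX) hdC hsq hysq hdd (hab x hx y hyX) hdx.symm hdy.symm x1 y1 yx hd1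
      (fun h => hnX (h ▸ hx)) (fun h => hnX (h ▸ hyX)) fun h => hnX (h ▸ mul_mem hx hyX)
  have hCX : ∀ c ∈ s.C, c ∈ s.X := fun c hc => by
    obtain ⟨v, hv, d, hd, hda, rfl⟩ := s.decomp hc
    rw [hfix d hd hda, mul_one]; exact hv
  have hZC : s.Z = s.C := le_antisymm s.z_le_c fun c hc =>
    ⟨hc, fun d hd => hab d (hCX d hd) c (hCX c hc)⟩
  have hU : ∀ u ∈ s.U, u = 1 ∨ u = x ∨ u = y ∨ u = x * y := fun u hu =>
    hXfour u (hCX u hu.1.1) hu.2
  have hxU : x ∈ s.U := ⟨hZC ▸ s.x_le_c hx, hsq⟩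
  have haU : ∀ u ∈ s.U, s.a * u * s.a⁻¹ ∈ s.U := fun u hu => by
    refine ⟨hZC ▸ (mem_normalizer_iff.1 s.haC u).1 hu.1.1, ?_⟩
    rw [show s.a * u * s.a⁻¹ * (s.a * u * s.a⁻¹) = s.a * (u * u) * s.a⁻¹ by group, hu.2]; group
  -- a fixed point of the two-group on the involutions
  have hTU : ∀ t ∈ s.T, ∀ u ∈ s.U, t * u * t⁻¹ ∈ s.U := fun t ht u hu => by
    refine ⟨s.conj_z ht hu.1, ?_⟩
    rw [show t * u * t⁻¹ * (t * u * t⁻¹) = t * (u * u) * t⁻¹ by group, hu.2]; group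
  obtain ⟨v, hvU, hv1, hvfix⟩ : ∃ v ∈ s.U, v ≠ 1 ∧ ∀ t ∈ s.T, t * v * t⁻¹ = v := by
    have hUn : s.U ≤ normalizer (s.T : Set G) := fun u hu => le_normalizer (s.z_le_t hu.1)
    obtain ⟨q, hq, hq1⟩ : ∃ q : ↥(s.U.subgroupOf s.T), q ∈ (⊤ : Subgroup _) ∧
        (q : ↥s.T) ∈ Subgroup.center ↥s.T ∧ q ≠ 1 := by
      haveI : Finite ↥s.T := Subtype.finite
      haveI := s.hT.isNilpotent
      haveI : (s.U.subgroupOf s.T).Normal := ⟨fun u hu t => hTU t t.2 u hu⟩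
      have hne : s.U.subgroupOf s.T ≠ ⊥ := fun h => x1 (congrArg Subtype.val
        (show (⟨x, s.z_le_t hxU.1⟩ : ↥s.T) = 1 from (eq_bot_iff_forall _).1 h _ hxU))
      obtain ⟨q, ⟨hq, hqc⟩, hq1⟩ := (bot_or_exists_ne_one _).resolve_left (CfsgLib.inf_center_ne_bot_of_nilpotent hne)
      exact ⟨⟨q, hq⟩, mem_top _, hqc, fun h => hq1 (congrArg Subtype.val h)⟩
    refine ⟨((q : ↥s.T) : G), q.2, fun h => hq1.2 (Subtype.ext (Subtype.ext h)), fun t ht => ?_⟩
    have := congrArg Subtype.val (mem_center_iff.1 hq1.1 ⟨t, ht⟩)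
    simp only [coe_mul] at this
    rw [this, mul_inv_cancel_right]
  have hnext : ∀ v : G, (∀ t ∈ s.T, t * v * t⁻¹ = v) → ∀ t ∈ s.T, t * (s.a * v * s.a⁻¹) * t⁻¹ = s.a * v * s.a⁻¹ := by
    intro v hv t ht
    have h' : s.a⁻¹ * t * s.a ∈ s.T := by
      have := (mem_normalizer_iff.1 (inv_mem s.haT) t).1 ht
      rwa [inv_inv] at this
    calc t * (s.a * v * s.a⁻¹) * t⁻¹ = s.a * ((s.a⁻¹ * t * s.a) * v * (s.a⁻¹ * t * s.a)⁻¹) * s.a⁻¹ := by group
      _ = _ := by rw [hv _ h']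
  have hall3 : ∀ t ∈ s.T, t * x * t⁻¹ = x ∧ t * y * t⁻¹ = y ∧ t * w * t⁻¹ = w := by
    intro t ht
    have f2 := hnext v hvfix
    have f3 := hnext _ f2
    rcases hU v hvU with h | h | h | h
    · exact absurd h hv1
    · rw [h] at hvfix f2 f3; exact ⟨hvfix t ht, f2 t ht, f3 t ht⟩
    · rw [h] at hvfix f2 f3; rw [h3] at f3; exact ⟨f3 t ht, hvfix t ht, f2 t ht⟩
    · rw [h, ← hwxy] at hvfix f2 f3; rw [h3] at f2 f3; exact ⟨f2 t ht, f3 t ht, hvfix t ht⟩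
  exact ⟨⟨x, y, hxU, rfl, x1, yx, hwxy, hU, fun t ht u hu => by
    obtain ⟨f1, f2, f3⟩ := hall3 t ht
    rcases hU u hu with h | h | h | h <;> subst h
    · rw [mul_one, one_mul]
    · exact mul_inv_eq_iff_eq_mul.1 f1
    · exact mul_inv_eq_iff_eq_mul.1 f2
    · rw [← hwxy]; exact mul_inv_eq_iff_eq_mul.1 f3, hfix, hZC⟩⟩

end Ctx

end CfsgLib.NormalRankTwo
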