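import Cfsg.Agent.Lib.MacWilliams.Endo
import Cfsg.Agent.Lib.ThompsonLemma.Rot

/-!
# Endomorphisms of a four-group under a rotation: facts checked by computation
-/

set_option autoImplicit false
set_option synthInstance.maxSize 4000
set_option synthInstance.maxHeartbeats 200000

namespace CfsgLib.NormalRankTwo

open CfsgLib.MacWilliams CfsgLib.ThompsonLemma

/-- Composition. -/
def mulM (M N : M4) : M4 := (app M N.1, app M N.2)

/-- Conjugation by the rotation. -/
def cj (M : M4) : M4 := mulM rotM (mulM M rotM2)

/-- The sum over an orbit. -/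
def avg (M : M4) : M4 := M + cj M + cj (cj M)

/-- The square of `1 + 2M`, one level higher. -/
def qq (M : M4) : M4 := M + mulM M M

/-- A functional not vanishing on the identity. -/
def lam (M : M4) : ZMod 2 := M.1.1

theorem app_mulM : ∀ M N v, app (mulM M N) v = app M (app N v) := by decide +kernel
theorem app_cj : ∀ M v, app (cj M) (app rotM v) = app rotM (app M v) := by decide +kernel
theorem rot_surj : ∀ v, ∃ w, app rotM w = v := by decide +kernel
theorem rot_fixed : ∀ v, app rotM v = v → v = 0 := by decide +kernel
theorem cj_avg : ∀ M, cj (avg M) = avg M := by decide +kernel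
theorem fixed_id : ∀ M, cj M = M → ∀ v, v ≠ 0 → app M v = v → M = idM := by decide +kernel
theorem avg_zero : ∀ M, avg M = 0 → M ≠ 0 → Inv M := by decide +kernel
theorem lam_add : ∀ M N, lam (M + N) = lam M + lam N := by decide +kernel
theorem lam_id : lam idM = 1 := by decide +kernel

/-- The three invertible squares coming from a projection. -/
theorem proj_gens : ∀ e, mulM e e = e → e ≠ 0 → e ≠ idM → ∀ i j k : ZMod 2,
    Inv (qq (avg e)) ∧ Inv (qq (avg e) + qq (e + cj e)) ∧ Inv (qq (avg e) + qq (cj e + cj (cj e))) ∧
      ((i, j, k) ≠ 0 → (if i = 0 then 0 else qq (avg e)) + (if j = 0 then 0 else qq (avg e) + qq (e + cj e)) +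
        (if k = 0 then 0 else qq (avg e) + qq (cj e + cj (cj e))) ≠ (0 : M4)) := by decide +kernel

/-- The endomorphisms whose orbit sum is trivial or the identity. -/
def Thin (M : M4) : Prop := avg M = 0 ∨ avg M = idM

instance : DecidablePred Thin := fun _ => inferInstanceAs (Decidable (_ ∨ _))

theorem card_thin : Nat.card {M : M4 // Thin M} = 8 := by
  rw [Nat.card_eq_fintype_card]; decide +kernel

theorem thin_span : ∀ M, Thin M → M ≠ 0 → M ≠ idM → ∀ N, Thin N →
    N = 0 ∨ N = idM ∨ N = M ∨ N = cj M ∨ N = cj (cj M) ∨ N = M + idM ∨ N = cj M + idM ∨ N = cj (cj M) + idM := by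
  decide +kernel

end CfsgLib.NormalRankTwo
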