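import Cfsg.Agent.Lib.NormalRankTwo.AbFrame
import Cfsg.Agent.Lib.NormalRankTwo.Mat

/-!
# An abelian critical subgroup: the action on the layers
-/

set_option autoImplicit false
set_option linter.unusedSectionVars false

namespace CfsgLib.NormalRankTwo

open Subgroup CfsgLib.MacWilliams CfsgLib.ThompsonLemma

variable {G : Type*} [Group G] [Finite G] {s : Ctx G}

/-- The commutator used throughout. -/
def cm (t c : G) : G := t * c * t⁻¹ * c⁻¹

theorem cm_eq_one {t c : G} : cm t c = 1 ↔ t * c = c * t := by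
  rw [cm, mul_inv_eq_one, mul_inv_eq_iff_eq_mul]

namespace Frame

variable (F : Frame s)
include F

theorem cc {c d : G} (hc : c ∈ s.C) (hd : d ∈ s.C) : c * d = d * c := by
  rw [← F.hZC] at hc
  exact s.z_comm hc hd

theorem u_c {u : G} (hu : u ∈ s.U) : u ∈ s.C := s.z_le_c hu.1

theorem mem_u' {u : G} (hc : u ∈ s.C) (h : u * u = 1) : u ∈ s.U := ⟨F.hZC ▸ hc, h⟩

theorem hu₂' : F.u₂ ∈ s.U := by
  refine F.mem_u' ?_ ?_
  · rw [F.hu₂]; exact (mem_normalizer_iff.1 s.haC _).1 (F.u_c F.hu₁)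
  · rw [F.hu₂, show s.a * F.u₁ * s.a⁻¹ * (s.a * F.u₁ * s.a⁻¹) = s.a * (F.u₁ * F.u₁) * s.a⁻¹ by group, F.hu₁.2]
    group

theorem hne₂' : F.u₂ ≠ 1 := fun h => F.hne₁ (conj_eq_one_iff.1 (F.hu₂.symm.trans h))

/-- Coordinates. -/
def iota (v : V2) : G := F.u₁ ^ v.1.val * F.u₂ ^ v.2.val

theorem iota_mem (v : V2) : F.iota v ∈ s.U := mul_mem (pow_mem F.hu₁ _) (pow_mem F.hu₂' _)

theorem iota_c (v : V2) : F.iota v ∈ s.C := F.u_c (F.iota_mem v)

omit F in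
theorem pow_zmod {u : G} (hu : u * u = 1) (p q : ZMod 2) : u ^ (p + q).val = u ^ p.val * u ^ q.val := by
  have h01 : ∀ p : ZMod 2, p = 0 ∨ p = 1 := by decide
  have e2 : (1 : ZMod 2) + 1 = 0 := by decide
  rcases h01 p with rfl | rfl <;> rcases h01 q with rfl | rfl <;> simp [e2, hu, ZMod.val_one]

theorem iota_add (v w : V2) : F.iota (v + w) = F.iota v * F.iota w := by
  have hab : Commute (F.u₂ ^ v.2.val) (F.u₁ ^ w.1.val) :=
    F.cc (pow_mem (F.u_c F.hu₂') _) (pow_mem (F.u_c F.hu₁) _)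
  show F.u₁ ^ (v.1 + w.1).val * F.u₂ ^ (v.2 + w.2).val = _
  rw [pow_zmod F.hu₁.2, pow_zmod F.hu₂'.2]
  simp only [iota]
  rw [mul_assoc (F.u₁ ^ v.1.val) (F.u₂ ^ v.2.val), ← mul_assoc (F.u₂ ^ v.2.val), hab.eq]
  simp [mul_assoc]

theorem iota_zero : F.iota 0 = 1 := by simp [iota]
theorem iota_e₁ : F.iota (1, 0) = F.u₁ := by simp [iota, ZMod.val_one]
theorem iota_e₂ : F.iota (0, 1) = F.u₂ := by simp [iota, ZMod.val_one]

theorem iota_eq_one {v : V2} (h : F.iota v = 1) : v = 0 := by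
  rcases v2_cases v with rfl | rfl | rfl | rfl
  · rfl
  · exact absurd (F.iota_e₁.symm.trans h) F.hne₁
  · exact absurd (F.iota_e₂.symm.trans h) F.hne₂'
  · rw [F.iota_add, F.iota_e₁, F.iota_e₂] at h
    exact absurd (mul_left_cancel (h.trans F.hu₁.2.symm)) F.hne₂

theorem iota_inj {v w : V2} (h : F.iota v = F.iota w) : v = w := by
  have h2 : F.iota (v + w) = 1 := by rw [F.iota_add, h, ← F.iota_add, v2_self_add, F.iota_zero]
  have h3 := F.iota_eq_one h2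
  calc v = v + (w + w) := by rw [v2_self_add, add_zero]
    _ = w := by rw [← add_assoc, h3, zero_add]

theorem iota_surj {u : G} (hu : u ∈ s.U) : ∃ v, F.iota v = u := by
  rcases F.hall u hu with h | h | h | h
  · exact ⟨0, h ▸ F.iota_zero⟩
  · exact ⟨_, h ▸ F.iota_e₁⟩
  · exact ⟨_, h ▸ F.iota_e₂⟩
  · exact ⟨(1, 0) + (0, 1), by rw [F.iota_add, F.iota_e₁, F.iota_e₂, h]⟩

theorem iota_rot (v : V2) : s.a * F.iota v * s.a⁻¹ = F.iota (app rotM v) := by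
  have e1 : app rotM (1, 0) = (0, 1) := by decide
  have e2 : app rotM (0, 1) = (1, 0) + (0, 1) := by decide
  rcases v2_cases v with rfl | rfl | rfl | rfl
  · rw [show app rotM 0 = (0 : V2) by decide, F.iota_zero]; group
  · rw [e1, F.iota_e₁, F.iota_e₂, F.hu₂]
  · rw [e2, F.iota_add, F.iota_e₁, F.iota_e₂, F.hrot]
  · rw [app_add_right, e1, e2, F.iota_add, F.iota_add, F.iota_add, F.iota_e₁, F.iota_e₂,
      show s.a * (F.u₁ * F.u₂) * s.a⁻¹ = (s.a * F.u₁ * s.a⁻¹) * (s.a * F.u₂ * s.a⁻¹) by group, ← F.hu₂, F.hrot]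

/-! ### Roots -/

omit F in
theorem exists_exp : ∃ k : ℕ, ∀ c ∈ s.C, c ^ 2 ^ (k + 1) = 1 := by
  haveI := Fact.mk Nat.prime_two
  obtain ⟨n, hn⟩ := IsPGroup.iff_card.1 (s.hT.to_le s.hCT)
  refine ⟨n, fun c hc => ?_⟩
  have h : (⟨c, hc⟩ : ↥s.C) ^ Nat.card ↥s.C = 1 := pow_card_eq_one'
  rw [hn] at h
  have h' : c ^ 2 ^ n = 1 := by simpa using congrArg Subtype.val h
  rw [pow_succ, pow_mul, h', one_pow]

omit F in
open scoped Classical in
/-- The number of squarings that reach the involutions. -/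
noncomputable def top : ℕ := Nat.find (exists_exp (s := s))

omit F in
theorem pow_top {c : G} (hc : c ∈ s.C) : c ^ 2 ^ (top (s := s) + 1) = 1 := by
  classical
  exact Nat.find_spec (exists_exp (s := s)) c hc

theorem exists_root {i : ℕ} (hi : i ≤ top (s := s)) (v : V2) : ∃ c ∈ s.C, c ^ 2 ^ i = F.iota v := by
  classical
  obtain ⟨c₀, hc₀, hne⟩ : ∃ c ∈ s.C, c ^ 2 ^ top (s := s) ≠ 1 := by
    by_contra h
    push Not at h
    rcases Nat.eq_zero_or_pos (top (s := s)) with h0 | h0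
    · have := h F.u₁ (F.u_c F.hu₁)
      rw [h0, pow_zero, pow_one] at this
      exact F.hne₁ this
    · refine Nat.find_min (exists_exp (s := s)) (show top (s := s) - 1 < top (s := s) by omega) fun c hc => ?_
      rw [Nat.sub_add_cancel h0]
      exact h c hc
  have hu : c₀ ^ 2 ^ top (s := s) ∈ s.U := F.mem_u' (pow_mem hc₀ _) (by
    rw [← pow_add, ← two_mul, ← pow_succ']; exact pow_top hc₀)
  obtain ⟨v₀, hv₀⟩ := F.iota_surj hu
  have hv0 : v₀ ≠ 0 := fun h => hne (by rw [← hv₀, h, F.iota_zero])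
  have key : ∀ w : V2, (∃ c ∈ s.C, c ^ 2 ^ i = F.iota w) → ∃ c ∈ s.C, c ^ 2 ^ i = F.iota (app rotM w) := by
    rintro w ⟨c, hc, h⟩
    exact ⟨s.a * c * s.a⁻¹, (mem_normalizer_iff.1 s.haC c).1 hc, by rw [conj_pow, h, F.iota_rot]⟩
  have h0 : ∃ c ∈ s.C, c ^ 2 ^ i = F.iota v₀ :=
    ⟨c₀ ^ 2 ^ (top (s := s) - i), pow_mem hc₀ _, by rw [← pow_mul, ← pow_add, Nat.sub_add_cancel hi, hv₀]⟩
  have : ∀ a b : V2, a ≠ 0 → b = 0 ∨ b = a ∨ b = app rotM a ∨ b = app rotM (app rotM a) := by decide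
  rcases this v₀ v hv0 with h | h | h | h <;> subst h
  · exact ⟨1, one_mem _, by rw [one_pow, F.iota_zero]⟩
  · exact h0
  · exact key _ h0
  · exact key _ (key _ h0)

theorem exists_sqrt : ∀ i, i ≤ top (s := s) → ∀ c ∈ s.C, c ^ 2 ^ i = 1 → ∃ d ∈ s.C, d * d = c := by
  intro i
  induction i with
  | zero => intro _ c _ h; exact ⟨1, one_mem _, by rw [pow_zero, pow_one] at h; rw [h, one_mul]⟩
  | succ i ih =>
    intro hi c hc h
    have hu : c ^ 2 ^ i ∈ s.U := F.mem_u' (pow_mem hc _) (by rw [← pow_add, ← two_mul, ← pow_succ']; exact h)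
    obtain ⟨v, hv⟩ := F.iota_surj hu
    obtain ⟨d, hd, hdv⟩ := F.exists_root hi v
    have hdd : (d * d) ^ 2 ^ i = F.iota v := by rw [← pow_two, ← pow_mul, ← pow_succ', hdv]
    have hcd : (c * (d * d)⁻¹) ^ 2 ^ i = 1 := by
      rw [(show Commute c (d * d)⁻¹ from F.cc hc (inv_mem (mul_mem hd hd))).mul_pow, inv_pow, hdd, hv,
        mul_inv_cancel]
    obtain ⟨e, he, hee⟩ := ih (by omega) _ (mul_mem hc (inv_mem (mul_mem hd hd))) hcd
    refine ⟨e * d, mul_mem he hd, ?_⟩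
    calc e * d * (e * d) = e * (d * e) * d := by group
      _ = (e * e) * (d * d) := by rw [F.cc hd he]; group
      _ = c := by rw [hee, inv_mul_cancel_right]

/-! ### Commutators -/

theorem cm_mem {t c : G} (ht : t ∈ s.T) (hc : c ∈ s.C) : cm t c ∈ s.C := s.z_le_c (s.comm_z ht hc)

theorem cm_u {t u : G} (ht : t ∈ s.T) (hu : u ∈ s.U) : cm t u = 1 := cm_eq_one.2 (F.htu t ht u hu)

theorem cm_right {t c d : G} (ht : t ∈ s.T) (hc : c ∈ s.C) (hd : d ∈ s.C) : cm t (c * d) = cm t c * cm t d := by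
  have h1 := F.cm_mem ht hd
  show _ = _ * cm t d
  rw [show cm t (c * d) = t * c * t⁻¹ * (cm t d * c⁻¹) by unfold cm; group, F.cc h1 (inv_mem hc), ← mul_assoc]
  rfl

omit F in
theorem cm_one (t : G) : cm t (1 : G) = 1 := by simp [cm]

theorem cm_pow {t c : G} (ht : t ∈ s.T) (hc : c ∈ s.C) : ∀ n : ℕ, cm t (c ^ n) = cm t c ^ n
  | 0 => by rw [pow_zero, pow_zero, cm_one]
  | n + 1 => by rw [pow_succ, F.cm_right ht (pow_mem hc n) hc, cm_pow ht hc n, pow_succ]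

omit F in
theorem cm_left {t r c : G} : cm (t * r) c = cm t (cm r c) * cm r c * cm t c := by
  unfold cm; group

theorem cm_c {d c : G} (hd : d ∈ s.C) (hc : c ∈ s.C) : cm d c = 1 := cm_eq_one.2 (F.cc hd hc)

/-- `t` centralises the elements killed by `2 ^ i`. -/
def Q (i : ℕ) (t : G) : Prop := t ∈ s.T ∧ ∀ c ∈ s.C, c ^ 2 ^ i = 1 → cm t c = 1

/-- The action of `t` one layer above. -/
def Lev (i : ℕ) (t : G) (M : M4) : Prop :=
  t ∈ s.T ∧ ∀ c ∈ s.C, ∀ v, c ^ 2 ^ i = F.iota v → cm t c = F.iota (app M v)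

theorem lev_q {i : ℕ} {t : G} {M : M4} (h : F.Lev i t M) : Q (s := s) i t :=
  ⟨h.1, fun c hc hci => by
    rw [h.2 c hc 0 (by rw [hci, F.iota_zero]), show app M 0 = (0 : V2) by simp [app]]; exact F.iota_zero⟩

theorem lev_mul {i : ℕ} {t r : G} {M N : M4} (h : F.Lev i t M) (h' : F.Lev i r N) : F.Lev i (t * r) (M + N) :=
  ⟨mul_mem h.1 h'.1, fun c hc v hv => by
    rw [cm_left, h.2 c hc v hv, h'.2 c hc v hv, F.cm_u h.1 (F.iota_mem _), one_mul, ← F.iota_add, ← app_add,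
      add_comm]⟩

theorem lev_c {i : ℕ} {d : G} (hd : d ∈ s.C) : F.Lev i d 0 :=
  ⟨s.hCT hd, fun c hc v _ => by rw [F.cm_c hd hc, app_zero, F.iota_zero]⟩

theorem lev_unique {i : ℕ} (hi : i ≤ top (s := s)) {t : G} {M N : M4} (h : F.Lev i t M) (h' : F.Lev i t N) :
    M = N := by
  refine app_ext _ _ fun v => ?_
  obtain ⟨c, hc, hv⟩ := F.exists_root hi v
  exact F.iota_inj ((h.2 c hc v hv).symm.trans (h'.2 c hc v hv))

theorem lev_conj {i : ℕ} {t : G} {M : M4} (h : F.Lev i t M) : F.Lev i (s.a * t * s.a⁻¹) (cj M) := by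
  refine ⟨(mem_normalizer_iff.1 s.haT t).1 h.1, fun c hc v hv => ?_⟩
  obtain ⟨w, rfl⟩ := rot_surj v
  have hc' : s.a⁻¹ * c * s.a ∈ s.C := by
    have := (mem_normalizer_iff.1 (inv_mem s.haC) c).1 hc
    rwa [inv_inv] at this
  have hw : (s.a⁻¹ * c * s.a) ^ 2 ^ i = F.iota w := by
    have e : (s.a⁻¹ * c * s.a) ^ 2 ^ i = s.a⁻¹ * c ^ 2 ^ i * s.a := by
      simpa using (conj_pow (a := s.a⁻¹) (b := c) (i := 2 ^ i))
    rw [e, hv, ← F.iota_rot]; group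
  rw [app_cj, ← F.iota_rot, ← h.2 _ hc' w hw]
  simp only [cm]; group

/-- Squares move up one layer. -/
theorem lev_sq {i : ℕ} (hi : 2 ≤ i) {t : G} {M : M4} (h : F.Lev i t M) : F.Lev (i + 1) (t * t) M := by
  refine ⟨mul_mem h.1 h.1, fun c hc v hv => ?_⟩
  have hy : cm t c * cm t c = F.iota (app M v) := by
    rw [← F.cm_right h.1 hc hc]
    exact h.2 _ (mul_mem hc hc) v (by rw [← pow_two, ← pow_mul, ← pow_succ', hv])
  have hy4 : (cm t c) ^ 2 ^ i = 1 := by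
    obtain ⟨k, rfl⟩ : ∃ k, i = k + 2 := ⟨i - 2, by omega⟩
    rw [pow_add, mul_comm, pow_mul, show (2 : ℕ) ^ 2 = 2 * 2 by norm_num, pow_mul,
      show cm t c ^ 2 = cm t c * cm t c from pow_two _, hy, pow_two, (F.iota_mem _).2, one_pow]
  rw [cm_left, (F.lev_q h).2 _ (F.cm_mem h.1 hc) hy4, one_mul, hy]

theorem exists_lev_one (htop : 1 ≤ top (s := s)) {t : G} (ht : t ∈ s.T) : ∃ M, F.Lev 1 t M := by
  have hU : ∀ c ∈ s.C, ∀ v, c ^ 2 ^ 1 = F.iota v → cm t c ∈ s.U := fun c hc v hv => by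
    refine F.mem_u' (F.cm_mem ht hc) ?_
    rw [← F.cm_right ht hc hc, ← pow_two, show c ^ 2 = F.iota v by simpa using hv, F.cm_u ht (F.iota_mem v)]
  obtain ⟨c₁, hc₁, h₁⟩ := F.exists_root htop (1, 0)
  obtain ⟨c₂, hc₂, h₂⟩ := F.exists_root htop (0, 1)
  obtain ⟨d₁, hd₁⟩ := F.iota_surj (hU c₁ hc₁ _ h₁)
  obtain ⟨d₂, hd₂⟩ := F.iota_surj (hU c₂ hc₂ _ h₂)
  obtain ⟨M, hM₁, hM₂⟩ := exists_app d₁ d₂
  refine ⟨M, ht, fun c hc v hv => ?_⟩
  have same : ∀ c ∈ s.C, ∀ c' ∈ s.C, c ^ 2 ^ 1 = c' ^ 2 ^ 1 → cm t c = cm t c' := by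
    intro c hc c' hc' he
    have hu : c * c'⁻¹ ∈ s.U := F.mem_u' (mul_mem hc (inv_mem hc')) (by
      rw [← pow_two, (show Commute c c'⁻¹ from F.cc hc (inv_mem hc')).mul_pow, inv_pow,
        show c ^ 2 = c' ^ 2 by simpa using he, mul_inv_cancel])
    conv_lhs => rw [← inv_mul_cancel_right c c', F.cm_right ht (F.u_c hu) hc', F.cm_u ht hu, one_mul]
  rcases v2_cases v with rfl | rfl | rfl | rfl
  · rw [same c hc 1 (one_mem _) (by rw [hv, F.iota_zero, one_pow]), cm_one, show app M 0 = (0 : V2) by simp [app],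
      F.iota_zero]
  · rw [same c hc c₁ hc₁ (hv.trans h₁.symm), ← hd₁, hM₁]
  · rw [same c hc c₂ hc₂ (hv.trans h₂.symm), ← hd₂, hM₂]
  · rw [same c hc (c₁ * c₂) (mul_mem hc₁ hc₂) (by
      rw [hv, F.iota_add, (show Commute c₁ c₂ from F.cc hc₁ hc₂).mul_pow, h₁, h₂]),
      F.cm_right ht hc₁ hc₂, ← hd₁, ← hd₂, app_add_right, hM₁, hM₂, F.iota_add]

/-- The first square. -/
theorem lev_qq {t : G} {M : M4} (h : F.Lev 1 t M) : F.Lev 2 (t * t) (qq M) := by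
  refine ⟨mul_mem h.1 h.1, fun c hc v hv => ?_⟩
  have hy : cm t c * cm t c = F.iota (app M v) := by
    rw [← F.cm_right h.1 hc hc]
    exact h.2 _ (mul_mem hc hc) v (by rw [← pow_two, ← pow_mul, ← pow_succ', hv])
  rw [cm_left, h.2 _ (F.cm_mem h.1 hc) (app M v) (by rw [pow_one, pow_two, hy]), mul_assoc, hy, ← F.iota_add,
    qq, app_add, app_mulM, add_comm]

end Frame

end CfsgLib.NormalRankTwo
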