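import Cfsg.Agent.Lib.NormalRankTwo.AbLevel

/-!
# An abelian critical subgroup of exponent at most four: order 128
-/

set_option autoImplicit false
set_option linter.unusedSectionVars false

namespace CfsgLib.NormalRankTwo

open Subgroup CfsgLib.MacWilliams CfsgLib.ThompsonLemma

variable {G : Type*} [Group G] [Finite G] {s : Ctx G}

/-- `T` has an elementary abelian subgroup of order eight. -/
def Big (s : Ctx G) : Prop :=
  ∃ E : Subgroup G, E ≤ s.T ∧ (∀ x ∈ E, ∀ y ∈ E, x * y = y * x) ∧ (∀ x ∈ E, x * x = 1) ∧ Nat.card ↥E = 8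

theorem Big.exists_outer (h : Big s) : ∃ x ∈ s.T, x * x = 1 ∧ x ∉ s.C := by
  obtain ⟨E, hET, hab, hsq, h8⟩ := h
  by_contra hno
  push Not at hno
  have := s.no_eight (fun x hx => hno x (hET hx) (hsq x hx)) hab hsq
  omega

theorem Big.not_central (h : Big s) : ¬ s.T ≤ centralizer (s.Z : Set G) := fun hc => by
  obtain ⟨E, hET, hab, hsq, h8⟩ := h
  have := s.rank_le_two_of_central hc hET hab hsq
  omega

namespace Frame

variable (F : Frame s)
include F

theorem one_le_top (hbig : Big s) : 1 ≤ top (s := s) := by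
  by_contra h
  refine hbig.not_central fun t ht z hz => ?_
  have h1 := pow_top (s := s) (s.z_le_c hz)
  rw [show top (s := s) = 0 by omega, zero_add, pow_one, pow_two] at h1
  exact (F.htu t ht z ⟨hz, h1⟩).symm

/-- An involution outside `U` is not normalised modulo `U` by the whole of `T`. -/
theorem normal_false {x : G} (hx : x ∈ s.T) (hxx : x * x = 1) (hxU : x ∉ s.U)
    (hn : ∀ t ∈ s.T, t * x * t⁻¹ * x⁻¹ ∈ s.U) : False := by
  let B : Subgroup G := closure (insert x (s.U : Set G))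
  haveI : IsMulCommutative ↥B := isMulCommutative_closure (by
    rintro p (rfl | hp) q (rfl | hq)
    · rfl
    · exact F.htu p hx q hq
    · exact (F.htu q hx p hp).symm
    · exact s.z_ab p hp.1 q hq.1)
  have hBab : ∀ p ∈ B, ∀ q ∈ B, p * q = q * p := fun p hp q hq =>
    congrArg Subtype.val (mul_comm' (⟨p, hp⟩ : ↥B) ⟨q, hq⟩)
  have hBT : B ≤ s.T := (closure_le _).2 (Set.insert_subset hx fun u hu => s.z_le_t hu.1)
  have hxB : x ∈ B := subset_closure (Or.inl rfl)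
  have huB : ∀ u ∈ s.U, u ∈ B := fun u hu => subset_closure (Or.inr hu)
  have hsq : B ≤ omega B hBab := (closure_le _).2 (Set.insert_subset ⟨hxB, hxx⟩ fun u hu => ⟨huB u hu, hu.2⟩)
  have hconj : ∀ t ∈ s.T, B ≤ B.comap (MulAut.conj t).toMonoidHom := fun t ht => by
    refine (closure_le _).2 (Set.insert_subset ?_ fun u hu => ?_)
    · show t * x * t⁻¹ ∈ B
      rw [← inv_mul_cancel_right (t * x * t⁻¹) x]
      exact mul_mem (huB _ (hn t ht)) hxB
    · show t * u * t⁻¹ ∈ B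
      rw [F.htu t ht u hu, mul_inv_cancel_right]; exact huB u hu
  have h4 := s.hrk B hBT (le_normalizer_of_conj fun t ht y hy => hconj t ht hy) hBab fun y hy => (hsq hy).2
  have hm : ∀ i, (![1, F.u₁, F.u₂, F.u₁ * F.u₂, x] : Fin 5 → G) i ∈ B := by
    intro i; fin_cases i
    exacts [one_mem _, huB _ F.hu₁, huB _ F.hu₂', huB _ (mul_mem F.hu₁ F.hu₂'), hxB]
  have e1 : F.u₁ * F.u₂ ≠ 1 := fun h => F.hne₂ (mul_left_cancel (h.trans F.hu₁.2.symm))
  have n1 : x ≠ 1 := fun h => hxU (h ▸ one_mem _)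
  have n2 : x ≠ F.u₁ := fun h => hxU (h ▸ F.hu₁)
  have n3 : x ≠ F.u₂ := fun h => hxU (h ▸ F.hu₂')
  have n4 : x ≠ F.u₁ * F.u₂ := fun h => hxU (h ▸ mul_mem F.hu₁ F.hu₂')
  have g1 := F.hne₁
  have g2 := F.hne₂
  have g3 := F.hne₂'
  have hinj : Function.Injective (![1, F.u₁, F.u₂, F.u₁ * F.u₂, x] : Fin 5 → G) := by
    intro i j h
    fin_cases i <;> fin_cases j <;> simp_all [eq_comm]
  have := five_le_card hinj hm
  omega

open scoped Classical in
/-- The action on the first layer. -/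
noncomputable def mu (t : G) : M4 := if h : ∃ M, F.Lev 1 t M then h.choose else 0

variable (h1 : 1 ≤ top (s := s))
include h1

theorem lev_mu {t : G} (ht : t ∈ s.T) : F.Lev 1 t (F.mu t) := by
  classical
  rw [mu, dif_pos (F.exists_lev_one h1 ht)]
  exact (F.exists_lev_one h1 ht).choose_spec

theorem mu_eq {t : G} {M : M4} (h : F.Lev 1 t M) : F.mu t = M :=
  F.lev_unique h1 (F.lev_mu h1 h.1) h

theorem mu_mul {t r : G} (ht : t ∈ s.T) (hr : r ∈ s.T) : F.mu (t * r) = F.mu t + F.mu r :=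
  F.mu_eq h1 (F.lev_mul (F.lev_mu h1 ht) (F.lev_mu h1 hr))

theorem mu_c {d : G} (hd : d ∈ s.C) : F.mu d = 0 := F.mu_eq h1 (F.lev_c hd)

theorem mu_inv {t : G} (ht : t ∈ s.T) : F.mu t⁻¹ = F.mu t := by
  have h := F.mu_mul h1 ht (inv_mem ht)
  rw [mul_inv_cancel, F.mu_c h1 (one_mem _)] at h
  calc F.mu t⁻¹ = (F.mu t + F.mu t) + F.mu t⁻¹ := by rw [m4_self_add, zero_add]
    _ = F.mu t := by rw [add_assoc, ← h, add_zero]

theorem mu_conj {t r : G} (ht : t ∈ s.T) (hr : r ∈ s.T) : F.mu (t * r * t⁻¹ * r⁻¹) = 0 := by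
  rw [F.mu_mul h1 (mul_mem (mul_mem ht hr) (inv_mem ht)) (inv_mem hr),
    F.mu_mul h1 (mul_mem ht hr) (inv_mem ht), F.mu_mul h1 ht hr, F.mu_inv h1 ht, F.mu_inv h1 hr]
  calc F.mu t + F.mu r + F.mu t + F.mu r = (F.mu t + F.mu t) + (F.mu r + F.mu r) := by abel
    _ = 0 := by rw [m4_self_add, m4_self_add, add_zero]

theorem mu_a {t : G} (ht : t ∈ s.T) : F.mu (s.a * t * s.a⁻¹) = cj (F.mu t) :=
  F.mu_eq h1 (F.lev_conj (F.lev_mu h1 ht))

/-- The orbit sum is realised. -/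
theorem mu_avg {t : G} (ht : t ∈ s.T) : ∃ r ∈ s.T, F.mu r = avg (F.mu t) := by
  have hn : ∀ t ∈ s.T, s.a * t * s.a⁻¹ ∈ s.T := fun t ht => (mem_normalizer_iff.1 s.haT t).1 ht
  refine ⟨t * (s.a * t * s.a⁻¹) * (s.a * (s.a * t * s.a⁻¹) * s.a⁻¹),
    mul_mem (mul_mem ht (hn t ht)) (hn _ (hn t ht)), ?_⟩
  rw [F.mu_mul h1 (mul_mem ht (hn t ht)) (hn _ (hn t ht)), F.mu_mul h1 ht (hn t ht), F.mu_a h1 (hn t ht),
    F.mu_a h1 ht, avg]

variable (h2 : top (s := s) = 1)
include h2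

theorem mem_c_of_mu {t : G} (ht : t ∈ s.T) (h : F.mu t = 0) : t ∈ s.C := by
  refine s.z_le_c (s.mem_z_of_cent ht fun c hc => cm_eq_one.1 ?_)
  have h4 := pow_top (s := s) hc
  rw [h2] at h4
  obtain ⟨v, hv⟩ := F.iota_surj (F.mem_u' (pow_mem hc (2 ^ 1)) (by rw [← pow_add]; exact h4))
  rw [(F.lev_mu h1 ht).2 c hc v hv.symm, h, app_zero, F.iota_zero]

/-- A fixed value comes from a fixed element. -/
theorem exists_fixed {t : G} (ht : t ∈ s.T) (h : cj (F.mu t) = F.mu t) :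
    ∃ l ∈ s.T, s.a * l = l * s.a ∧ F.mu l = F.mu t := by
  have haT : s.A ≤ normalizer (s.T : Set G) := zpowers_le.2 s.haT
  have hcop : (Nat.card ↥s.A).Coprime (Nat.card ↥s.T) := by
    haveI := Fact.mk Nat.prime_two
    obtain ⟨n, hn⟩ := IsPGroup.iff_card.1 s.hT
    rw [hn, Ctx.A, Nat.card_zpowers]
    exact (Nat.coprime_two_right.2 s.ha).pow_right n
  have hfix : ∀ b ∈ s.A, b * t * b⁻¹ * t⁻¹ ∈ s.C := by
    intro b hb
    obtain ⟨n, rfl⟩ : b ∈ Submonoid.powers s.a := mem_powers_iff_mem_zpowers.2 hb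
    show s.a ^ n * t * (s.a ^ n)⁻¹ * t⁻¹ ∈ s.C
    have key : ∀ n : ℕ, s.a ^ n * t * (s.a ^ n)⁻¹ ∈ s.T ∧ F.mu (s.a ^ n * t * (s.a ^ n)⁻¹) = F.mu t := by
      intro n
      induction n with
      | zero => simp [ht]
      | succ n ih =>
        rw [pow_succ', show s.a * s.a ^ n * t * (s.a * s.a ^ n)⁻¹ = s.a * (s.a ^ n * t * (s.a ^ n)⁻¹) * s.a⁻¹ by group]
        exact ⟨(mem_normalizer_iff.1 s.haT _).1 ih.1, by rw [F.mu_a h1 ih.1, ih.2, h]⟩
    obtain ⟨hm, hmu⟩ := key n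
    refine F.mem_c_of_mu h1 h2 (mul_mem hm (inv_mem ht)) ?_
    rw [F.mu_mul h1 hm (inv_mem ht), hmu, F.mu_inv h1 ht, m4_self_add]
  obtain ⟨l, hl, hlC⟩ := CfsgLib.coprime_fixed_quotient haT hcop (Or.inl s.solv_a) s.hCT s.hTC s.a_normalizes ht hfix
  refine ⟨l, hl.1, hl.2 _ (mem_zpowers _), ?_⟩
  rw [← mul_inv_cancel_left t l, F.mu_mul h1 ht (s.hCT hlC), F.mu_c h1 hlC, add_zero]

theorem fixed_mu (_hbig : Big s) {l : G} (hl : l ∈ s.T) (hla : s.a * l = l * s.a) :
    F.mu l = 0 ∨ F.mu l = idM := by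
  by_cases hlC : l ∈ s.C
  · exact Or.inl (F.mu_c h1 hlC)
  have hll : l * l = 1 := by
    refine F.hfix _ (F.mem_c_of_mu h1 h2 (mul_mem hl hl) ?_) (((show Commute s.a l from hla)).mul_right hla).eq
    rw [F.mu_mul h1 hl hl, m4_self_add]
  have hcj : cj (F.mu l) = F.mu l := by
    rw [← F.mu_a h1 hl, hla, mul_inv_cancel_right]
  by_contra hne
  push Not at hne
  refine F.normal_false hl hll (fun h => hlC (F.u_c h)) fun t ht => ?_
  by_contra hd
  have hdC : t * l * t⁻¹ * l⁻¹ ∈ s.C := F.mem_c_of_mu h1 h2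
    (mul_mem (mul_mem (mul_mem ht hl) (inv_mem ht)) (inv_mem hl)) (F.mu_conj h1 ht hl)
  set d := t * l * t⁻¹ * l⁻¹ with hd'
  have hdl : d * l * (d * l) = 1 := by
    rw [hd', inv_mul_cancel_right, show t * l * t⁻¹ * (t * l * t⁻¹) = t * (l * l) * t⁻¹ by group, hll]; group
  have h4 := pow_top (s := s) hdC
  rw [h2] at h4
  obtain ⟨v, hv⟩ := F.iota_surj (F.mem_u' (pow_mem hdC (2 ^ 1)) (by rw [← pow_add]; exact h4))
  have hv0 : v ≠ 0 := fun h0 => hd (F.mem_u' hdC (by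
    rw [h0, F.iota_zero, pow_one, pow_two] at hv; exact hv.symm))
  have hcm : cm l d = F.iota v := by
    have e1 : cm l d = (d * d)⁻¹ := by
      have e : l * d * l⁻¹ = d⁻¹ := by
        rw [inv_eq_of_mul_eq_one_left hll]
        exact eq_inv_of_mul_eq_one_right (by simpa [mul_assoc] using hdl)
      rw [cm, e]; group
    rw [e1, ← pow_two, show d ^ 2 = F.iota v by rw [hv, pow_one]]
    exact inv_eq_of_mul_eq_one_left (F.iota_mem v).2
  have := (F.lev_mu h1 hl).2 d hdC v hv.symm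
  rw [hcm] at this
  exact hne.2 (fixed_id _ hcj v hv0 (F.iota_inj this).symm)

theorem mu_thin (hbig : Big s) {t : G} (ht : t ∈ s.T) : Thin (F.mu t) := by
  obtain ⟨r, hr, hmu⟩ := F.mu_avg h1 ht
  obtain ⟨l, hl, hla, hlmu⟩ := F.exists_fixed h1 h2 hr (by rw [hmu]; exact cj_avg _)
  rw [hmu] at hlmu
  rw [Thin, ← hlmu]
  exact F.fixed_mu h1 h2 hbig hl hla

theorem exists_id (hbig : Big s) : ∃ l ∈ s.T, s.a * l = l * s.a ∧ F.mu l = idM := by
  by_contra hno
  push Not at hno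
  have hzero : ∀ t ∈ s.T, avg (F.mu t) = 0 := fun t ht => by
    obtain ⟨r, hr, hmu⟩ := F.mu_avg h1 ht
    obtain ⟨l, hl, hla, hlmu⟩ := F.exists_fixed h1 h2 hr (by rw [hmu]; exact cj_avg _)
    rcases F.fixed_mu h1 h2 hbig hl hla with h | h
    · rw [← hmu, ← hlmu, h]
    · exact absurd h (hno l hl hla)
  have hsqU : ∀ t ∈ s.T, t * t ∈ s.U := by
    intro t ht
    have hmem : t * t ∈ s.C := F.mem_c_of_mu h1 h2 (mul_mem ht ht) (by rw [F.mu_mul h1 ht ht, m4_self_add])
    have h4 := pow_top (s := s) hmem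
    rw [h2] at h4
    refine F.mem_u' hmem ?_
    by_cases hC : t ∈ s.C
    · have h4' := pow_top (s := s) hC
      rw [h2] at h4'
      rw [← pow_two, ← pow_two, ← pow_mul]; exact h4'
    obtain ⟨v, hv⟩ := F.iota_surj (F.mem_u' (pow_mem hmem (2 ^ 1)) (by rw [← pow_add]; exact h4))
    have h := (F.lev_mu h1 ht).2 _ hmem v hv.symm
    rw [show cm t (t * t) = 1 from cm_eq_one.2 (mul_assoc t t t).symm] at h
    have hz := avg_zero _ (hzero t ht) (fun h0 => hC (F.mem_c_of_mu h1 h2 ht h0)) v (F.iota_eq_one h.symm)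
    rw [hz, F.iota_zero, pow_one, pow_two] at hv
    exact hv.symm
  obtain ⟨E, hET, hab, hsq, h8⟩ := hbig
  let B : Subgroup G := closure ((E : Set G) ∪ (s.U : Set G))
  haveI : IsMulCommutative ↥B := isMulCommutative_closure (by
    rintro x (hx | hx) y (hy | hy)
    · exact hab x hx y hy
    · exact F.htu x (hET hx) y hy
    · exact (F.htu y (hET hy) x hx).symm
    · exact s.z_ab x hx.1 y hy.1)
  have hBab : ∀ p ∈ B, ∀ q ∈ B, p * q = q * p := fun p hp q hq =>
    congrArg Subtype.val (mul_comm' (⟨p, hp⟩ : ↥B) ⟨q, hq⟩)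
  have hBT : B ≤ s.T := (closure_le _).2 (Set.union_subset hET fun u hu => s.z_le_t hu.1)
  have hsqB : B ≤ omega B hBab := (closure_le _).2 (Set.union_subset
    (fun x hx => ⟨subset_closure (Or.inl hx), hsq x hx⟩) fun u hu => ⟨subset_closure (Or.inr hu), hu.2⟩)
  have h4 := s.hrk B hBT (le_normalizer_of_conj fun t ht y hy => ?_) hBab fun y hy => (hsqB hy).2
  · have := card_le_of_le (show E ≤ B from fun x hx => subset_closure (Or.inl hx))
    omega
  · have hyT := hBT hy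
    have hc : t * y * t⁻¹ * y⁻¹ ∈ s.U := by
      rw [show t * y * t⁻¹ * y⁻¹ = (t * t) * ((t⁻¹ * y) * (t⁻¹ * y)) * (y * y)⁻¹ by group]
      exact mul_mem (mul_mem (hsqU t ht) (hsqU _ (mul_mem (inv_mem ht) hyT))) (inv_mem (hsqU y hyT))
    rw [← inv_mul_cancel_right (t * y * t⁻¹) y]
    exact mul_mem (subset_closure (Or.inr hc)) hy

theorem card_c : Nat.card ↥s.C = 16 := by
  choose r hr hrv using fun v => F.exists_root (i := 1) (by omega) v
  have hsq : ∀ v, r v * r v = F.iota v := fun v => by rw [← pow_two]; simpa using hrv v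
  let f : V2 × V2 → ↥s.C := fun p => ⟨F.iota p.1 * r p.2, mul_mem (F.iota_c _) (hr _)⟩
  have hf : Function.Bijective f := by
    refine ⟨fun p q h => ?_, fun c => ?_⟩
    · have h' : F.iota p.1 * r p.2 = F.iota q.1 * r q.2 := congrArg Subtype.val h
      have key : ∀ p : V2 × V2, F.iota p.1 * r p.2 * (F.iota p.1 * r p.2) = F.iota p.2 := fun p => by
        rw [show F.iota p.1 * r p.2 * (F.iota p.1 * r p.2) = F.iota p.1 * (r p.2 * F.iota p.1) * r p.2 by group,
          F.cc (hr _) (F.iota_c _), show F.iota p.1 * (F.iota p.1 * r p.2) * r p.2 =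
            (F.iota p.1 * F.iota p.1) * (r p.2 * r p.2) by group, (F.iota_mem _).2, hsq, one_mul]
      have e2 : p.2 = q.2 := F.iota_inj ((key p).symm.trans ((congrArg (fun x => x * x) h').trans (key q)))
      rw [e2] at h'
      exact Prod.ext (F.iota_inj (mul_right_cancel h')) e2
    · have h4 := pow_top (s := s) c.2
      rw [h2] at h4
      obtain ⟨w, hw⟩ := F.iota_surj (F.mem_u' (pow_mem c.2 (2 ^ 1)) (by rw [← pow_add]; exact h4))
      obtain ⟨v, hv⟩ := F.iota_surj (F.mem_u' (mul_mem c.2 (inv_mem (hr w))) (by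
        rw [← pow_two, (show Commute (c : G) (r w)⁻¹ from F.cc c.2 (inv_mem (hr w))).mul_pow, inv_pow,
          show (r w) ^ 2 = F.iota w by simpa using hrv w, show (c : G) ^ 2 = F.iota w by simpa using hw.symm,
          mul_inv_cancel]))
      exact ⟨(v, w), Subtype.ext (show F.iota v * r w = c by rw [hv, inv_mul_cancel_right])⟩
  rw [← Nat.card_congr (Equiv.ofBijective f hf)]
  simp

theorem card_small (hbig : Big s) : Nat.card ↥s.T = 128 := by
  obtain ⟨l, hl, hla, hlmu⟩ := F.exists_id h1 h2 hbig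
  have hll : l * l = 1 := by
    refine F.hfix _ (F.mem_c_of_mu h1 h2 (mul_mem hl hl) ?_) (((show Commute s.a l from hla)).mul_right hla).eq
    rw [F.mu_mul h1 hl hl, m4_self_add]
  have hlC : l ∉ s.C := fun h => by
    have := F.mu_c h1 h
    rw [hlmu] at this
    revert this; decide
  let f : ↥s.T →* Multiplicative M4 :=
    MonoidHom.mk' (fun t => Multiplicative.ofAdd (F.mu t)) fun t r => by
      rw [← ofAdd_add, ← F.mu_mul h1 t.2 r.2]; rfl
  have hker : f.ker = s.C.subgroupOf s.T := by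
    ext t
    rw [MonoidHom.mem_ker, mem_subgroupOf]
    exact ⟨fun h => F.mem_c_of_mu h1 h2 t.2 (Multiplicative.ofAdd.injective h), fun h =>
      congrArg Multiplicative.ofAdd (F.mu_c h1 h)⟩
  obtain ⟨t, ht, hM0, hM1⟩ : ∃ t ∈ s.T, F.mu t ≠ 0 ∧ F.mu t ≠ idM := by
    by_contra hno
    push Not at hno
    refine F.normal_false hl hll (fun h => hlC (F.u_c h)) fun t ht => ?_
    have hcU : ∀ c ∈ s.C, c * l * c⁻¹ * l⁻¹ ∈ s.U := fun c hc => by
      have hcm : cm l c ∈ s.U := by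
        have h4 := pow_top (s := s) hc
        rw [h2] at h4
        obtain ⟨v, hv⟩ := F.iota_surj (F.mem_u' (pow_mem hc (2 ^ 1)) (by rw [← pow_add]; exact h4))
        rw [(F.lev_mu h1 hl).2 c hc v hv.symm]
        exact F.iota_mem _
      rw [show c * l * c⁻¹ * l⁻¹ = (cm l c)⁻¹ by unfold cm; group]
      exact inv_mem hcm
    by_cases h0 : F.mu t = 0
    · exact hcU t (F.mem_c_of_mu h1 h2 ht h0)
    · have hd : t * l ∈ s.C := F.mem_c_of_mu h1 h2 (mul_mem ht hl) (by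
        rw [F.mu_mul h1 ht hl, hlmu, hno t ht h0, m4_self_add])
      have := hcU _ hd
      rwa [show t * l * l * (t * l)⁻¹ * l⁻¹ = t * l * t⁻¹ * l⁻¹ by
        rw [show t * l * l = t * (l * l) by group, hll, mul_one,
          show (t * l)⁻¹ = l⁻¹ * t⁻¹ by group, inv_eq_of_mul_eq_one_left hll]; group] at this
  have hrange : Nat.card ↥f.range = 8 := by
    have e : ∀ N : M4, Multiplicative.ofAdd N ∈ f.range ↔ Thin N := by
      intro N
      constructor
      · rintro ⟨r, hr⟩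
        rw [← Multiplicative.ofAdd.injective hr]
        exact F.mu_thin h1 h2 hbig r.2
      · intro hN
        have mem : ∀ r, r ∈ s.T → Multiplicative.ofAdd (F.mu r) ∈ f.range := fun r hr => ⟨⟨r, hr⟩, rfl⟩
        have hta := (mem_normalizer_iff.1 s.haT t).1 ht
        have htaa := (mem_normalizer_iff.1 s.haT _).1 hta
        rcases thin_span _ (F.mu_thin h1 h2 hbig ht) hM0 hM1 N hN with h | h | h | h | h | h | h | h <;> subst h
        · exact one_mem _
        · rw [← hlmu]; exact mem l hl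
        · exact mem t ht
        · rw [← F.mu_a h1 ht]; exact mem _ hta
        · rw [← F.mu_a h1 ht, ← F.mu_a h1 hta]; exact mem _ htaa
        · rw [← hlmu, ← F.mu_mul h1 ht hl]; exact mem _ (mul_mem ht hl)
        · rw [← F.mu_a h1 ht, ← hlmu, ← F.mu_mul h1 hta hl]; exact mem _ (mul_mem hta hl)
        · rw [← F.mu_a h1 ht, ← F.mu_a h1 hta, ← hlmu, ← F.mu_mul h1 htaa hl]; exact mem _ (mul_mem htaa hl)
    rw [← card_thin]
    exact Nat.card_congr (Equiv.subtypeEquiv Multiplicative.toAdd fun x => by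
      rw [← e, ofAdd_toAdd])
  have h3 := card_mul_index f.ker
  rw [index_ker, hrange, hker, Nat.card_congr (subgroupOfEquivOfLe s.hCT).toEquiv, F.card_c h1 h2] at h3
  omega

end Frame

end CfsgLib.NormalRankTwo
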