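import Mathlib
import Cfsg.Agent.S0501
import Cfsg.Agent.Lib.Coprime

/-!
# Two-groups of normal rank two with an automorphism of odd order: the critical subgroup

`T` is a two-group inside `G` without normal elementary abelian subgroups of order eight, `C` a critical
subgroup of `T` and `a` an element of odd order normalising both and moving `C`.
-/

set_option autoImplicit false
set_option linter.unusedSectionVars false

namespace CfsgLib.NormalRankTwo

open Subgroup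
open scoped commutatorElement

variable {G : Type*} [Group G]

/-- A two-group of normal rank at most two with a critical subgroup and an odd element moving it. -/
structure Ctx (G : Type*) [Group G] where
  T : Subgroup G
  C : Subgroup G
  a : G
  hT : IsPGroup 2 ↥T
  hCT : C ≤ T
  hTC : T ≤ normalizer (C : Set G)
  hcomm : ∀ t ∈ T, ∀ c ∈ C, t * c * t⁻¹ * c⁻¹ ∈ C ⊓ centralizer (C : Set G)
  hsq : ∀ c ∈ C, c * c ∈ C ⊓ centralizer (C : Set G)
  hcen : T ⊓ centralizer (C : Set G) ≤ C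
  hrk : ∀ A : Subgroup G, A ≤ T → T ≤ normalizer (A : Set G) → (∀ x ∈ A, ∀ y ∈ A, x * y = y * x) →
    (∀ x ∈ A, x * x = 1) → Nat.card ↥A ≤ 4
  haT : a ∈ normalizer (T : Set G)
  haC : a ∈ normalizer (C : Set G)
  ha : Odd (orderOf a)
  hmove : ∃ c ∈ C, a * c * a⁻¹ ≠ c

theorem le_normalizer_of_conj {K A : Subgroup G} (h : ∀ t ∈ K, ∀ x ∈ A, t * x * t⁻¹ ∈ A) :
    K ≤ normalizer (A : Set G) := by
  intro t ht
  refine mem_normalizer_iff.2 fun x => ⟨fun hx => h t ht x hx, fun hx => ?_⟩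
  simpa [mul_assoc] using h t⁻¹ (inv_mem ht) _ hx

theorem five_le_card [Finite G] {A : Subgroup G} {s : Fin 5 → G} (hs : Function.Injective s) (hm : ∀ i, s i ∈ A) :
    5 ≤ Nat.card ↥A := by
  have := Nat.card_le_card_of_injective (fun i => (⟨s i, hm i⟩ : ↥A))
    (fun i j h => hs (congrArg Subtype.val h))
  simpa using this

/-- The involutions and the identity of an abelian subgroup. -/
def omega (A : Subgroup G) (hA : ∀ x ∈ A, ∀ y ∈ A, x * y = y * x) : Subgroup G where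
  carrier := {x | x ∈ A ∧ x * x = 1}
  one_mem' := ⟨A.one_mem, one_mul 1⟩
  mul_mem' := fun {x y} hx hy => ⟨A.mul_mem hx.1 hy.1, by
    rw [show x * y * (x * y) = x * (y * x) * y by group, hA y hy.1 x hx.1,
      show x * (x * y) * y = x * x * (y * y) by group, hx.2, hy.2, one_mul]⟩
  inv_mem' := fun {x} hx => ⟨A.inv_mem hx.1, by rw [← mul_inv_rev, hx.2, inv_one]⟩

theorem mem_omega {A : Subgroup G} {hA : ∀ x ∈ A, ∀ y ∈ A, x * y = y * x} {x : G} :
    x ∈ omega A hA ↔ x ∈ A ∧ x * x = 1 := Iff.rfl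

namespace Ctx

variable (s : Ctx G)

/-- The centre of the critical subgroup. -/
def Z : Subgroup G := s.C ⊓ centralizer (s.C : Set G)

theorem z_le_c : s.Z ≤ s.C := inf_le_left
theorem z_le_t : s.Z ≤ s.T := s.z_le_c.trans s.hCT

theorem z_comm {x : G} (hx : x ∈ s.Z) {c : G} (hc : c ∈ s.C) : x * c = c * x := (hx.2 c hc).symm

theorem z_ab (x : G) (hx : x ∈ s.Z) (y : G) (hy : y ∈ s.Z) : x * y = y * x := s.z_comm hx hy.1

theorem comm_z {t : G} (ht : t ∈ s.T) {c : G} (hc : c ∈ s.C) : t * c * t⁻¹ * c⁻¹ ∈ s.Z := s.hcomm t ht c hc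

theorem sq_z {c : G} (hc : c ∈ s.C) : c * c ∈ s.Z := s.hsq c hc

theorem mem_z_of_cent {t : G} (ht : t ∈ s.T) (h : ∀ c ∈ s.C, t * c = c * t) : t ∈ s.Z :=
  ⟨s.hcen ⟨ht, fun c hc => (h c hc).symm⟩, fun c hc => (h c hc).symm⟩

theorem conj_c {t : G} (ht : t ∈ s.T) {c : G} (hc : c ∈ s.C) : t * c * t⁻¹ ∈ s.C :=
  (mem_normalizer_iff.1 (s.hTC ht) c).1 hc

/-- Subgroups between the centre and the critical subgroup are normal. -/
theorem normal_between {B : Subgroup G} (h1 : s.Z ≤ B) (h2 : B ≤ s.C) : s.T ≤ normalizer (B : Set G) :=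
  le_normalizer_of_conj fun t ht x hx => by
    have := B.mul_mem (h1 (s.comm_z ht (h2 hx))) hx
    simpa [mul_assoc] using this

theorem normal_z : s.T ≤ normalizer (s.Z : Set G) := s.normal_between le_rfl s.z_le_c

theorem conj_z {t : G} (ht : t ∈ s.T) {x : G} (hx : x ∈ s.Z) : t * x * t⁻¹ ∈ s.Z :=
  (mem_normalizer_iff.1 (s.normal_z ht) x).1 hx

theorem card_omega_le {A : Subgroup G} (hA : ∀ x ∈ A, ∀ y ∈ A, x * y = y * x) (hAT : A ≤ s.T)
    (hn : s.T ≤ normalizer (A : Set G)) : Nat.card ↥(omega A hA) ≤ 4 := by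
  refine s.hrk _ (fun x hx => hAT hx.1) (le_normalizer_of_conj fun t ht x hx => ?_)
    (fun x hx y hy => hA x hx.1 y hy.1) fun x hx => hx.2
  refine ⟨(mem_normalizer_iff.1 (hn ht) x).1 hx.1, ?_⟩
  rw [show t * x * t⁻¹ * (t * x * t⁻¹) = t * (x * x) * t⁻¹ by group, hx.2]; group

/-- The critical subgroup has no elementary abelian subgroup of order eight. -/
theorem no_eight [Finite G] {E : Subgroup G} (hEC : E ≤ s.C) (hab : ∀ x ∈ E, ∀ y ∈ E, x * y = y * x)
    (hsq : ∀ x ∈ E, x * x = 1) : Nat.card ↥E ≤ 4 := by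
  have hsets : ∀ x ∈ (E : Set G) ∪ (s.Z : Set G), ∀ y ∈ (E : Set G) ∪ (s.Z : Set G), x * y = y * x := by
    rintro x (hx | hx) y (hy | hy)
    · exact hab x hx y hy
    · exact (s.z_comm hy (hEC hx)).symm
    · exact s.z_comm hx (hEC hy)
    · exact s.z_ab x hx y hy
  set B := closure ((E : Set G) ∪ (s.Z : Set G)) with hB
  haveI : IsMulCommutative ↥B := isMulCommutative_closure hsets
  have hBab : ∀ x ∈ B, ∀ y ∈ B, x * y = y * x := fun x hx y hy =>
    congrArg Subtype.val (mul_comm' (⟨x, hx⟩ : ↥B) ⟨y, hy⟩)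
  have h2 : B ≤ s.C := by
    rw [hB, closure_le]; exact Set.union_subset hEC s.z_le_c
  have h1 : s.Z ≤ B := fun x hx => subset_closure (Or.inr hx)
  refine le_trans ?_ (s.card_omega_le hBab (h2.trans s.hCT) (s.normal_between h1 h2))
  exact card_le_of_le fun x hx => ⟨subset_closure (Or.inl hx), hsq x hx⟩

/-- Three independent commuting involutions of the critical subgroup do not exist. -/
theorem no_three [Finite G] {x y w : G} (hx : x ∈ s.C) (hy : y ∈ s.C) (hw : w ∈ s.C) (hxx : x * x = 1)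
    (hyy : y * y = 1) (hww : w * w = 1) (hxy : x * y = y * x) (hxw : x * w = w * x) (hyw : y * w = w * y)
    (x1 : x ≠ 1) (y1 : y ≠ 1) (yx : y ≠ x) (w1 : w ≠ 1) (wx : w ≠ x) (wy : w ≠ y) (wxy : w ≠ x * y) :
    False := by
  set B := closure ({x, y, w} : Set G) with hB
  haveI : IsMulCommutative ↥B := isMulCommutative_closure (by
    simp only [Set.mem_insert_iff, Set.mem_singleton_iff]
    rintro a (rfl | rfl | rfl) b (rfl | rfl | rfl)
    exacts [rfl, hxy, hxw, hxy.symm, rfl, hyw, hxw.symm, hyw.symm, rfl])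
  have hBab : ∀ a ∈ B, ∀ b ∈ B, a * b = b * a := fun a ha b hb =>
    congrArg Subtype.val (mul_comm' (⟨a, ha⟩ : ↥B) ⟨b, hb⟩)
  have hBC : B ≤ s.C := by
    rw [hB, closure_le]
    rintro a (rfl | rfl | rfl)
    exacts [hx, hy, hw]
  have hin : B ≤ omega B hBab := by
    refine (closure_le _).2 ?_
    rintro a (rfl | rfl | rfl)
    exacts [⟨subset_closure (by simp), hxx⟩, ⟨subset_closure (by simp), hyy⟩, ⟨subset_closure (by simp), hww⟩]
  have h4 := s.no_eight hBC hBab fun a ha => (hin ha).2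
  have xy1 : x * y ≠ 1 := fun h => yx (mul_left_cancel (h.trans hxx.symm))
  have hm : ∀ i, (![1, x, y, x * y, w] : Fin 5 → G) i ∈ B := by
    have mx : x ∈ B := subset_closure (by simp)
    have my : y ∈ B := subset_closure (by simp)
    have mw : w ∈ B := subset_closure (by simp)
    intro i; fin_cases i
    exacts [one_mem _, mx, my, mul_mem mx my, mw]
  have hinj : Function.Injective (![1, x, y, x * y, w] : Fin 5 → G) := by
    intro i j h
    fin_cases i <;> fin_cases j <;> simp_all [eq_comm]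
  have := five_le_card hinj hm
  omega

/-- The involutions of the centre. -/
def U : Subgroup G := omega s.Z s.z_ab

theorem mem_u {x : G} : x ∈ s.U ↔ x ∈ s.Z ∧ x * x = 1 := Iff.rfl

theorem card_u_le : Nat.card ↥s.U ≤ 4 := s.card_omega_le s.z_ab s.z_le_t s.normal_z

/-- An involution of `C` commuting with the involutions of a four-group in the centre lies in it. -/
theorem mem_u_of_four [Finite G] (h4 : 4 ≤ Nat.card ↥s.U) {c : G} (hc : c ∈ s.C) (hcc : c * c = 1) : c ∈ s.U := by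
  by_contra hcu
  obtain ⟨⟨x, hx⟩, ⟨y, hy⟩, hx1, hy1, hxy⟩ : ∃ x y : ↥s.U, x ≠ 1 ∧ y ≠ 1 ∧ y ≠ x := by
    by_contra hno
    push Not at hno
    rcases subsingleton_or_nontrivial ↥s.U with h | h
    · rw [Nat.card_of_subsingleton (1 : ↥s.U)] at h4; omega
    · obtain ⟨x, hx⟩ := exists_ne (1 : ↥s.U)
      have hle : Nat.card ↥s.U ≤ 2 := by
        have : Function.Surjective (fun b : Bool => if b then x else (1 : ↥s.U)) := fun u => by
          by_cases hu : u = 1
          · exact ⟨false, by simp [hu]⟩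
          · exact ⟨true, by simp [hno x u hx hu]⟩
        simpa using Nat.card_le_card_of_surjective _ this
      omega
  have x1 : x ≠ 1 := fun h => hx1 (Subtype.ext h)
  have y1 : y ≠ 1 := fun h => hy1 (Subtype.ext h)
  have yx : y ≠ x := fun h => hxy (Subtype.ext h)
  refine s.no_three (x := x) (y := y) (w := c) hx.1.1 hy.1.1 hc hx.2 hy.2 hcc (s.z_comm hx.1 hy.1.1)
    (s.z_comm hx.1 hc) (s.z_comm hy.1 hc) x1 y1 yx (fun h => hcu (h ▸ one_mem _)) (fun h => hcu (h ▸ hx))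
    (fun h => hcu (h ▸ hy)) fun h => hcu (h ▸ mul_mem hx hy)

/-- The centralizer of the centre. -/
def T0 : Subgroup G := s.T ⊓ centralizer (s.Z : Set G)

theorem t0_le : s.T0 ≤ s.T := inf_le_left

theorem c_le_t0 : s.C ≤ s.T0 := fun c hc => ⟨s.hCT hc, fun _ hz => s.z_comm hz hc⟩

theorem z_le_t0 : s.Z ≤ s.T0 := s.z_le_c.trans s.c_le_t0

theorem t0_z {t : G} (ht : t ∈ s.T0) {x : G} (hx : x ∈ s.Z) : t * x = x * t := (ht.2 x hx).symm

/-- Commutators of `T0` with `C` are involutions of the centre. -/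
theorem comm_u {t : G} (ht : t ∈ s.T0) {c : G} (hc : c ∈ s.C) : t * c * t⁻¹ * c⁻¹ ∈ s.U := by
  have hz := s.comm_z ht.1 hc
  refine ⟨hz, ?_⟩
  have h1 : t * (c * c) * t⁻¹ = c * c := by rw [s.t0_z ht (s.sq_z hc), mul_inv_cancel_right]
  set d := t * c * t⁻¹ * c⁻¹ with hd
  have h2 : t * (c * c) * t⁻¹ = d * d * (c * c) := by
    calc t * (c * c) * t⁻¹ = (d * c) * (d * c) := by rw [hd]; group
      _ = d * (c * d) * c := by group
      _ = d * d * (c * c) := by rw [← s.z_comm hz hc]; group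
  exact mul_eq_right.1 (h2.symm.trans h1)

theorem sq_t0 {t : G} (ht : t ∈ s.T0) : t * t ∈ s.Z := by
  refine s.mem_z_of_cent (mul_mem ht.1 ht.1) fun c hc => ?_
  have hu := s.comm_u ht hc
  have hd := s.t0_z ht hu.1
  set d := t * c * t⁻¹ * c⁻¹ with hd'
  have h1 : t * c = d * c * t := by rw [hd']; group
  calc t * t * c = t * (t * c) := by group
    _ = t * d * c * t := by rw [h1]; group
    _ = d * (t * c) * t := by rw [hd]; group
    _ = d * d * c * (t * t) := by rw [h1]; group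
    _ = c * (t * t) := by rw [hu.2, one_mul]

theorem comm_t0 {t r : G} (ht : t ∈ s.T0) (hr : r ∈ s.T0) : t * r * t⁻¹ * r⁻¹ ∈ s.Z := by
  refine s.mem_z_of_cent (mul_mem (mul_mem (mul_mem ht.1 hr.1) (inv_mem ht.1)) (inv_mem hr.1)) fun c hc => ?_
  have key : ∀ {t r c : G}, t ∈ s.T0 → r ∈ s.T0 → c ∈ s.C →
      t * r * c = (t * c * t⁻¹ * c⁻¹) * (r * c * r⁻¹ * c⁻¹) * c * (t * r) := by
    intro t r c ht hr hc
    have hu := s.comm_u hr hc
    calc t * r * c = t * (r * c * r⁻¹ * c⁻¹) * c * r := by group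
      _ = (r * c * r⁻¹ * c⁻¹) * (t * c * t⁻¹ * c⁻¹) * c * (t * r) := by rw [s.t0_z ht hu.1]; group
      _ = _ := by rw [s.z_ab _ hu.1 _ (s.comm_u ht hc).1]
  have hconj : ∀ q ∈ s.C, t * r * q * (t * r)⁻¹ = r * t * q * (r * t)⁻¹ := fun q hq => by
    rw [key ht hr hq, key hr ht hq, mul_inv_cancel_right, mul_inv_cancel_right,
      s.z_ab _ (s.comm_u hr hq).1 _ (s.comm_u ht hq).1]
  have hq : (r * t)⁻¹ * c * (r * t) ∈ s.C := by
    have := s.conj_c (inv_mem (mul_mem hr.1 ht.1)) hc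
    rwa [inv_inv] at this
  have h := hconj _ hq
  rw [show r * t * ((r * t)⁻¹ * c * (r * t)) * (r * t)⁻¹ = c by group] at h
  calc t * r * t⁻¹ * r⁻¹ * c
      = t * r * ((r * t)⁻¹ * c * (r * t)) * (t * r)⁻¹ * (t * r * t⁻¹ * r⁻¹) := by group
    _ = c * (t * r * t⁻¹ * r⁻¹) := by rw [h]

/-- Subgroups of `T0` containing the centre are normal in it. -/
theorem t0_normal_between {B : Subgroup G} (h1 : s.Z ≤ B) (h2 : B ≤ s.T0) : s.T0 ≤ normalizer (B : Set G) :=
  le_normalizer_of_conj fun t ht x hx => by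
    have := B.mul_mem (h1 (s.comm_t0 ht (h2 hx))) hx
    simpa [mul_assoc] using this

/-- If the centre of `C` is central in `T`, the rank is at most two. -/
theorem rank_le_two_of_central [Finite G] (h : s.T ≤ centralizer (s.Z : Set G)) {E : Subgroup G} (hET : E ≤ s.T)
    (hab : ∀ x ∈ E, ∀ y ∈ E, x * y = y * x) (hsq : ∀ x ∈ E, x * x = 1) : Nat.card ↥E ≤ 4 := by
  have h0 : s.T ≤ s.T0 := le_inf le_rfl h
  set B := closure ((E : Set G) ∪ (s.Z : Set G)) with hB
  haveI : IsMulCommutative ↥B := isMulCommutative_closure (by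
    rintro x (hx | hx) y (hy | hy)
    · exact hab x hx y hy
    · exact s.t0_z (h0 (hET hx)) hy
    · exact (s.t0_z (h0 (hET hy)) hx).symm
    · exact s.z_ab x hx y hy)
  have hBab : ∀ x ∈ B, ∀ y ∈ B, x * y = y * x := fun x hx y hy =>
    congrArg Subtype.val (mul_comm' (⟨x, hx⟩ : ↥B) ⟨y, hy⟩)
  have h2 : B ≤ s.T := by
    rw [hB, closure_le]; exact Set.union_subset hET s.z_le_t
  refine le_trans ?_ (s.card_omega_le hBab h2
    (h0.trans (s.t0_normal_between (fun x hx => subset_closure (Or.inr hx)) (h2.trans h0))))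
  exact card_le_of_le fun x hx => ⟨subset_closure (Or.inl hx), hsq x hx⟩

/-- An elementary abelian section has order at most sixteen. -/
theorem relIndex_le_sixteen [Finite G] {H N : Subgroup G} (hHT : H ≤ s.T) (hNH : N ≤ H)
    (hn : H ≤ normalizer (N : Set G)) (hsq : ∀ h ∈ H, h * h ∈ N) : N.relIndex H ≤ 16 := by
  haveI : Finite ↥s.T := Subtype.finite
  have hsec := Cfsg.Agent.S0501.result (P := ↥s.T) s.hT fun A hA hAc hA2 => by
    rw [← card_map_of_injective (f := s.T.subtype) Subtype.coe_injective]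
    refine s.hrk _ (map_subtype_le A) (le_normalizer_of_conj fun t ht x hx => ?_) ?_ ?_
    · obtain ⟨y, hy, rfl⟩ := hx
      exact ⟨⟨t, ht⟩ * y * ⟨t, ht⟩⁻¹, hA.conj_mem y hy ⟨t, ht⟩, rfl⟩
    · rintro _ ⟨x, hx, rfl⟩ _ ⟨y, hy, rfl⟩
      exact congrArg (fun z : A => ((z : ↥s.T) : G)) (mul_comm' (⟨x, hx⟩ : A) ⟨y, hy⟩)
    · rintro _ ⟨x, hx, rfl⟩
      have := hA2 x hx
      rw [sq] at this
      exact congrArg Subtype.val this
  let H' := H.subgroupOf s.T
  let N' : Subgroup ↥H' := (N.subgroupOf s.T).subgroupOf H'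
  haveI : N'.Normal := ⟨fun n hn' g => (mem_normalizer_iff.1 (hn g.2) _).1 hn'⟩
  have hsq' : ∀ q : ↥H' ⧸ N', q * q = 1 := by
    rintro ⟨g⟩
    exact (QuotientGroup.eq_one_iff (g * g)).2 (hsq _ g.2)
  have hc : ∀ q r : ↥H' ⧸ N', q * r = r * q := fun q r => by
    have e : ∀ z : ↥H' ⧸ N', z⁻¹ = z := fun z => inv_eq_of_mul_eq_one_left (hsq' z)
    rw [← e (q * r), mul_inv_rev, e, e]
  have h16 := hsec H' N' ⊤ ⟨⟨fun q r => Subtype.ext (hc q r)⟩⟩ (fun q _ => by rw [sq]; exact hsq' q)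
  rw [card_top] at h16
  have e1 : (N.subgroupOf s.T).relIndex H' = N.relIndex H := relIndex_subgroupOf hHT
  rw [← e1]
  exact h16.trans (by norm_num)

theorem relIndex_t0_le [Finite G] : s.Z.relIndex s.T0 ≤ 16 :=
  s.relIndex_le_sixteen s.t0_le s.z_le_t0 (s.t0_normal_between le_rfl s.z_le_t0) fun _ h => s.sq_t0 h

/-! ### The moved part of the critical subgroup -/

/-- The cyclic group of `a`. -/
def A : Subgroup G := zpowers s.a

/-- The part of `C` moved by `a`. -/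
def X : Subgroup G := ⁅s.C, s.A⁆

theorem a_normalizes : s.A ≤ normalizer (s.C : Set G) := zpowers_le.2 s.haC

theorem coprime_c [Finite G] : (Nat.card ↥s.A).Coprime (Nat.card ↥s.C) := by
  haveI := Fact.mk Nat.prime_two
  obtain ⟨n, hn⟩ := IsPGroup.iff_card.1 (s.hT.to_le s.hCT)
  rw [hn, A, Nat.card_zpowers]
  exact (Nat.coprime_two_right.2 s.ha).pow_right n

theorem x_le_c : s.X ≤ s.C := commutator_le_of_le_normalizer s.a_normalizes

theorem c_normalizes_x : s.C ≤ normalizer (s.X : Set G) := CfsgLib.left_le_normalizer_commutator s.A s.C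

theorem a_normalizes_x : s.A ≤ normalizer (s.X : Set G) := CfsgLib.right_le_normalizer_commutator s.A s.C

theorem x_conj {x : G} (hx : x ∈ s.X) : s.a * x * s.a⁻¹ ∈ s.X :=
  (mem_normalizer_iff.1 (s.a_normalizes_x (mem_zpowers _)) x).1 hx

theorem solv_a : Group.IsSolvable ↥s.A :=
  Group.isSolvable_of_comm fun x y => Subtype.ext (by
    obtain ⟨_, ⟨m, rfl⟩⟩ := x
    obtain ⟨_, ⟨n, rfl⟩⟩ := y
    exact ((Commute.refl s.a).zpow_zpow m n).eq)

theorem x_eq [Finite G] : ⁅s.X, s.A⁆ = s.X :=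
  CfsgLib.coprime_commutator_commutator s.a_normalizes s.coprime_c (Or.inl s.solv_a)

theorem fixed_zpow {c : G} (h : s.a * c = c * s.a) : c ∈ centralizer (s.A : Set G) := by
  rintro _ ⟨n, rfl⟩
  exact ((show Commute s.a c from h).zpow_left n).eq

theorem decomp [Finite G] {c : G} (hc : c ∈ s.C) :
    ∃ x ∈ s.X, ∃ d ∈ s.C, s.a * d = d * s.a ∧ c = x * d := by
  obtain ⟨x, hx, d, hd, rfl⟩ := CfsgLib.coprime_decomp s.a_normalizes s.coprime_c (Or.inl s.solv_a) hc
  exact ⟨x, hx, d, hd.1, hd.2 _ (mem_zpowers _), rfl⟩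

theorem x_ne_bot [Finite G] : s.X ≠ ⊥ := by
  intro h
  obtain ⟨c, hc, hne⟩ := s.hmove
  obtain ⟨x, hx, d, -, hd, rfl⟩ := s.decomp hc
  rw [h, mem_bot] at hx
  subst hx
  exact hne (by rw [one_mul, hd, mul_inv_cancel_right])

/-- A homomorphism on `X` constant on the orbits of `a` is trivial. -/
theorem hom_trivial [Finite G] {H : Type*} [Group H] (f : G → H) (hmul : ∀ x ∈ s.X, ∀ y ∈ s.X, f (x * y) = f x * f y)
    (hf : ∀ x ∈ s.X, f (s.a * x * s.a⁻¹) = f x) {x : G} (hx : x ∈ s.X) : f x = 1 := by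
  have h1 : f 1 = 1 := by
    have := hmul 1 (one_mem _) 1 (one_mem _)
    rw [one_mul] at this
    exact left_eq_mul.1 this
  have hinv : ∀ y ∈ s.X, f y⁻¹ = (f y)⁻¹ := fun y hy => by
    refine eq_inv_of_mul_eq_one_left ?_
    rw [← hmul _ (inv_mem hy) y hy, inv_mul_cancel, h1]
  let K : Subgroup G :=
    { carrier := {y | y ∈ s.X ∧ f y = 1}
      one_mem' := ⟨one_mem _, h1⟩
      mul_mem' := fun {u v} hu hv => ⟨mul_mem hu.1 hv.1, by rw [hmul u hu.1 v hv.1, hu.2, hv.2, one_mul]⟩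
      inv_mem' := fun {u} hu => ⟨inv_mem hu.1, by rw [hinv u hu.1, hu.2, inv_one]⟩ }
  have hn : ∀ (n : ℕ) (y : G), y ∈ s.X → s.a ^ n * y * (s.a ^ n)⁻¹ ∈ s.X ∧ f (s.a ^ n * y * (s.a ^ n)⁻¹) = f y := by
    intro n
    induction n with
    | zero => intro y hy; simp [hy]
    | succ n ih =>
      intro y hy
      obtain ⟨h2, h3⟩ := ih y hy
      have e : s.a ^ (n + 1) * y * (s.a ^ (n + 1))⁻¹ = s.a * (s.a ^ n * y * (s.a ^ n)⁻¹) * s.a⁻¹ := by
        rw [pow_succ']; group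
      rw [e]
      exact ⟨s.x_conj h2, (hf _ h2).trans h3⟩
  have hle : s.X ≤ K := by
    conv_lhs => rw [← s.x_eq]
    rw [commutator_le]
    intro y hy b hb
    obtain ⟨n, rfl⟩ : b ∈ Submonoid.powers s.a := mem_powers_iff_mem_zpowers.2 hb
    obtain ⟨h2, h3⟩ := hn n y⁻¹ (inv_mem hy)
    refine ⟨?_, ?_⟩
    · rw [commutatorElement_def, show y * s.a ^ n * y⁻¹ * (s.a ^ n)⁻¹ = y * (s.a ^ n * y⁻¹ * (s.a ^ n)⁻¹) by group]
      exact mul_mem hy h2
    · rw [commutatorElement_def, show y * s.a ^ n * y⁻¹ * (s.a ^ n)⁻¹ = y * (s.a ^ n * y⁻¹ * (s.a ^ n)⁻¹) by group,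
        hmul y hy _ h2, h3, hinv y hy, mul_inv_cancel]
  exact (hle hx).2

/-- Elements fixed by `a` centralise `X` as soon as `a` fixes the commutators. -/
theorem fixed_cent_x [Finite G] {l : G} (hl : l ∈ s.T) (hla : s.a * l = l * s.a)
    (hz : ∀ x ∈ s.X, s.a * (l * x * l⁻¹ * x⁻¹) = l * x * l⁻¹ * x⁻¹ * s.a) {x : G} (hx : x ∈ s.X) :
    l * x = x * l := by
  have h := s.hom_trivial (fun y => l * y * l⁻¹ * y⁻¹) (fun u hu v hv => by
    have hd := s.comm_z hl (s.x_le_c hv)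
    show l * (u * v) * l⁻¹ * (u * v)⁻¹ = l * u * l⁻¹ * u⁻¹ * (l * v * l⁻¹ * v⁻¹)
    rw [show l * (u * v) * l⁻¹ * (u * v)⁻¹ = l * u * l⁻¹ * ((l * v * l⁻¹ * v⁻¹) * u⁻¹) by group,
      s.z_comm hd (inv_mem (s.x_le_c hu)), ← mul_assoc]) (fun u hu => by
    show l * (s.a * u * s.a⁻¹) * l⁻¹ * (s.a * u * s.a⁻¹)⁻¹ = l * u * l⁻¹ * u⁻¹
    have e1 : l⁻¹ * s.a = s.a * l⁻¹ := (show Commute s.a l from hla).inv_right.eq.symm
    calc l * (s.a * u * s.a⁻¹) * l⁻¹ * (s.a * u * s.a⁻¹)⁻¹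
        = (l * s.a) * u * (s.a⁻¹ * l⁻¹ * s.a) * u⁻¹ * s.a⁻¹ := by group
      _ = s.a * (l * u * l⁻¹ * u⁻¹) * s.a⁻¹ := by rw [← hla, mul_assoc s.a⁻¹, e1]; group
      _ = _ := by rw [hz u hu, mul_inv_cancel_right]) hx
  calc l * x = (l * x * l⁻¹ * x⁻¹) * (x * l) := by group
    _ = x * l := by rw [h, one_mul]

end Ctx

end CfsgLib.NormalRankTwo
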