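import Cfsg.Agent.Lib.NormalRankTwo.QuatSmall
import Cfsg.Prelude.Def_Transfer

/-!
# An extraspecial or special moved part
-/

set_option autoImplicit false
set_option linter.unusedSectionVars false

namespace CfsgLib.NormalRankTwo

open Subgroup
open scoped commutatorElement

variable {G : Type*} [Group G] [Finite G] {s : Ctx G}

/-- The centre of the moved part, in the ambient group. -/
def cx (s : Ctx G) : Subgroup G := (center ↥s.X).map s.X.subtype

theorem mem_cx {x : G} : x ∈ cx s ↔ x ∈ s.X ∧ ∀ y ∈ s.X, x * y = y * x := by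
  constructor
  · rintro ⟨p, hp, rfl⟩
    exact ⟨p.2, fun y hy => (congrArg Subtype.val (mem_center_iff.1 hp ⟨y, hy⟩)).symm⟩
  · rintro ⟨hx, h⟩
    exact ⟨⟨x, hx⟩, mem_center_iff.2 fun y => Subtype.ext (h y y.2).symm, rfl⟩

theorem cx_conj {w : G} (hw : w ∈ cx s) : s.a * w * s.a⁻¹ ∈ cx s := by
  rw [mem_cx] at hw ⊢
  refine ⟨s.x_conj hw.1, fun y hy => ?_⟩
  have hy' : s.a⁻¹ * y * s.a ∈ s.X := by
    have := (mem_normalizer_iff.1 (inv_mem (s.a_normalizes_x (mem_zpowers _))) y).1 hy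
    rwa [inv_inv] at this
  calc s.a * w * s.a⁻¹ * y = s.a * (w * (s.a⁻¹ * y * s.a)) * s.a⁻¹ := by group
    _ = y * (s.a * w * s.a⁻¹) := by rw [hw.2 _ hy']; group

theorem x_inf_z {x : G} (hx : x ∈ s.X) (hz : x ∈ s.Z) : x ∈ cx s :=
  mem_cx.2 ⟨hx, fun _ hy => s.z_comm hz (s.x_le_c hy)⟩

theorem comm_cx {d x : G} (hd : d ∈ s.C) (hx : x ∈ s.X) : d * x * d⁻¹ * x⁻¹ ∈ cx s :=
  x_inf_z (mul_mem ((mem_normalizer_iff.1 (s.c_normalizes_x hd) x).1 hx) (inv_mem hx))
    (s.comm_z (s.hCT hd) (s.x_le_c hx))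

theorem sq_x {x : G} (hx : x ∈ s.X) : x * x ∈ cx s := x_inf_z (mul_mem hx hx) (s.sq_z (s.x_le_c hx))

/-- A power outside a subgroup whose square is inside it. -/
theorem exists_pow_out {K : Subgroup G} (hKT : K ≤ s.T) {d : G} (hd : d ∈ s.T) (hdK : d ∉ K) :
    ∃ n : ℕ, d ^ n ∉ K ∧ d ^ n * d ^ n ∈ K := by
  obtain ⟨m, hm⟩ := s.hT ⟨d, hd⟩
  have key : ∀ k : ℕ, d ^ 2 ^ k ∈ K → ∃ n : ℕ, d ^ n ∉ K ∧ d ^ n * d ^ n ∈ K := by
    intro k
    induction k with
    | zero => intro h; rw [pow_zero, pow_one] at h; exact absurd h hdK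
    | succ k ih =>
      intro h
      by_cases h' : d ^ 2 ^ k ∈ K
      · exact ih h'
      · refine ⟨2 ^ k, h', ?_⟩
        rwa [← pow_two, ← pow_mul, ← pow_succ]
  refine key m ?_
  rw [show d ^ 2 ^ m = 1 from congrArg Subtype.val hm]
  exact one_mem _

/-- A cancellation in an elementary abelian subgroup. -/
theorem elementary_cancel {W : Subgroup G} (hab : ∀ x ∈ W, ∀ y ∈ W, x * y = y * x) (hsq : ∀ x ∈ W, x * x = 1)
    {k A B p : G} (hk : k ∈ W) (hA : A ∈ W) (hB : B ∈ W) (hp : p ∈ W) :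
    k * (A * B) * p * (A * p) * (B * p) = k * p := by
  letI : CommGroup ↥W := { (inferInstance : Group ↥W) with mul_comm := fun x y => Subtype.ext (hab x x.2 y y.2) }
  have h : ∀ a b c d : ↥W, a * (b * c) * d * (b * d) * (c * d) = a * d * ((b * b) * (c * c) * (d * d)) := by
    intro a b c d; ac_rfl
  have h' := congrArg Subtype.val (h ⟨k, hk⟩ ⟨A, hA⟩ ⟨B, hB⟩ ⟨p, hp⟩)
  simp only [coe_mul, hsq A hA, hsq B hB, hsq p hp, mul_one] at h'
  exact h'

/-- An extraspecial moved part does not occur. -/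
theorem extraspecial_false (s : Ctx G) (hes : Cfsg.IsExtraspecial 2 ↥s.X) (h32 : Nat.card ↥s.X = 32)
    (h11 : Nat.card {x : ↥s.X // orderOf x = 2} = 11) (hbig : Big s) : False := by
  haveI := Fact.mk Nat.prime_two
  have hc2 : Nat.card ↥(cx s) = 2 := by
    rw [cx, card_map_of_injective s.X.subtype_injective]; exact hes.2
  obtain ⟨⟨z, hz⟩, hzo⟩ := exists_prime_orderOf_dvd_card' (G := ↥(cx s)) 2 (by rw [hc2])
  have hz1 : z ≠ 1 := fun h => by
    rw [show (⟨z, hz⟩ : ↥(cx s)) = 1 from Subtype.ext h, orderOf_one] at hzo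
    omega
  have hall : ∀ w ∈ cx s, w = 1 ∨ w = z := by
    intro w hw
    by_contra h
    push Not at h
    have := Nat.card_le_card_of_injective (![(1 : ↥(cx s)), ⟨z, hz⟩, ⟨w, hw⟩] : Fin 3 → ↥(cx s)) (by
      intro p q hpq
      have a1 := h.1
      have a2 := h.2
      fin_cases p <;> fin_cases q <;> simp [Subtype.ext_iff, hz1, Ne.symm hz1, a1, a2, Ne.symm a1, Ne.symm a2]
        at hpq ⊢)
    simp [hc2] at this
  have hzz : z * z = 1 := by
    have := congrArg Subtype.val (pow_orderOf_eq_one (⟨z, hz⟩ : ↥(cx s)))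
    rw [hzo] at this
    simpa [pow_two] using this
  have haz : s.a * z = z * s.a := by
    rcases hall _ (cx_conj hz) with h | h
    · exact absurd (conj_eq_one_iff.1 h) hz1
    · exact mul_inv_eq_iff_eq_mul.1 h
  have hfix : ∀ {d : G}, d ∈ s.C → s.a * d = d * s.a → ∀ {x : G}, x ∈ s.X → d * x = x * d :=
    fun {d} hd hda {x} hx => s.fixed_cent_x (s.hCT hd) hda (fun y hy => by
      rcases hall _ (comm_cx hd hy) with h | h <;> rw [h]
      exacts [by rw [one_mul, mul_one], haz]) hx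
  have hfx : ∀ {x : G}, x ∈ s.X → s.a * x = x * s.a → x = 1 ∨ x = z := fun {x} hx h =>
    hall x (mem_cx.2 ⟨hx, fun y hy => hfix (s.x_le_c hx) h hy⟩)
  have hzC : z ∈ s.C := s.x_le_c (mem_cx.1 hz).1
  have hzc : ∀ {x : G}, x ∈ s.X → z * x = x * z := fun {x} hx => (mem_cx.1 hz).2 x hx
  -- a noncentral involution and a root of `z` commuting with it
  obtain ⟨t, ht, htt, tz, t1⟩ : ∃ t ∈ s.X, t * t = 1 ∧ t ≠ z ∧ t ≠ 1 := by
    by_contra hno
    push Not at hno
    haveI : Subsingleton {x : ↥s.X // orderOf x = 2} := ⟨fun p q => by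
      have key : ∀ r : {x : ↥s.X // orderOf x = 2}, (r.1 : G) = z := fun r => by
        have hr : (r.1 : G) * r.1 = 1 := by
          have := congrArg Subtype.val (pow_orderOf_eq_one r.1)
          rw [r.2] at this; simpa [pow_two] using this
        by_contra h
        have := hno _ r.1.2 hr h
        have h2 := r.2
        rw [show r.1 = 1 from Subtype.ext this, orderOf_one] at h2
        omega
      exact Subtype.ext (Subtype.ext ((key p).trans (key q).symm))⟩
    have := Finite.card_le_one_iff_subsingleton.2 (inferInstance : Subsingleton {x : ↥s.X // orderOf x = 2})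
    omega
  obtain ⟨x, hx, hxt, hxx⟩ : ∃ x ∈ s.X, x * t = t * x ∧ x * x = z := by
    by_contra hno
    push Not at hno
    set Ct := s.X ⊓ centralizer ({t} : Set G) with hCt
    have hsq : ∀ x ∈ Ct, x * x = 1 := fun x hx => (hall _ (sq_x hx.1)).resolve_right
      (hno x hx.1 (mem_centralizer_singleton_iff.1 hx.2))
    have hab : ∀ x ∈ Ct, ∀ y ∈ Ct, x * y = y * x := fun x hx y hy => by
      have e := hsq _ (mul_mem hx hy)
      rw [← inv_eq_of_mul_eq_one_left e, mul_inv_rev, inv_eq_of_mul_eq_one_left (hsq x hx),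
        inv_eq_of_mul_eq_one_left (hsq y hy)]
    have h4 := s.no_eight (inf_le_left.trans s.x_le_c) hab hsq
    -- index at most two
    have hidx : Ct.relIndex s.X ≤ 2 := by
      by_cases h : s.X ≤ centralizer ({t} : Set G)
      · rw [hCt, inf_eq_left.2 h, relIndex_self]; norm_num
      obtain ⟨r, hr, hrt⟩ := SetLike.not_le_iff_exists.1 h
      refine le_of_eq ?_
      rw [relIndex, index_eq_two_iff]
      refine ⟨⟨r, hr⟩, fun q => ?_⟩
      have cm : ∀ {p : G}, p ∈ s.X → p ∉ centralizer ({t} : Set G) → p * t * p⁻¹ = z * t := fun {p} hp hpt => by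
        rcases hall _ (comm_cx (s.x_le_c hp) ht) with e | e
        · exact absurd (mem_centralizer_singleton_iff.2 (mul_inv_eq_iff_eq_mul.1 (mul_inv_eq_one.1 e))) hpt
        · exact mul_inv_eq_iff_eq_mul.1 e
      by_cases hq : (q : G) ∈ centralizer ({t} : Set G)
      · refine Or.inr ⟨⟨q.2, hq⟩, fun h => hrt ?_⟩
        simpa using mul_mem (inv_mem hq) (show (q : G) * r ∈ centralizer ({t} : Set G) from h.2)
      · refine Or.inl ⟨⟨mul_mem q.2 hr, mem_centralizer_singleton_iff.2 (mul_inv_eq_iff_eq_mul.1 ?_)⟩, fun h => hq h.2⟩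
        calc (q : G) * r * t * ((q : G) * r)⁻¹ = q * (r * t * r⁻¹) * (q : G)⁻¹ := by group
          _ = ((q : G) * z * (q : G)⁻¹) * (q * t * (q : G)⁻¹) := by rw [cm hr hrt]; group
          _ = t := by rw [← hzc q.2, mul_inv_cancel_right, cm q.2 hq, ← mul_assoc, hzz, one_mul]
    have hc := card_mul_relIndex (inf_le_left : Ct ≤ s.X)
    rw [h32] at hc
    nlinarith
  have hfixC : ∀ d ∈ s.C, s.a * d = d * s.a → d = 1 ∨ d = z := by
    intro d hd hda
    by_contra h
    push Not at h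
    obtain ⟨n, hn, hn2⟩ := exists_pow_out (s := s) (K := cx s)
      (fun w hw => s.hCT (s.x_le_c (mem_cx.1 hw).1)) (s.hCT hd) (fun hm => (hall d hm).elim h.1 h.2)
    have heC : d ^ n ∈ s.C := pow_mem hd n
    have hea : s.a * d ^ n = d ^ n * s.a := ((show Commute s.a d from hda).pow_right n).eq
    have heX : d ^ n ∉ s.X := fun hm => hn (by
      rcases hfx hm hea with e | e <;> rw [e]
      exacts [one_mem _, hz])
    have hzt : z * t ∈ s.X := mul_mem (mem_cx.1 hz).1 ht
    rcases hall _ hn2 with e | e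
    · exact s.no_three hzC (s.x_le_c ht) heC hzz htt e (hzc ht) (hfix heC hea (mem_cx.1 hz).1).symm
        (hfix heC hea ht).symm hz1 t1 tz (fun h => heX (by rw [h]; exact one_mem _))
        (fun h => heX (by rw [h]; exact (mem_cx.1 hz).1)) (fun h => heX (by rw [h]; exact ht))
        (fun h => heX (by rw [h]; exact hzt))
    · have hex := hfix heC hea hx
      have hw : d ^ n * x * (d ^ n * x) = 1 := by
        rw [show d ^ n * x * (d ^ n * x) = d ^ n * (x * d ^ n) * x by group, ← hex,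
          show d ^ n * (d ^ n * x) * x = (d ^ n * d ^ n) * (x * x) by group, e, hxx, hzz]
      have hwX : ∀ {q : G}, q ∈ s.X → d ^ n * x ≠ q := fun {q} hq h => heX (by
        rw [show d ^ n = q * x⁻¹ by rw [← h, mul_inv_cancel_right]]; exact mul_mem hq (inv_mem hx))
      refine s.no_three hzC (s.x_le_c ht) (mul_mem heC (s.x_le_c hx)) hzz htt hw (hzc ht) ?_ ?_ hz1 t1 tz
        (hwX (one_mem _)) (hwX (mem_cx.1 hz).1) (hwX ht) (hwX hzt)
      · exact ((show Commute z (d ^ n) from (hfix heC hea (mem_cx.1 hz).1).symm).mul_right (hzc hx)).eq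
      · exact ((show Commute t (d ^ n) from (hfix heC hea ht).symm).mul_right hxt.symm).eq
  have hCX : s.C ≤ s.X := fun c hc => by
    obtain ⟨p, hp, d, hd, hda, rfl⟩ := s.decomp hc
    rcases hfixC d hd hda with e | e <;> rw [e]
    exacts [by rwa [mul_one], mul_mem hp (mem_cx.1 hz).1]
  refine hbig.not_central fun r hr ζ hζ => ?_
  rcases hall ζ (x_inf_z (hCX hζ.1) hζ) with e | e <;> subst e
  · rw [one_mul, mul_one]
  · rcases hall _ (x_inf_z (hCX (s.conj_z hr hζ).1) (s.conj_z hr hζ)) with e | e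
    · exact absurd (conj_eq_one_iff.1 e) hz1
    · exact (mul_inv_eq_iff_eq_mul.1 e).symm

/-- `T` acts on a centre of exponent two through a group of order two. -/
theorem t0_index (hU : ∀ η ∈ s.Z, η * η = 1) (h4 : Nat.card ↥s.Z ≤ 4) {z0 : G} (hz0 : z0 ∈ s.Z) (h0 : z0 ≠ 1) :
    s.T0.relIndex s.T = 1 ∨ s.T0.relIndex s.T = 2 := by
  haveI := Fact.mk Nat.prime_two
  by_cases hle : s.T ≤ s.T0
  · exact Or.inl (relIndex_eq_one.2 hle)
  obtain ⟨t, ht, htT0⟩ := SetLike.not_le_iff_exists.1 hle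
  obtain ⟨u, hu, hu1, hut⟩ : ∃ u ∈ s.Z, u ≠ 1 ∧ ∀ r ∈ s.T, r * u = u * r := by
    haveI : Group.IsNilpotent ↥s.T := s.hT.isNilpotent
    haveI : (s.Z.subgroupOf s.T).Normal :=
      ⟨fun n hn g => (mem_normalizer_iff.1 (s.normal_z g.2) _).1 hn⟩
    have hne : s.Z.subgroupOf s.T ≠ ⊥ := fun h => by
      have : (⟨z0, s.z_le_t hz0⟩ : ↥s.T) ∈ s.Z.subgroupOf s.T := hz0
      rw [h, mem_bot] at this
      exact h0 (congrArg Subtype.val this)
    obtain ⟨⟨u, hu⟩, hu2, hu1⟩ : ∃ u, u ∈ s.Z.subgroupOf s.T ⊓ center ↥s.T ∧ u ≠ 1 := by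
      by_contra hno
      push Not at hno
      exact CfsgLib.inf_center_ne_bot_of_nilpotent hne ((eq_bot_iff_forall _).2 fun x hx => hno x hx)
    exact ⟨u, hu2.1, fun h => hu1 (Subtype.ext h),
      fun r hr => congrArg Subtype.val (mem_center_iff.1 hu2.2 ⟨r, hr⟩)⟩
  obtain ⟨ζ, hζ, htζ⟩ : ∃ ζ ∈ s.Z, t * ζ ≠ ζ * t := by
    by_contra hno
    push Not at hno
    exact htT0 ⟨ht, fun ζ hζ => (hno ζ hζ).symm⟩
  have hζu : ζ ≠ u := fun h => htζ (h ▸ hut t ht)
  have hζ1 : ζ ≠ 1 := fun h => htζ (by rw [h, mul_one, one_mul])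
  have e1 : u * ζ ≠ 1 := fun h => hζu (mul_left_cancel (h.trans (hU u hu).symm))
  have hall : ∀ η ∈ s.Z, η = 1 ∨ η = u ∨ η = ζ ∨ η = u * ζ := by
    intro η hη
    by_contra h
    push Not at h
    have := five_le_card (five_injective hu1 hζ1 hζu e1 h.1 h.2.1 h.2.2.1 h.2.2.2) (A := s.Z) fun i => by
      fin_cases i
      exacts [one_mem _, hu, hζ, mul_mem hu hζ, hη]
    omega
  have hmove : ∀ r ∈ s.T, r ∉ s.T0 → r * ζ * r⁻¹ = u * ζ := by
    intro r hr hr0
    rcases hall _ (s.conj_z hr hζ) with h | h | h | h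
    · exact absurd (conj_eq_one_iff.1 h) hζ1
    · refine absurd (mul_left_cancel (a := r) (b := ζ) (c := u) ?_) hζu
      rw [mul_inv_eq_iff_eq_mul.1 h, hut r hr]
    · refine absurd ⟨hr, fun η hη => ?_⟩ hr0
      have h' : r * ζ = ζ * r := mul_inv_eq_iff_eq_mul.1 h
      rcases hall η hη with rfl | rfl | rfl | rfl
      · rw [one_mul, mul_one]
      · exact (hut r hr).symm
      · exact h'.symm
      · exact ((show Commute r u from hut r hr).mul_right h').eq.symm
    · exact h
  refine Or.inr ?_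
  rw [relIndex, index_eq_two_iff]
  refine ⟨⟨t, ht⟩, fun r => ?_⟩
  by_cases hr : (r : G) ∈ s.T0
  · refine Or.inr ⟨hr, fun h => htT0 ?_⟩
    simpa using mul_mem (inv_mem hr) (show (r : G) * t ∈ s.T0 from h)
  · refine Or.inl ⟨?_, hr⟩
    by_contra h
    have h2 := hmove _ (mul_mem r.2 ht) h
    have h3 : (r : G) * t * ζ * ((r : G) * t)⁻¹ = ζ := by
      calc (r : G) * t * ζ * ((r : G) * t)⁻¹ = r * (t * ζ * t⁻¹) * (r : G)⁻¹ := by group
        _ = (r : G) * u * (r : G)⁻¹ * (r * ζ * (r : G)⁻¹) := by rw [hmove t ht htT0]; group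
        _ = u * u * ζ := by rw [hut r r.2, mul_inv_cancel_right, hmove r r.2 hr]; group
        _ = ζ := by rw [hU u hu, one_mul]
    exact hu1 (right_eq_mul.1 (h3.symm.trans h2))

/-- A special moved part of order 64 gives order 64 or 128. -/
theorem card_of_special (s : Ctx G) (hsp : Cfsg.IsSpecial 2 ↥s.X) (h64 : Nat.card ↥s.X = 64)
    (h3 : Nat.card {x : ↥s.X // orderOf x = 2} = 3) (hcen : ∀ x : ↥s.X, orderOf x = 2 → x ∈ center ↥s.X) :
    Nat.card ↥s.T = 64 ∨ Nat.card ↥s.T = 128 := by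
  classical
  haveI := Fact.mk Nat.prime_two
  have hWX : cx s ≤ s.X := fun w hw => (mem_cx.1 hw).1
  have hWc : ∀ {w : G}, w ∈ cx s → ∀ {y : G}, y ∈ s.X → w * y = y * w := fun hw _ hy => (mem_cx.1 hw).2 _ hy
  have hWab : ∀ x ∈ cx s, ∀ y ∈ cx s, x * y = y * x := fun x hx y hy => hWc hx (hWX hy)
  -- the centre of `X` is generated by commutators, which are involutions of `Z`
  have hWU : cx s ≤ s.U := by
    rw [cx, ← hsp.2.2, map_subtype_commutator, commutator_le]
    intro x hx y hy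
    rw [commutatorElement_def]
    exact s.comm_u (s.c_le_t0 (s.x_le_c hx)) (s.x_le_c hy)
  have hW4 : 4 ≤ Nat.card ↥(cx s) := by
    have hinj : Function.Injective (fun p : Option {x : ↥s.X // orderOf x = 2} =>
        p.elim (1 : ↥(cx s)) fun r => ⟨(r.1 : G), ⟨r.1, hcen _ r.2, rfl⟩⟩) := by
      intro p q h
      rcases p with _ | p <;> rcases q with _ | q
      · rfl
      · have h' : (1 : G) = q.1 := congrArg Subtype.val h
        have := q.2
        rw [show q.1 = 1 from Subtype.ext h'.symm, orderOf_one] at this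
        omega
      · have h' : (p.1 : G) = 1 := congrArg Subtype.val h
        have := p.2
        rw [show p.1 = 1 from Subtype.ext h', orderOf_one] at this
        omega
      · exact congrArg some (Subtype.ext (Subtype.ext (congrArg (fun t : ↥(cx s) => (t : G)) h)))
    have := Nat.card_le_card_of_injective _ hinj
    rw [Finite.card_option, h3] at this
    exact this
  have hU : cx s = s.U := eq_of_le_of_card_ge hWU (s.card_u_le.trans hW4)
  have hU4 : Nat.card ↥s.U = 4 := le_antisymm s.card_u_le (hU ▸ hW4)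
  have hWsq : ∀ w ∈ cx s, w * w = 1 := fun w hw => (hWU hw).2
  -- every central involution is a square
  have hsurj : ∀ u ∈ cx s, u ≠ 1 → ∃ x ∈ s.X, x * x = u := by
    intro u hu hu1
    by_contra hno
    push Not at hno
    have hlab : ∀ {q : G}, q ∈ s.X → q ∉ cx s → q * q ≠ 1 ∧ q * q ≠ u := fun {q} hq hqW =>
      ⟨fun h => hqW (hU ▸ s.mem_u_of_four (by omega) (s.x_le_c hq) h), hno q hq⟩
    obtain ⟨x, hx, hxW⟩ : ∃ x ∈ s.X, x ∉ cx s := by
      by_contra h
      push Not at h
      have := card_le_of_le (show s.X ≤ cx s from h)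
      have := card_le_of_le (hU.le)
      omega
    set p := x * x with hp
    have hpW : p ∈ cx s := sq_x hx
    have hp1 := (hlab hx hxW).1
    have hpu := (hlab hx hxW).2
    have e1 : u * p ≠ 1 := fun h => hpu (mul_left_cancel (h.trans (hWsq u hu).symm))
    have hall : ∀ w ∈ cx s, w = 1 ∨ w = u ∨ w = p ∨ w = u * p := by
      intro w hw
      by_contra h
      push Not at h
      have := five_le_card (five_injective hu1 hp1 hpu e1 h.1 h.2.1 h.2.2.1 h.2.2.2) (A := cx s) fun i => by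
        fin_cases i
        exacts [one_mem _, hu, hpW, mul_mem hu hpW, hw]
      have := card_le_of_le hU.le
      omega
    let N : Subgroup G := zpowers u
    have hN : ∀ w, w ∈ N ↔ w = 1 ∨ w = u := fun w => by
      refine ⟨fun hw => ?_, fun h => ?_⟩
      · obtain ⟨k, rfl⟩ := hw
        show u ^ k = 1 ∨ u ^ k = u
        rcases Int.even_or_odd' k with ⟨j, rfl | rfl⟩
        · left; rw [zpow_mul, zpow_two, hWsq u hu, one_zpow]
        · right; rw [zpow_add, zpow_mul, zpow_two, hWsq u hu, one_zpow, one_mul, zpow_one]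
      · rcases h with rfl | rfl
        exacts [one_mem _, mem_zpowers _]
    have hclass : ∀ {q : G}, q ∈ s.X → q ∉ cx s → q * q * p ∈ N := fun {q} hq hqW => by
      rw [hN]
      rcases hall _ (sq_x hq) with h | h | h | h <;> rw [h]
      · exact absurd h (hlab hq hqW).1
      · exact absurd h (hlab hq hqW).2
      · exact Or.inl (hWsq p hpW)
      · exact Or.inr (by rw [mul_assoc, hWsq p hpW, mul_one])
    have hcm : ∀ {q r : G}, q ∈ s.X → r ∈ s.X → q ∉ cx s → r ∉ cx s → q * r ∉ cx s →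
        r * q * r⁻¹ * q⁻¹ * p ∈ N := by
      intro q r hq hr hqW hrW hqrW
      have hk : r * q * r⁻¹ * q⁻¹ ∈ cx s := comm_cx (s.x_le_c hr) hq
      have h1 := hclass hq hqW
      have h2 := hclass hr hrW
      have h3 := hclass (mul_mem hq hr) hqrW
      have e : q * r * (q * r) = r * q * r⁻¹ * q⁻¹ * (q * q * (r * r)) := by
        calc q * r * (q * r) = q * ((r * q * r⁻¹ * q⁻¹) * q) * (r * r) := by group
          _ = _ := by rw [← mul_assoc q, ← hWc hk hq]; group
      rw [e] at h3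
      have hA := sq_x (s := s) hq
      have hB := sq_x (s := s) hr
      have h := mul_mem (mul_mem h3 h1) h2
      rwa [elementary_cancel hWab hWsq hk hA hB hpW] at h
    -- three independent classes
    obtain ⟨y, hy, hyW, hxyW⟩ : ∃ y ∈ s.X, y ∉ cx s ∧ x * y ∉ cx s := by
      by_contra h
      push Not at h
      have : (s.X : Set G) ⊆ (cx s : Set G) ∪ (fun w => x⁻¹ * w) '' (cx s : Set G) := fun y hy => by
        by_cases hy' : y ∈ cx s
        · exact Or.inl hy'
        · exact Or.inr ⟨x * y, h y hy hy', by simp⟩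
      have h1 := (Set.ncard_le_ncard this (Set.toFinite _)).trans ((Set.ncard_union_le _ _).trans
        (Nat.add_le_add le_rfl (Set.ncard_image_le (Set.toFinite _))))
      rw [← Nat.card_coe_set_eq, ← Nat.card_coe_set_eq] at h1
      have := card_le_of_le hU.le
      change Nat.card ↥s.X ≤ Nat.card ↥(cx s) + Nat.card ↥(cx s) at h1
      omega
    obtain ⟨r, hr, hrW, hxrW, hyrW, hxyrW⟩ : ∃ r ∈ s.X, r ∉ cx s ∧ x * r ∉ cx s ∧ y * r ∉ cx s ∧
        x * y * r ∉ cx s := by
      by_contra h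
      push Not at h
      have : (s.X : Set G) ⊆ ((cx s : Set G) ∪ (fun w => x⁻¹ * w) '' (cx s : Set G)) ∪
          ((fun w => y⁻¹ * w) '' (cx s : Set G) ∪ (fun w => (x * y)⁻¹ * w) '' (cx s : Set G)) := fun r hr => by
        by_cases h1 : r ∈ cx s
        · exact Or.inl (Or.inl h1)
        by_cases h2 : x * r ∈ cx s
        · exact Or.inl (Or.inr ⟨_, h2, by simp⟩)
        by_cases h3 : y * r ∈ cx s
        · exact Or.inr (Or.inl ⟨_, h3, by simp⟩)
        exact Or.inr (Or.inr ⟨_, h r hr h1 h2 h3, by group⟩)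
      have h1 := (Set.ncard_le_ncard this (Set.toFinite _)).trans ((Set.ncard_union_le _ _).trans
        (Nat.add_le_add ((Set.ncard_union_le _ _).trans (Nat.add_le_add le_rfl (Set.ncard_image_le (Set.toFinite _))))
          ((Set.ncard_union_le _ _).trans (Nat.add_le_add (Set.ncard_image_le (Set.toFinite _))
            (Set.ncard_image_le (Set.toFinite _))))))
      rw [← Nat.card_coe_set_eq, ← Nat.card_coe_set_eq] at h1
      have := card_le_of_le hU.le
      change Nat.card ↥s.X ≤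
        Nat.card ↥(cx s) + Nat.card ↥(cx s) + (Nat.card ↥(cx s) + Nat.card ↥(cx s)) at h1
      omega
    have k1 := hcm hx hy hxW hyW hxyW
    have k2 := hcm hx hr hxW hrW hxrW
    have k3 := hcm hx (mul_mem hy hr) hxW hyrW (by rw [← mul_assoc]; exact hxyrW)
    have hA : y * x * y⁻¹ * x⁻¹ ∈ cx s := comm_cx (s.x_le_c hy) hx
    have hB : r * x * r⁻¹ * x⁻¹ ∈ cx s := comm_cx (s.x_le_c hr) hx
    have e : y * r * x * (y * r)⁻¹ * x⁻¹ = r * x * r⁻¹ * x⁻¹ * (y * x * y⁻¹ * x⁻¹) := by
      calc y * r * x * (y * r)⁻¹ * x⁻¹ = y * (r * x * r⁻¹ * x⁻¹) * x * y⁻¹ * x⁻¹ := by group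
        _ = _ := by rw [← hWc hB hy]; group
    rw [e] at k3
    set A := y * x * y⁻¹ * x⁻¹
    set B := r * x * r⁻¹ * x⁻¹
    have hp' : p ∈ N := by
      rw [hWab B hB A hA, ← one_mul (A * B)] at k3
      have h := mul_mem (mul_mem k3 k1) k2
      rw [elementary_cancel hWab hWsq (one_mem _) hA hB hpW, one_mul] at h
      exact h
    rcases (hN p).1 hp' with h | h
    exacts [hp1 h, hpu h]
  -- fixed elements of `C` are central involutions
  have hfixC : ∀ d ∈ s.C, s.a * d = d * s.a → d ∈ cx s := by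
    intro d hd hda
    by_contra hdW
    obtain ⟨n, hn, hn2⟩ := exists_pow_out (s := s) (K := cx s) (hWX.trans (s.x_le_c.trans s.hCT)) (s.hCT hd) hdW
    have heC : d ^ n ∈ s.C := pow_mem hd n
    have hea : s.a * d ^ n = d ^ n * s.a := ((show Commute s.a d from hda).pow_right n).eq
    set e := d ^ n
    have hee : e * e ≠ 1 := fun h => hn (hU ▸ s.mem_u_of_four (by omega) heC h)
    set u := e * e with hu'
    have hau : s.a * u = u * s.a := ((show Commute s.a e from hea).mul_right hea).eq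
    have hafix : ∀ w ∈ cx s, s.a * w = w * s.a := by
      intro w hw
      by_contra hne
      have hu : u ∈ cx s := hn2
      have hmv : s.a * w * s.a⁻¹ ≠ w := fun h => hne (mul_inv_eq_iff_eq_mul.1 h)
      have w1 : w ≠ 1 := fun h => hne (by rw [h, mul_one, one_mul])
      have wu : w ≠ u := fun h => hne (h ▸ hau)
      have e1 : u * w ≠ 1 := fun h => wu (mul_left_cancel (h.trans (hWsq u hu).symm))
      have hall : ∀ v ∈ cx s, v = 1 ∨ v = u ∨ v = w ∨ v = u * w := by
        intro v hv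
        by_contra h
        push Not at h
        have := five_le_card (five_injective hee w1 wu e1 h.1 h.2.1 h.2.2.1 h.2.2.2) (A := cx s) fun i => by
          fin_cases i
          exacts [one_mem _, hu, hw, mul_mem hu hw, hv]
        have := card_le_of_le hU.le
        omega
      have hb : s.a * u * s.a⁻¹ = u := by rw [hau, mul_inv_cancel_right]
      rcases hall _ (cx_conj hw) with h | h | h | h
      · exact w1 (conj_eq_one_iff.1 h)
      · exact wu (mul_left_cancel (mul_right_cancel (h.trans hb.symm)))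
      · exact hmv h
      · refine hmv (s.a_pow_fix ?_)
        rw [h, show s.a * (u * w) * s.a⁻¹ = (s.a * u * s.a⁻¹) * (s.a * w * s.a⁻¹) by group, hb, h, ← mul_assoc,
          hWsq u hu, one_mul]
    obtain ⟨x, hx, hxu⟩ := hsurj u hn2 hee
    have hc : ∀ {q : G}, q ∈ s.X → e * q = q * e := fun {q} hq =>
      s.fixed_cent_x (s.hCT heC) hea (fun y hy => hafix _ (comm_cx heC hy)) hq
    have hinv : x * e⁻¹ * (x * e⁻¹) = 1 := by
      rw [show x * e⁻¹ * (x * e⁻¹) = x * (e⁻¹ * x) * e⁻¹ by group,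
        show e⁻¹ * x = x * e⁻¹ from (show Commute e x from hc hx).inv_left.eq,
        show x * (x * e⁻¹) * e⁻¹ = (x * x) * (e * e)⁻¹ by group, hxu, mul_inv_cancel]
    have hm : x * e⁻¹ ∈ cx s := hU ▸ s.mem_u_of_four (by omega) (mul_mem (s.x_le_c hx) (inv_mem heC)) hinv
    have heX : e ∈ s.X := by
      rw [show e = (x * e⁻¹)⁻¹ * x by group]
      exact mul_mem (inv_mem (hWX hm)) hx
    exact hn (mem_cx.2 ⟨heX, fun y hy => hc hy⟩)
  have hCX : s.C = s.X := le_antisymm (fun c hc => by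
    obtain ⟨x, hx, d, hd, hda, rfl⟩ := s.decomp hc
    exact mul_mem hx (hWX (hfixC d hd hda))) s.x_le_c
  have hZ : s.Z = s.U := le_antisymm (fun ζ hζ => by
    rw [← hU]; exact x_inf_z (hCX ▸ hζ.1) hζ) fun ζ hζ => hζ.1
  have hT0 : s.T0 = s.C := by
    refine (eq_of_le_of_card_ge s.c_le_t0 ?_).symm
    rw [← card_mul_relIndex s.z_le_t0, hCX, h64, hZ, hU4]
    have := s.relIndex_t0_le
    rw [hZ] at this
    omega
  obtain ⟨⟨w, hw⟩, hw1⟩ : ∃ w : ↥s.U, w ≠ 1 := by
    haveI : Nontrivial ↥s.U := Finite.one_lt_card_iff_nontrivial.1 (by omega)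
    exact exists_ne 1
  have hidx := t0_index (s := s) (fun η hη => by rw [hZ] at hη; exact hη.2) (by rw [hZ, hU4]) hw.1
    (fun h => hw1 (Subtype.ext h))
  rw [← card_mul_relIndex s.t0_le, hT0, hCX, h64]
  rcases hidx with h | h <;> rw [hT0, hCX] at h <;> rw [h]
  · exact Or.inl rfl
  · exact Or.inr rfl

end CfsgLib.NormalRankTwo
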