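import Cfsg.Agent.Lib.NormalRankTwo.Quat
import Cfsg.Agent.Lib.NormalRankTwo.Special
import Cfsg.Agent.Lib.SmallElements
import Cfsg.Agent.Lib.Fusion.WreathedSimple
import Cfsg.Agent.Lib.UnitaryFourSylow
import Cfsg.Agent.S3116
import Cfsg.Agent.S1904
import Cfsg.Agent.S0516

/-!
# Simple groups with a Sylow two-subgroup of normal rank two and an automorphism of odd order
-/

set_option autoImplicit false
set_option linter.unusedSectionVars false

namespace CfsgLib.NormalRankTwo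

open Subgroup
open scoped commutatorElement

variable {G : Type*} [Group G] [Finite G]

/-- An odd element of the normaliser acts nontrivially. -/
theorem exists_odd_moving (T : Sylow 2 G)
    (hN : ¬ normalizer ((T : Subgroup G) : Set G) ≤ (T : Subgroup G) ⊔ centralizer ((T : Subgroup G) : Set G)) :
    ∃ a ∈ normalizer ((T : Subgroup G) : Set G), Odd (orderOf a) ∧ ∃ t ∈ (T : Subgroup G), a * t * a⁻¹ ≠ t := by
  haveI := Fact.mk Nat.prime_two
  by_contra hno
  push Not at hno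
  refine hN fun g hg => ?_
  obtain ⟨k, m, hm, hkm⟩ := Nat.exists_eq_two_pow_mul_odd (orderOf_pos g).ne'
  have hodd : ¬ 2 ∣ (T : Subgroup G).relIndex (normalizer ((T : Subgroup G) : Set G)) := fun h =>
    T.not_dvd_index (h.trans (Dvd.intro _ (relIndex_mul_index le_normalizer)))
  have h1 : g ^ m ∈ (T : Subgroup G) := two_elem_mem hodd le_rfl le_normalizer le_rfl (pow_mem hg m)
    (k := k) (by rw [← pow_mul, mul_comm, ← hkm, pow_orderOf_eq_one])
  have hord : orderOf (g ^ 2 ^ k) = m := by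
    rw [orderOf_pow' _ (pow_ne_zero _ two_ne_zero), hkm, Nat.gcd_mul_right_left,
      Nat.mul_div_cancel_left _ (Nat.two_pow_pos k)]
  have h2 : g ^ 2 ^ k ∈ centralizer ((T : Subgroup G) : Set G) := fun t ht =>
    (mul_inv_eq_iff_eq_mul.1 (hno _ (pow_mem hg _) (by rw [hord]; exact hm) t ht)).symm
  have hg1 : g = (g ^ m) ^ Nat.gcdA m (2 ^ k) * (g ^ 2 ^ k) ^ Nat.gcdB m (2 ^ k) := by
    rw [← zpow_natCast g m, ← zpow_natCast g (2 ^ k), ← zpow_mul, ← zpow_mul, ← zpow_add,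
      ← Nat.gcd_eq_gcd_ab, Nat.Coprime.pow_right k (Nat.coprime_two_right.2 hm)]
    simp
  rw [hg1]
  exact mul_mem_sup (zpow_mem h1 _) (zpow_mem h2 _)

/-- Conjugation restricted to a subgroup. -/
theorem normalizerMonoidHom_apply_coe (H : Subgroup G) (g : normalizer (H : Set G)) (x : H) :
    ((H.normalizerMonoidHom g x : H) : G) = (g : G) * x * (g : G)⁻¹ := rfl

/-- An odd element moving `T` gives the setting with a critical subgroup. -/
theorem exists_ctx (T : Sylow 2 G)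
    (hrk : ∀ A : Subgroup G, A ≤ T → (T : Subgroup G) ≤ normalizer (A : Set G) →
      (∀ x ∈ A, ∀ y ∈ A, x * y = y * x) → (∀ x ∈ A, x * x = 1) → Nat.card ↥A ≤ 4)
    {a : G} (haT : a ∈ normalizer ((T : Subgroup G) : Set G)) (ha : Odd (orderOf a)) {t : G}
    (ht : t ∈ (T : Subgroup G)) (hat : a * t * a⁻¹ ≠ t) :
    ∃ s : Ctx G, s.T = (T : Subgroup G) ∧ normalizer (s.T : Set G) ≤ normalizer (s.C : Set G) := by
  haveI := Fact.mk Nat.prime_two
  obtain ⟨C, hch, hcom, hpow, hcen⟩ := CfsgLib.Small.exists_critical (p := 2) (X := ↥(T : Subgroup G)) T.2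
  let C' : Subgroup G := C.map (T : Subgroup G).subtype
  have hCT : C' ≤ (T : Subgroup G) := map_subtype_le C
  have hmem : ∀ c : ↥(T : Subgroup G), (c : G) ∈ C' ↔ c ∈ C := fun c =>
    ⟨fun ⟨d, hd, e⟩ => (Subtype.ext e : d = c) ▸ hd, fun h => ⟨c, h, rfl⟩⟩
  have hNC : normalizer ((T : Subgroup G) : Set G) ≤ normalizer (C' : Set G) := le_normalizer_of_conj
    fun g hg x hx => by
      obtain ⟨c, hc, rfl⟩ := hx
      exact ⟨_, CfsgLib.Small.apply_mem_of_char ((T : Subgroup G).normalizerMonoidHom ⟨g, hg⟩) hc,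
        normalizerMonoidHom_apply_coe _ _ _⟩
  have hcomm : ∀ x ∈ (T : Subgroup G), ∀ c ∈ C', x * c * x⁻¹ * c⁻¹ ∈ C' ⊓ centralizer (C' : Set G) := by
    rintro x hx _ ⟨c, hc, rfl⟩
    have h := hcom ⟨x, hx⟩ c hc
    refine ⟨⟨_, h.1, by simp [commutatorElement_def]⟩, ?_⟩
    rintro _ ⟨d, hd, rfl⟩
    simpa [commutatorElement_def] using congrArg Subtype.val (h.2 d hd)
  refine ⟨{
    T := T
    C := C'
    a := a
    hT := T.2
    hCT := hCT
    hTC := le_normalizer.trans hNC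
    hcomm := hcomm
    hsq := ?_
    hcen := ?_
    hrk := hrk
    haT := haT
    haC := hNC haT
    ha := ha
    hmove := ?_ }, rfl, hNC⟩
  · rintro _ ⟨c, hc, rfl⟩
    have h := hpow c hc
    rw [pow_two] at h
    refine ⟨⟨_, h.1, rfl⟩, ?_⟩
    rintro _ ⟨d, hd, rfl⟩
    exact congrArg Subtype.val (h.2 d hd)
  · rintro x ⟨hx, hxc⟩
    exact (hmem ⟨x, hx⟩).2 (hcen fun d hd => Subtype.ext (hxc (d : G) ((hmem d).2 hd)))
  · by_contra hno
    push Not at hno
    let α := (T : Subgroup G).normalizerMonoidHom ⟨a, haT⟩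
    have hα : (orderOf α).Coprime 2 := by
      refine Nat.Coprime.coprime_dvd_left (orderOf_map_dvd _ _) ?_
      rw [Subgroup.orderOf_mk]
      exact Nat.coprime_two_right.2 ha
    have h1 : α = 1 := CfsgLib.Small.eq_one_of_fixes_critical T.2 hcom hpow hcen hα fun c hc _ =>
      Subtype.ext ((normalizerMonoidHom_apply_coe _ _ _).trans (hno c ((hmem c).2 hc)))
    refine hat ?_
    have := congrArg (fun f : MulAut ↥(T : Subgroup G) => ((f ⟨t, ht⟩ : ↥(T : Subgroup G)) : G)) h1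
    exact this

/-- With rank at least three the order is 64 or 128. -/
theorem card_of_big [IsSimpleGroup G] (hns : ¬ Group.IsSolvable G) (s : Ctx G) (P : Sylow 2 G)
    (hP : (P : Subgroup G) = s.T) (hbig : Big s) (hNC : normalizer (s.T : Set G) ≤ normalizer (s.C : Set G)) :
    Nat.card ↥s.T = 64 ∨ Nat.card ↥s.T = 128 := by
  haveI := Fact.mk Nat.prime_two
  have h4 : 4 ≤ Nat.card G := by
    obtain ⟨E, -, -, -, h8⟩ := hbig
    have := Nat.card_le_card_of_injective _ E.subtype_injective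
    omega
  have hidx : ∀ K : Subgroup G, K.Normal → K.index ≠ 2 := fun K hK =>
    CfsgLib.RankTwoSimple.not_index_two h4 hK
  by_cases hab : ∀ x ∈ s.X, ∀ y ∈ s.X, x * y = y * x
  · exact Or.inr (card_of_abelian s hab P hP hidx hbig)
  have hna : ¬ IsMulCommutative ↥s.X := fun h => hab fun x hx y hy =>
    congrArg Subtype.val (mul_comm' (⟨x, hx⟩ : ↥s.X) ⟨y, hy⟩)
  have haX : s.a ∈ normalizer (s.X : Set G) := s.a_normalizes_x (mem_zpowers _)
  let φ := s.X.normalizerMonoidHom ⟨s.a, haX⟩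
  have hφ : Odd (Nat.card ↥(zpowers φ)) := by
    rw [Nat.card_zpowers]
    refine Odd.of_dvd_nat ?_ (orderOf_map_dvd _ _)
    rw [Subgroup.orderOf_mk]
    exact s.ha
  have hXA : closure {g : ↥s.X | ∃ ψ ∈ zpowers φ, ∃ x : ↥s.X, g = x⁻¹ * ψ x} = ⊤ := by
    set K := closure {g : ↥s.X | ∃ ψ ∈ zpowers φ, ∃ x : ↥s.X, g = x⁻¹ * ψ x}
    have hle : s.X ≤ K.map s.X.subtype := by
      conv_lhs => rw [← s.x_eq]
      rw [commutator_le]
      intro x hx b hb
      obtain ⟨n, rfl⟩ : b ∈ Submonoid.powers s.a := mem_powers_iff_mem_zpowers.2 hb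
      refine ⟨(⟨x⁻¹, inv_mem hx⟩ : ↥s.X)⁻¹ * (φ ^ n) ⟨x⁻¹, inv_mem hx⟩,
        subset_closure ⟨φ ^ n, npow_mem_zpowers φ n, ⟨x⁻¹, inv_mem hx⟩, rfl⟩, ?_⟩
      have e : φ ^ n = s.X.normalizerMonoidHom (⟨s.a, haX⟩ ^ n) := (map_pow _ _ _).symm
      rw [e]
      show (x⁻¹)⁻¹ * _ = _
      rw [normalizerMonoidHom_apply_coe, commutatorElement_def, inv_inv]
      simp [mul_assoc]
    refine eq_top_iff.2 fun x _ => ?_
    obtain ⟨y, hy, e⟩ := hle x.2
    rwa [← (Subtype.ext e : y = x)]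
  have hscn : ¬ ∃ A : Subgroup ↥s.X, A.Normal ∧ centralizer (A : Set ↥s.X) = A ∧
      ∃ E : Subgroup ↥s.X, E ≤ A ∧ Cfsg.IsElementaryAbelian 2 E ∧ Nat.card E = 8 := by
    rintro ⟨A, -, -, E, -, ⟨hEc, hEs⟩, hE8⟩
    have := s.no_eight (E := E.map s.X.subtype) ((map_subtype_le E).trans s.x_le_c) (by
      rintro _ ⟨x, hx, rfl⟩ _ ⟨y, hy, rfl⟩
      exact congrArg (fun w : ↥E => ((w : ↥s.X) : G)) (mul_comm' (⟨x, hx⟩ : ↥E) ⟨y, hy⟩)) (by
      rintro _ ⟨x, hx, rfl⟩
      have := hEs x hx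
      rw [pow_two] at this
      exact congrArg Subtype.val this)
    rw [card_map_of_injective s.X.subtype_injective] at this
    omega
  rcases Cfsg.Agent.S1904.result (s.hT.to_le (s.x_le_c.trans s.hCT)) hna hscn (zpowers φ) hφ hXA with
    ⟨⟨e⟩⟩ | ⟨hsp, h64, h3, hcen⟩ | ⟨hes, h32, h11⟩
  · exact Or.inr (card_of_quat hns s e P hP hbig hNC)
  · exact card_of_special s hsp h64 h3 hcen
  · exact (extraspecial_false s hes h32 h11 hbig).elim

end CfsgLib.NormalRankTwo
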