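import Cfsg.Agent.Lib.NormalRankTwo.QuatFusion

/-!
# A quaternion moved part with cyclic centre
-/

set_option autoImplicit false
set_option linter.unusedSectionVars false

namespace CfsgLib.NormalRankTwo

open Subgroup

variable {G : Type*} [Group G] [Finite G] {s : Ctx G}

namespace Root

variable {Q : Quat s} (K : Root Q) (hw : K.w = Q.z)
include K hw

theorem u_cyc {u : G} (hu : u ∈ s.U) : u = 1 ∨ u = Q.z := by
  rcases K.u_eq hu with h | h | h | h
  exacts [Or.inl h, Or.inr h, Or.inr (h.trans hw), Or.inl (by rw [h, hw, Q.hzz])]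

/-- An involution commuting with the element of order four of the centre lies in `C`. -/
theorem inv_mem_c {e : G} (he : e ∈ s.T) (hee : e * e = 1) (hd : K.delta e = 1) : e ∈ s.C := by
  obtain ⟨x, hx, l, hl, hla, rfl⟩ := K.t_dec he
  have hlx : l * x = x * l := Q.fixed_cent_t hl hla hx
  have hly : l * K.y = K.y * l := K.delta_eq_one (by
    have := K.delta_mul (s.hCT (s.x_le_c hx)) hl
    rwa [K.delta_x (s.x_le_c hx), mul_one, hd, eq_comm] at this)
  have hee' : x * x * (l * l) = 1 := by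
    rw [← hee, show x * l * (x * l) = x * (l * x) * l by group, hlx]; group
  obtain ⟨l', hl'T, hl'a, hl'2, hl'y, hback⟩ : ∃ l' ∈ s.T, s.a * l' = l' * s.a ∧ l' * l' = 1 ∧
      l' * K.y = K.y * l' ∧ (l' ∈ s.C → l ∈ s.C) := by
    by_cases h : x * x = 1
    · exact ⟨l, hl, hla, by rwa [h, one_mul] at hee', hly, id⟩
    · have hxx : x * x = Q.z := ((Q.sq_eq hx).resolve_left fun e => h (by rw [e, one_mul])).resolve_left
        fun e => h (by rw [e, Q.hzz])
      refine ⟨l * K.y, mul_mem hl (s.z_le_t K.hy), ((show Commute s.a l from hla).mul_right (Q.a_fix_z K.hy)).eq,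
        ?_, ((show Commute l K.y from hly).mul_left (Commute.refl _)).eq, fun hc => by simpa using mul_mem hc (inv_mem K.y_c)⟩
      rw [hxx] at hee'
      calc l * K.y * (l * K.y) = l * (K.y * l) * K.y := by group
        _ = (l * l) * (K.y * K.y) := by rw [← hly]; group
        _ = 1 := by
          rw [show K.y * K.y = Q.z from hw, ← mul_eq_one_comm.1 hee']
  suffices hC : l' ∈ s.C from mul_mem (s.x_le_c hx) (hback hC)
  by_contra hC
  have hiy : Q.i * K.y * (Q.i * K.y) = 1 := by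
    rw [show Q.i * K.y * (Q.i * K.y) = Q.i * (K.y * Q.i) * K.y by group, s.z_comm K.hy Q.i_c,
      show Q.i * (Q.i * K.y) * K.y = Q.i * Q.i * (K.y * K.y) by group, Q.hii, show K.y * K.y = Q.z from hw, Q.hzz]
  set f := Q.i * K.y with hf
  have hfC : f ∈ s.C := mul_mem Q.i_c K.y_c
  have hlf : l' * f = f * l' := ((show Commute l' Q.i from Q.fixed_cent_t hl'T hl'a Q.hi).mul_right hl'y).eq
  let B : Subgroup G := closure ({Q.z, l', f} : Set G)
  haveI : IsMulCommutative ↥B := isMulCommutative_closure (by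
    have c1 : Q.z * l' = l' * Q.z := (K.t_z hl'T).symm
    have c2 : Q.z * f = f * Q.z := Q.zc hfC
    simp only [Set.mem_insert_iff, Set.mem_singleton_iff]
    rintro a (rfl | rfl | rfl) b (rfl | rfl | rfl)
    exacts [rfl, c1, c2, c1.symm, rfl, hlf, c2.symm, hlf.symm, rfl])
  have hBab : ∀ p ∈ B, ∀ q ∈ B, p * q = q * p := fun p hp q hq =>
    congrArg Subtype.val (mul_comm' (⟨p, hp⟩ : ↥B) ⟨q, hq⟩)
  have mz : Q.z ∈ B := subset_closure (by simp)
  have ml : l' ∈ B := subset_closure (by simp)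
  have mf : f ∈ B := subset_closure (by simp)
  have hBT : B ≤ s.T := by
    refine (closure_le _).2 ?_
    rintro a (rfl | rfl | rfl)
    exacts [s.hCT Q.z_c, hl'T, s.hCT hfC]
  have hsq : B ≤ omega B hBab := by
    refine (closure_le _).2 ?_
    rintro a (rfl | rfl | rfl)
    exacts [⟨mz, Q.hzz⟩, ⟨ml, hl'2⟩, ⟨mf, hiy⟩]
  have hU : ∀ {v : G}, v ∈ s.T → v * v = 1 → v * K.y = K.y * v → ∀ t ∈ s.T, t * v * t⁻¹ * v⁻¹ ∈ s.U :=
    fun {v} hv hvv hvy => (K.comm_or_delta hv hvv).resolve_right fun h => K.w1 (by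
      rw [← h, delta, hvy]; group)
  have hconj : ∀ t ∈ s.T, B ≤ B.comap (MulAut.conj t).toMonoidHom := fun t ht => by
    have hUB : ∀ {v : G}, v ∈ B → t * v * t⁻¹ * v⁻¹ ∈ s.U → t * v * t⁻¹ ∈ B := fun {v} hv h => by
      rcases K.u_cyc hw h with e | e
      · rwa [mul_inv_eq_one.1 e]
      · rw [mul_inv_eq_iff_eq_mul.1 e]; exact mul_mem mz hv
    refine (closure_le _).2 ?_
    rintro a (rfl | rfl | rfl)
    · show t * Q.z * t⁻¹ ∈ B
      rw [K.t_z ht, mul_inv_cancel_right]; exact mz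
    · exact hUB ml (hU hl'T hl'2 hl'y t ht)
    · exact hUB mf (hU (s.hCT hfC) hiy (s.z_comm K.hy hfC).symm t ht)
  have h4 := s.hrk B hBT (le_normalizer_of_conj fun t ht y hy => hconj t ht hy) hBab fun y hy => (hsq hy).2
  have fz : f ≠ Q.z := fun h => Q.hz1 (by
    have hiZ : Q.i ∈ s.Z := by
      rw [show Q.i = Q.z * K.y⁻¹ by rw [← h, hf, mul_inv_cancel_right]]; exact mul_mem Q.z_z (inv_mem K.hy)
    rw [← Q.hij, s.z_comm hiZ Q.j_c]; group)
  have f1 : f ≠ 1 := fun h => Q.hz1 (by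
    have hiZ : Q.i ∈ s.Z := by
      rw [show Q.i = K.y⁻¹ from eq_inv_of_mul_eq_one_left h]; exact inv_mem K.hy
    rw [← Q.hij, s.z_comm hiZ Q.j_c]; group)
  have zf : Q.z * f ≠ 1 := fun h => fz (mul_left_cancel (h.trans Q.hzz.symm))
  have := five_le_card (five_injective (w := l') Q.hz1 f1 fz zf (fun h => hC (by rw [h]; exact one_mem _))
    (fun h => hC (by rw [h]; exact Q.z_c)) (fun h => hC (by rw [h]; exact hfC))
    (fun h => hC (by rw [h]; exact mul_mem Q.z_c hfC))) (A := B) fun i => by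
      fin_cases i
      exacts [one_mem _, mz, mf, mul_mem mz mf, ml]
  omega

/-- Involutions outside `C` move the element of order four by `z`. -/
theorem delta_z {e : G} (he : e ∈ s.T) (hee : e * e = 1) (heC : e ∉ s.C) : K.delta e = Q.z :=
  (K.u_cyc hw (K.delta_u he)).resolve_left fun h => heC (K.inv_mem_c hw he hee h)

/-- The involutions of `C`. -/
theorem inv_c {f : G} (hf : f ∈ s.C) (hff : f * f = 1) :
    f = 1 ∨ f = Q.z ∨ ∃ x ∈ s.X, x * x = Q.z ∧ f = x * K.y := by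
  obtain ⟨x, hx, ζ, hζ, rfl⟩ := K.c_dec hf
  have e : x * x * (ζ * ζ) = 1 := by
    rw [← hff, show x * ζ * (x * ζ) = x * (ζ * x) * ζ by group, s.z_comm hζ (s.x_le_c hx)]; group
  by_cases hxx : x * x = 1
  · have hζU : ζ ∈ s.U := ⟨hζ, by rwa [hxx, one_mul] at e⟩
    have hxU : x ∈ s.U := ⟨by
      rcases Q.sq_eq hx with h | h | h
      · rw [h]; exact one_mem _
      · rw [h]; exact Q.z_z
      · exact absurd (h.symm.trans hxx) Q.hz1, hxx⟩
    rcases K.u_cyc hw (mul_mem hxU hζU) with h | h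
    · exact Or.inl h
    · exact Or.inr (Or.inl h)
  · have hx2 : x * x = Q.z := ((Q.sq_eq hx).resolve_left fun e => hxx (by rw [e, one_mul])).resolve_left
      fun e => hxx (by rw [e, Q.hzz])
    rw [hx2] at e
    have hζ2 : ζ * ζ = Q.z := (eq_inv_of_mul_eq_one_right e).trans (inv_eq_of_mul_eq_one_left Q.hzz)
    have hu : ζ * K.y⁻¹ ∈ s.U := ⟨mul_mem hζ (inv_mem K.hy), by
      rw [show ζ * K.y⁻¹ * (ζ * K.y⁻¹) = ζ * (K.y⁻¹ * ζ) * K.y⁻¹ by group, s.z_ab _ (inv_mem K.hy) _ hζ,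
        show ζ * (ζ * K.y⁻¹) * K.y⁻¹ = ζ * ζ * (K.y * K.y)⁻¹ by group, hζ2, show K.y * K.y = Q.z from hw,
        mul_inv_cancel]⟩
    refine Or.inr (Or.inr ⟨x * (ζ * K.y⁻¹), ?_, ?_, by group⟩)
    · rcases K.u_cyc hw hu with h | h <;> rw [h]
      exacts [by rwa [mul_one], mul_mem hx Q.hz]
    · rw [show x * (ζ * K.y⁻¹) * (x * (ζ * K.y⁻¹)) = x * ((ζ * K.y⁻¹) * x) * (ζ * K.y⁻¹) by group,
        s.z_comm hu.1 (s.x_le_c hx), show x * (x * (ζ * K.y⁻¹)) * (ζ * K.y⁻¹) =
          x * x * ((ζ * K.y⁻¹) * (ζ * K.y⁻¹)) by group, hx2, hu.2, mul_one]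

/-- Elementary subgroups of order eight. -/
theorem cyc_member {E : Subgroup G} (hE : Elem8 s E) : Q.z ∈ E ∧ (∃ x ∈ s.X, x * x = Q.z ∧ x * K.y ∈ E) ∧
    ∃ e ∈ E, e ∉ s.C := by
  obtain ⟨e, he, heC⟩ : ∃ e ∈ E, e ∉ s.C := by
    by_contra h
    push Not at h
    have := s.no_eight h hE.ab hE.sq
    have := hE.five
    omega
  have hmul : ∀ p ∈ E, p ∉ s.C → p * e ∈ s.C := fun p hp hpC => by
    refine K.inv_mem_c hw (hE.le (mul_mem hp he)) (hE.sq _ (mul_mem hp he)) ?_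
    rw [K.delta_mul (hE.le hp) (hE.le he), K.delta_z hw (hE.le hp) (hE.sq p hp) hpC,
      K.delta_z hw (hE.le he) (hE.sq e he) heC, Q.hzz]
  have hidx : (s.C ⊓ E).relIndex E = 2 := by
    rw [inf_relIndex_right, relIndex, index_eq_two_iff]
    refine ⟨⟨e, he⟩, fun q => ?_⟩
    by_cases hq : (q : G) ∈ s.C
    · refine Or.inr ⟨hq, fun h => heC ?_⟩
      simpa using mul_mem (inv_mem (show (q : G) ∈ s.C from hq)) (show (q : G) * e ∈ s.C from h)
    · exact Or.inl ⟨hmul _ q.2 hq, hq⟩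
  have hc := card_mul_relIndex (inf_le_right : s.C ⊓ E ≤ E)
  rw [hidx] at hc
  have h5 := hE.five
  have hC3 : 3 ≤ Nat.card ↥(s.C ⊓ E) := by omega
  have hz : Q.z ∈ E := by
    by_contra hzE
    obtain ⟨p, hp, q, hq, p1, q1, qp⟩ : ∃ p ∈ s.C ⊓ E, ∃ q ∈ s.C ⊓ E, p ≠ 1 ∧ q ≠ 1 ∧ q ≠ p := by
      by_contra hno
      push Not at hno
      rcases subsingleton_or_nontrivial ↥(s.C ⊓ E) with h | h
      · rw [Nat.card_of_subsingleton (1 : ↥(s.C ⊓ E))] at hC3; omega
      · obtain ⟨p, hp⟩ := exists_ne (1 : ↥(s.C ⊓ E))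
        have hs : Function.Surjective (fun b : Bool => if b then p else (1 : ↥(s.C ⊓ E))) := fun u => by
          by_cases hu : u = 1
          · exact ⟨false, by simp [hu]⟩
          · exact ⟨true, by simpa using (Subtype.ext (hno p p.2 u u.2 (fun h => hp (Subtype.ext h))
              fun h => hu (Subtype.ext h))).symm⟩
        have := Nat.card_le_card_of_surjective _ hs
        rw [Nat.card_eq_fintype_card (α := Bool), Fintype.card_bool] at this
        omega
    exact s.no_three hp.1 hq.1 Q.z_c (hE.sq p hp.2) (hE.sq q hq.2) Q.hzz (hE.ab p hp.2 q hq.2) (Q.zc hp.1).symm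
      (Q.zc hq.1).symm p1 q1 qp Q.hz1 (fun h => hzE (h ▸ hp.2)) (fun h => hzE (h ▸ hq.2))
      fun h => hzE (h ▸ mul_mem hp.2 hq.2)
  refine ⟨hz, ?_, e, he, heC⟩
  by_contra hno
  push Not at hno
  have : ∀ f ∈ s.C ⊓ E, f = 1 ∨ f = Q.z := fun f hf => by
    rcases K.inv_c hw hf.1 (hE.sq f hf.2) with h | h | ⟨x, hx, hxx, rfl⟩
    exacts [Or.inl h, Or.inr h, absurd hf.2 (hno x hx hxx)]
  have hs : Function.Surjective
      (fun b : Bool => if b then (⟨Q.z, Q.z_c, hz⟩ : ↥(s.C ⊓ E)) else (1 : ↥(s.C ⊓ E))) := fun u => by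
    rcases this u u.2 with h | h
    · exact ⟨false, by simpa using Subtype.ext h.symm⟩
    · exact ⟨true, by simpa using Subtype.ext h.symm⟩
  have := Nat.card_le_card_of_surjective _ hs
  rw [Nat.card_eq_fintype_card (α := Bool), Fintype.card_bool] at this
  omega

/-- No fixed element outside `C` lies in such a subgroup. -/
theorem no_fixed {E : Subgroup G} (hE : Elem8 s E) {e : G} (he : e ∈ E) (hea : s.a * e = e * s.a) : e ∈ s.C := by
  by_contra heC
  obtain ⟨-, ⟨x, hx, -, hf⟩, -⟩ := K.cyc_member hw hE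
  have h := hE.ab e he _ hf
  have hd := K.delta_z hw (hE.le he) (hE.sq e he) heC
  rw [← mul_assoc, Q.fixed_cent_t (hE.le he) hea hx, mul_assoc, mul_assoc x K.y e] at h
  have := mul_left_cancel h
  refine Q.hz1 ?_
  rw [← hd, delta, this]; group

/-- An element of `X` centralises a given member and moves the subgroup inside its cosets of `z`. -/
theorem exists_moving {E : Subgroup G} (hE : Elem8 s E) {p : G} (hp : p ∈ E) (p1 : p ≠ 1) (pz : p ≠ Q.z) :
    ∃ π ∈ s.X, π * p * π⁻¹ = p ∧ ∃ e ∈ E, π * e * π⁻¹ = e * Q.z := by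
  obtain ⟨hz, ⟨xf, hxf, hxff, hf⟩, e, he, heC⟩ := K.cyc_member hw hE
  obtain ⟨x, hx, x1, xz, hxp⟩ : ∃ x ∈ s.X, x ≠ 1 ∧ x ≠ Q.z ∧ x * p = p * x := by
    by_cases hpC : p ∈ s.C
    · obtain ⟨x, hx, hxx, rfl⟩ := ((K.inv_c hw hpC (hE.sq p hp)).resolve_left p1).resolve_left pz
      refine ⟨x, hx, fun h => Q.hz1 (by rw [← hxx, h, one_mul]), fun h => Q.hz1 ?_, ?_⟩
      · rw [h, Q.hzz] at hxx; exact hxx.symm
      · rw [mul_assoc x K.y x, s.z_comm K.hy (s.x_le_c hx)]
    · obtain ⟨x, hx, l, hl, hla, rfl⟩ := K.t_dec (hE.le hp)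
      refine ⟨x, hx, fun h => hpC ?_, fun h => hpC ?_, by rw [mul_assoc x l x, Q.fixed_cent_t hl hla hx]⟩
      · exact K.no_fixed hw hE hp (by rw [h, one_mul]; exact hla)
      · refine K.no_fixed hw hE hp (by rw [h]; exact ((show Commute s.a Q.z from Q.a_z).mul_right hla).eq)
  refine ⟨x, hx, by rw [hxp, mul_inv_cancel_right], ?_⟩
  by_contra hno
  push Not at hno
  have hfix : ∀ q ∈ E, x * q * x⁻¹ = q := fun q hq => (K.x_act hx (hE.le hq)).resolve_right (hno q hq)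
  obtain ⟨xe, hxe, le, hle, hlea, hede⟩ := K.t_dec (hE.le he)
  have hcl : ∀ {q : G}, q ∈ s.X → x * q = q * x → q * q = Q.z → q = x ∨ q = x * Q.z := fun {q} hq h hqq => by
    rcases Q.cent_x hx hq h x1 xz with e | e | e | e
    · exact absurd (by rw [← hqq, e, one_mul]) Q.hz1
    · exact absurd (by rw [← hqq, e, Q.hzz]) Q.hz1
    · exact Or.inl e
    · exact Or.inr e
  have hxxe : x * xe = xe * x := by
    have h := mul_inv_eq_iff_eq_mul.1 (hfix e he)
    rw [hede, mul_assoc xe le x, Q.fixed_cent_t hle hlea hx, ← mul_assoc, ← mul_assoc] at h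
    exact mul_right_cancel h
  have hxxf : x * xf = xf * x := by
    have h := mul_inv_eq_iff_eq_mul.1 (hfix _ hf)
    rw [mul_assoc xf K.y x, s.z_comm K.hy (s.x_le_c hx), ← mul_assoc, ← mul_assoc] at h
    exact mul_right_cancel h
  have hfixed : ∀ {q : G}, q = 1 ∨ q = Q.z → s.a * q = q * s.a := fun {q} h => by
    rcases h with rfl | rfl
    exacts [by rw [one_mul, mul_one], Q.a_z]
  rcases Q.sq_eq hxe with h | h | h
  · exact heC (K.no_fixed hw hE he (by rw [hede, h, one_mul]; exact hlea))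
  · exact heC (K.no_fixed hw hE he (by
      rw [hede, h]; exact ((show Commute s.a Q.z from Q.a_z).mul_right hlea).eq))
  · -- the product with the member in `C` is fixed
    have hxx : x * x = Q.z := ((Q.sq_eq hx).resolve_left x1).resolve_left xz
    have hprod : xe * xf = 1 ∨ xe * xf = Q.z := by
      have hz' : x * Q.z * x = x * x * Q.z := by rw [mul_assoc, Q.zc (s.x_le_c hx), ← mul_assoc]
      rcases hcl hxe hxxe h with e1 | e1 <;> rcases hcl hxf hxxf hxff with e2 | e2 <;> rw [e1, e2]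
      · exact Or.inr hxx
      · exact Or.inl (by rw [← mul_assoc, hxx, Q.hzz])
      · exact Or.inl (by rw [hz', hxx, Q.hzz])
      · exact Or.inr (by rw [← mul_assoc, hz', hxx, Q.hzz, one_mul])
    have hef : e * (xf * K.y) = xe * xf * (le * K.y) := by
      rw [hede, show xe * le * (xf * K.y) = xe * (le * xf) * K.y by group, Q.fixed_cent_t hle hlea hxf]; group
    have hfx : s.a * (e * (xf * K.y)) = e * (xf * K.y) * s.a := by
      rw [hef]
      exact ((show Commute s.a _ from hfixed hprod).mul_right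
        ((show Commute s.a le from hlea).mul_right (Q.a_fix_z K.hy))).eq
    exact heC (by
      have := mul_mem (K.no_fixed hw hE (mul_mem he hf) hfx) (inv_mem (mul_mem (s.x_le_c hxf) K.y_c))
      rwa [mul_inv_cancel_right] at this)

/-- Conjugations between members fix `z`. -/
theorem conj_fix {E : Subgroup G} (hE : Elem8 s E)
    (hodd : ¬ 2 ∣ (s.T ⊓ normalizer (E : Set G)).relIndex (normalizer (E : Set G))) {m : G}
    (hm : ∀ e ∈ E, m * e * m⁻¹ ∈ s.T) : m * Q.z * m⁻¹ = Q.z := by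
  by_contra hne
  obtain ⟨hz, -, -⟩ := K.cyc_member hw hE
  have hE2 := hE.map m hm
  obtain ⟨π, hπ, hπp, e₂, he₂, hπe⟩ := K.exists_moving hw hE2 ⟨Q.z, hz, rfl⟩
    (fun h => Q.hz1 (conj_eq_one_iff.1 h)) hne
  obtain ⟨e, he, rfl⟩ := he₂
  set E2 := E.map (MulAut.conj m).toMonoidHom with hE2'
  have hz2 : Q.z ∈ E2 := (K.cyc_member hw hE2).1
  set H := normalizer (E : Set G) ⊓ centralizer ({Q.z} : Set G) with hH
  have hPH : s.T ⊓ normalizer (E : Set G) ≤ H := fun t ht => ⟨ht.2,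
    mem_centralizer_singleton_iff.2 (K.t_z ht.1)⟩
  let M : Subgroup G :=
    { carrier := {n | n ∈ H ∧ ∀ q ∈ E, n * q * n⁻¹ = q ∨ n * q * n⁻¹ = q * Q.z}
      one_mem' := ⟨one_mem _, fun q _ => Or.inl (by simp)⟩
      mul_mem' := fun {a b} ha hb => ⟨mul_mem ha.1 hb.1, fun q hq => by
        have hza : a * Q.z * a⁻¹ = Q.z := by
          rw [mem_centralizer_singleton_iff.1 ha.1.2, mul_inv_cancel_right]
        have e : a * b * q * (a * b)⁻¹ = a * (b * q * b⁻¹) * a⁻¹ := by group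
        rcases hb.2 q hq with h | h <;> rw [e, h]
        · exact ha.2 q hq
        · rw [show a * (q * Q.z) * a⁻¹ = a * q * a⁻¹ * (a * Q.z * a⁻¹) by group, hza]
          rcases ha.2 q hq with h' | h' <;> rw [h']
          · exact Or.inr rfl
          · exact Or.inl (by rw [mul_assoc, Q.hzz, mul_one])⟩
      inv_mem' := fun {a} ha => ⟨inv_mem ha.1, fun q hq => by
        have hq' : a⁻¹ * q * a ∈ E := by
          have := (mem_normalizer_iff.1 (inv_mem ha.1.1) q).1 hq; rwa [inv_inv] at this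
        rw [inv_inv]
        rcases ha.2 _ hq' with h | h <;> rw [show a * (a⁻¹ * q * a) * a⁻¹ = q by group] at h
        · exact Or.inl h.symm
        · refine Or.inr ?_
          conv_rhs => rw [h, mul_assoc, Q.hzz, mul_one]⟩ }
  have hPM : s.T ⊓ normalizer (E : Set G) ≤ M := fun t ht => ⟨hPH ht, fun q hq => by
    have hq2 : t * q * t⁻¹ ∈ E := (mem_normalizer_iff.1 ht.2 q).1 hq
    have hu : t * q * t⁻¹ * q⁻¹ ∈ s.U := ⟨K.comm_t ht.1 (hE.le hq), hE.sq _ (mul_mem hq2 (inv_mem hq))⟩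
    rcases K.u_cyc hw hu with h | h
    · exact Or.inl (mul_inv_eq_one.1 h)
    · exact Or.inr ((mul_inv_eq_iff_eq_mul.1 h).trans (K.t_z (hE.le hq)).symm)⟩
  have hoddH : ¬ 2 ∣ (s.T ⊓ normalizer (E : Set G)).relIndex H := fun h => hodd (by
    rw [← relIndex_mul_relIndex _ _ _ hPH (inf_le_left : H ≤ normalizer (E : Set G))]
    exact dvd_mul_of_dvd_left h _)
  have hn : H ≤ normalizer (M : Set G) := le_normalizer_of_conj fun g hg n hn => by
    refine ⟨mul_mem (mul_mem hg hn.1) (inv_mem hg), fun q hq => ?_⟩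
    have hq' : g⁻¹ * q * g ∈ E := by
      have := (mem_normalizer_iff.1 (inv_mem hg.1) q).1 hq; rwa [inv_inv] at this
    have hzg : g * Q.z * g⁻¹ = Q.z := by
      rw [mem_centralizer_singleton_iff.1 hg.2, mul_inv_cancel_right]
    have e : g * n * g⁻¹ * q * (g * n * g⁻¹)⁻¹ = g * (n * (g⁻¹ * q * g) * n⁻¹) * g⁻¹ := by group
    rcases hn.2 _ hq' with h | h <;> rw [e, h]
    · exact Or.inl (by group)
    · refine Or.inr ?_
      rw [show g * (g⁻¹ * q * g * Q.z) * g⁻¹ = q * (g * Q.z * g⁻¹) by group, hzg]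
  have hπE : ∀ q ∈ E2, π * q * π⁻¹ ∈ E2 := fun q hq => by
    rcases K.x_act hπ (hE2.le hq) with h | h <;> rw [h]
    exacts [hq, mul_mem hq hz2]
  set π' := m⁻¹ * π * m with hπ'
  have hπH : π' ∈ H := by
    refine ⟨?_, ?_⟩
    · haveI : Finite (E : Set G) := Finite.of_injective (fun x : (E : Set G) => (x : G)) Subtype.val_injective
      refine mem_normalizer_fintype fun q hq => ?_
      obtain ⟨r, hr, hr'⟩ := hπE _ ⟨q, hq, rfl⟩
      show π' * q * π'⁻¹ ∈ E
      suffices h' : π' * q * π'⁻¹ = r from h'.symm ▸ hr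
      have hr2 : m * r * m⁻¹ = π * (m * q * m⁻¹) * π⁻¹ := hr'
      calc π' * q * π'⁻¹ = m⁻¹ * (π * (m * q * m⁻¹) * π⁻¹) * m := by rw [hπ']; group
        _ = r := by rw [← hr2]; group
    · refine mem_centralizer_singleton_iff.2 ?_
      have h2 : π * (m * Q.z * m⁻¹) = m * Q.z * m⁻¹ * π := mul_inv_eq_iff_eq_mul.1 hπp
      calc π' * Q.z = m⁻¹ * (π * (m * Q.z * m⁻¹)) * m := by rw [hπ']; group
        _ = Q.z * π' := by rw [h2, hπ']; group
  obtain ⟨k, hk⟩ := s.hT ⟨π, s.hCT (s.x_le_c hπ)⟩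
  have hk' : π' ^ 2 ^ k = 1 := by
    have e := conj_pow (a := m⁻¹) (b := π) (i := 2 ^ k)
    rw [inv_inv] at e
    rw [hπ', e, show π ^ 2 ^ k = 1 from congrArg Subtype.val hk, mul_one, inv_mul_cancel]
  have hM := two_elem_mem hoddH hPM (fun n hn => hn.1) hn hπH hk'
  have hπe' : π * (m * e * m⁻¹) * π⁻¹ = m * e * m⁻¹ * Q.z := hπe
  have hc : π' * e * π'⁻¹ = e * (m⁻¹ * Q.z * m) := by
    calc π' * e * π'⁻¹ = m⁻¹ * (π * (m * e * m⁻¹) * π⁻¹) * m := by rw [hπ']; group
      _ = _ := by rw [hπe']; group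
  rcases hM.2 e he with h | h <;> rw [hc] at h
  · exact Q.hz1 (conj_eq_one_iff.1 (by simpa using mul_eq_left.1 h : m⁻¹ * Q.z * m⁻¹⁻¹ = 1))
  · have h2 : m⁻¹ * Q.z * m = Q.z := mul_left_cancel h
    refine hne ?_
    conv_lhs => rw [← h2]
    group

/-- An involution that does not commute with `X` lies in an elementary subgroup of order eight. -/
theorem exists_member (hbig : Big s) {v x l : G} (hx : x ∈ s.X) (hl : l ∈ s.T) (hla : s.a * l = l * s.a)
    (hv : v = x * l) (x1 : x ≠ 1) (xz : x ≠ Q.z) (hvv : v * v = 1) : ∃ E, Elem8 s E ∧ v ∈ E := by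
  have hvT : v ∈ s.T := hv ▸ mul_mem (s.hCT (s.x_le_c hx)) hl
  by_cases hvC : v ∈ s.C
  · obtain ⟨E0, h0T, h0ab, h0sq, h08⟩ := hbig
    have hE0 : Elem8 s E0 := ⟨h0T, h0ab, h0sq, by omega⟩
    obtain ⟨-, ⟨xf, hxf, hxff, hf⟩, -⟩ := K.cyc_member hw hE0
    obtain ⟨x', hx', hx'2, hv'⟩ := ((K.inv_c hw hvC hvv).resolve_left fun h => x1 (by
      have : x * l = 1 := hv ▸ h
      have hfx : s.a * x = x * s.a := by
        rw [eq_inv_of_mul_eq_one_left this]; exact (show Commute s.a l from hla).inv_right.eq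
      exact (Q.not_fixed hx hfx).resolve_right xz)).resolve_left fun h => x1 (by
      have : x * l = Q.z := hv ▸ h
      have hfx : s.a * x = x * s.a := by
        rw [eq_mul_inv_of_mul_eq this]
        exact ((show Commute s.a Q.z from Q.a_z).mul_right (show Commute s.a l from hla).inv_right).eq
      exact (Q.not_fixed hx hfx).resolve_right xz)
    have xf1 : xf ≠ 1 := fun h => Q.hz1 (by rw [← hxff, h, one_mul])
    have xfz : xf ≠ Q.z := fun h => Q.hz1 (by rw [← hxff, h, Q.hzz])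
    have x'1 : x' ≠ 1 := fun h => Q.hz1 (by rw [← hx'2, h, one_mul])
    have x'z : x' ≠ Q.z := fun h => Q.hz1 (by rw [← hx'2, h, Q.hzz])
    obtain ⟨b, hb, hbX, hbc⟩ := Q.exists_rot hxf xf1 xfz hx' x'1 x'z
    have hbz : ∀ {ζ : G}, ζ ∈ s.Z → b * ζ * b⁻¹ = ζ := fun {ζ} hζ => by
      obtain ⟨n, rfl⟩ := hb
      rw [((show Commute s.a ζ from Q.a_fix_z hζ).zpow_left n).eq, mul_inv_cancel_right]
    have hbT : b ∈ normalizer (s.T : Set G) := (zpowers_le.2 s.haT) hb
    refine ⟨_, hE0.map b (fun e he => (mem_normalizer_iff.1 hbT e).1 (h0T he)), ?_⟩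
    obtain ⟨hz, -, -⟩ := K.cyc_member hw hE0
    have hf' : b * xf * b⁻¹ * K.y ∈ E0.map (MulAut.conj b).toMonoidHom := ⟨_, hf, by
      show b * (xf * K.y) * b⁻¹ = _
      rw [show b * (xf * K.y) * b⁻¹ = b * xf * b⁻¹ * (b * K.y * b⁻¹) by group, hbz K.hy]⟩
    have hz' : Q.z ∈ E0.map (MulAut.conj b).toMonoidHom := ⟨_, hz, hbz Q.z_z⟩
    rcases Q.cent_x hx' hbX hbc.symm x'1 x'z with e | e | e | e
    · exact absurd (conj_eq_one_iff.1 e) xf1
    · refine absurd (mul_left_cancel (a := b) ?_) xfz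
      have h2 := mul_inv_eq_iff_eq_mul.1 e
      rw [h2]
      exact (mul_inv_eq_iff_eq_mul.1 (hbz Q.z_z)).symm
    · rw [hv', ← e]; exact hf'
    · have := mul_mem hz' hf'
      rw [e, ← mul_assoc, Q.zc (mul_mem (s.x_le_c hx') Q.z_c), mul_assoc x' Q.z Q.z, Q.hzz, mul_one, ← hv'] at this
      exact this
  · have hd := K.delta_z hw hvT hvv hvC
    obtain ⟨p, hp, hpx, hpp⟩ := Q.exists_anti hx x1 xz
    have hpv : p * v * p⁻¹ = v * Q.z := hv ▸ K.anti_act hp hpx hx hl hla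
    set f := p * K.y with hf
    have hfC : f ∈ s.C := mul_mem (s.x_le_c hp) K.y_c
    have hff : f * f = 1 := by
      rw [hf, show p * K.y * (p * K.y) = p * (K.y * p) * K.y by group, s.z_comm K.hy (s.x_le_c hp),
        show p * (p * K.y) * K.y = p * p * (K.y * K.y) by group, hpp, show K.y * K.y = Q.z from hw, Q.hzz]
    have hfv : v * f = f * v := by
      have hyv : K.y * v = v * K.y * Q.z := by
        calc K.y * v = (K.delta v)⁻¹ * (v * K.y) := by simp only [delta]; group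
          _ = _ := by rw [hd, inv_eq_of_mul_eq_one_left Q.hzz, K.t_z (mul_mem hvT (s.z_le_t K.hy))]
      refine (mul_inv_eq_iff_eq_mul.1 ?_).symm
      calc f * v * f⁻¹ = p * (K.y * v) * K.y⁻¹ * p⁻¹ := by rw [hf]; group
        _ = p * (v * (K.y * Q.z)) * K.y⁻¹ * p⁻¹ := by rw [hyv, mul_assoc v K.y Q.z]
        _ = p * v * (K.y * Q.z * K.y⁻¹) * p⁻¹ := by group
        _ = p * v * Q.z * p⁻¹ := by rw [s.z_ab _ K.hy _ Q.z_z, mul_inv_cancel_right]
        _ = (p * v * p⁻¹) * (p * Q.z * p⁻¹) := by group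
        _ = v := by
          rw [hpv, K.t_z (s.hCT (s.x_le_c hp)), mul_inv_cancel_right, mul_assoc, Q.hzz, mul_one]
    let B : Subgroup G := closure ({Q.z, v, f} : Set G)
    haveI : IsMulCommutative ↥B := isMulCommutative_closure (by
      have c1 : Q.z * v = v * Q.z := (K.t_z hvT).symm
      have c2 : Q.z * f = f * Q.z := Q.zc hfC
      simp only [Set.mem_insert_iff, Set.mem_singleton_iff]
      rintro a (rfl | rfl | rfl) b (rfl | rfl | rfl)
      exacts [rfl, c1, c2, c1.symm, rfl, hfv, c2.symm, hfv.symm, rfl])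
    have hBab : ∀ a ∈ B, ∀ b ∈ B, a * b = b * a := fun a ha b hb =>
      congrArg Subtype.val (mul_comm' (⟨a, ha⟩ : ↥B) ⟨b, hb⟩)
    have mz : Q.z ∈ B := subset_closure (by simp)
    have mv : v ∈ B := subset_closure (by simp)
    have mf : f ∈ B := subset_closure (by simp)
    have hsq : B ≤ omega B hBab := by
      refine (closure_le _).2 ?_
      rintro a (rfl | rfl | rfl)
      exacts [⟨mz, Q.hzz⟩, ⟨mv, hvv⟩, ⟨mf, hff⟩]
    have hBT : B ≤ s.T := by
      refine (closure_le _).2 ?_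
      rintro a (rfl | rfl | rfl)
      exacts [s.hCT Q.z_c, hvT, s.hCT hfC]
    have hpZ : p ∉ s.Z := fun h => Q.hz1 (by rw [← hpx, s.z_comm h (s.x_le_c hx)]; group)
    have fz : f ≠ Q.z := fun h => hpZ (by
      rw [show p = Q.z * K.y⁻¹ by rw [← h, hf, mul_inv_cancel_right]]; exact mul_mem Q.z_z (inv_mem K.hy))
    have f1 : f ≠ 1 := fun h => hpZ (by
      rw [show p = K.y⁻¹ from eq_inv_of_mul_eq_one_left h]; exact inv_mem K.hy)
    have zf : Q.z * f ≠ 1 := fun h => fz (mul_left_cancel (h.trans Q.hzz.symm))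
    exact ⟨B, ⟨hBT, hBab, fun a ha => (hsq ha).2, five_le_card
      (five_injective (w := v) Q.hz1 f1 fz zf (fun h => hvC (by rw [h]; exact one_mem _))
      (fun h => hvC (by rw [h]; exact Q.z_c)) (fun h => hvC (by rw [h]; exact hfC))
      (fun h => hvC (by rw [h]; exact mul_mem Q.z_c hfC))) fun i => by
        fin_cases i
        exacts [one_mem _, mz, mf, mul_mem mz mf, mv]⟩, mv⟩

/-- An involution that does not commute with `X` is not fused to `z`. -/
theorem cyclic_false (P : Sylow 2 G) (hP : (P : Subgroup G) = s.T) (hbig : Big s) {v x l g : G} (hx : x ∈ s.X)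
    (hl : l ∈ s.T) (hla : s.a * l = l * s.a) (hv : v = x * l) (x1 : x ≠ 1) (xz : x ≠ Q.z) (hvv : v * v = 1)
    (hg : g * v * g⁻¹ = Q.z) : False := by
  obtain ⟨E, hE, hvE⟩ := K.exists_member hw hbig hx hl hla hv x1 xz hvv
  obtain ⟨k, hkT, hkodd⟩ := exists_fully P (hP.symm ▸ hE.le : E ≤ (P : Subgroup G))
  rw [hP] at hkodd hkT
  set E₁ := E.map (MulAut.conj k).toMonoidHom with hE₁
  have hE1 : Elem8 s E₁ := hE.map k fun e he => hkT ⟨e, he, rfl⟩
  obtain ⟨m, hmv, hmT⟩ := move_into P hP hE.le (fun e he => hE.ab e he v hvE) (fun t ht => K.t_z ht) hg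
  have h1 := K.conj_fix hw hE1 hkodd (m := k⁻¹) (fun e he => by
    obtain ⟨q, hq, rfl⟩ := he
    have := hE.le hq
    convert this using 1
    show k⁻¹ * (k * q * k⁻¹) * k⁻¹⁻¹ = q
    group)
  have h2 := K.conj_fix hw hE1 hkodd (m := m * k⁻¹) (fun e he => by
    obtain ⟨q, hq, rfl⟩ := he
    have := hmT q hq
    convert this using 1
    show m * k⁻¹ * (k * q * k⁻¹) * (m * k⁻¹)⁻¹ = _
    group)
  have h3 : m * Q.z * m⁻¹ = Q.z := by
    calc m * Q.z * m⁻¹ = m * (k⁻¹ * Q.z * k⁻¹⁻¹) * m⁻¹ := by rw [h1]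
      _ = m * k⁻¹ * Q.z * (m * k⁻¹)⁻¹ := by group
      _ = Q.z := h2
  have hvz : v = Q.z := mul_left_cancel (mul_right_cancel (hmv.trans h3.symm))
  refine x1 ?_
  have hfx : s.a * x = x * s.a := by
    rw [eq_mul_inv_of_mul_eq (hv ▸ hvz : x * l = Q.z)]
    exact ((show Commute s.a Q.z from Q.a_z).mul_right (show Commute s.a l from hla).inv_right).eq
  exact (Q.not_fixed hx hfx).resolve_right xz

end Root

end CfsgLib.NormalRankTwo
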