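import Cfsg.Agent.Lib.NormalRankTwo.QuatFour
import Cfsg.Agent.Lib.NormalRankTwo.QuatCyclic
import Cfsg.Agent.Lib.AlmostCyclic.SylowTypes

/-!
# A quaternion moved part gives order 128
-/

set_option autoImplicit false
set_option linter.unusedSectionVars false

namespace CfsgLib.NormalRankTwo

open Subgroup

variable {G : Type*} [Group G] [Finite G] {s : Ctx G}

namespace Root

variable {Q : Quat s} (K : Root Q)
include K

theorem isolated (P : Sylow 2 G) (hP : (P : Subgroup G) = s.T) (hbig : Big s)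
    (hNC : normalizer (s.T : Set G) ≤ normalizer (s.C : Set G)) : Cfsg.IsIsolatedInvolution Q.z := by
  haveI := Fact.mk Nat.prime_two
  have hord : orderOf Q.z = 2 := orderOf_eq_prime (by rw [pow_two]; exact Q.hzz) Q.hz1
  have key : ∀ v ∈ s.T, ∀ g : G, g * v * g⁻¹ = Q.z → v = Q.z := by
    intro v hv g hg
    have hvv : v * v = 1 := conj_eq_one_iff (a := g).1 (by
      rw [show g * (v * v) * g⁻¹ = g * v * g⁻¹ * (g * v * g⁻¹) by group, hg, Q.hzz])
    obtain ⟨x, hx, l, hl, hla, rfl⟩ := K.t_dec hv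
    by_cases h : x = 1 ∨ x = Q.z
    · have hc : ∀ {q : G}, q ∈ s.X → x * l * q = q * (x * l) := fun {q} hq => by
        have c2 : Commute x q := by
          rcases h with rfl | rfl
          exacts [Commute.one_left q, Q.zc (s.x_le_c hq)]
        exact (c2.mul_left (Q.fixed_cent_t hl hla hq)).eq
      exact K.fused_cent P hP hNC (hc Q.hi) (hc Q.hj) hg
    · push Not at h
      by_cases hw : K.w = Q.z
      · exact (K.cyclic_false hw P hP hbig hx hl hla rfl h.1 h.2 hvv hg).elim
      · exact (K.four_false hw P hP hx hl hla rfl h.1 h.2 hvv hg).elim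
  refine ⟨hord, fun g hcomm => ?_⟩
  set r := g * Q.z * g⁻¹ with hr
  have hcen : (P : Subgroup G) ≤ centralizer ({Q.z} : Set G) := fun t ht =>
    mem_centralizer_singleton_iff.2 (K.t_z (hP ▸ ht))
  have hr2 : IsPGroup 2 ↥(zpowers r) := IsPGroup.of_card (n := 1) (by
    rw [Nat.card_zpowers, pow_one, hr, ← hord]
    exact orderOf_injective (MulAut.conj g).toMonoidHom (MulEquiv.injective _) Q.z)
  obtain ⟨h, hh, hhT⟩ := exists_conj_into P hcen hr2
    (zpowers_le.2 (mem_centralizer_singleton_iff.2 hcomm.eq.symm))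
  have hv := key (h * r * h⁻¹) (hP ▸ hhT r (mem_zpowers r)) ((h * g)⁻¹) (by rw [hr]; group)
  rw [mem_centralizer_singleton_iff] at hh
  have e : h * r * h⁻¹ = h * Q.z * h⁻¹ := by rw [hv, hh, mul_inv_cancel_right]
  exact mul_left_cancel (mul_right_cancel e)

end Root

/-- A quaternion moved part gives order 128. -/
theorem card_of_quat [IsSimpleGroup G] (hns : ¬ Group.IsSolvable G) (s : Ctx G)
    (e : ↥s.X ≃* QuaternionGroup 2) (P : Sylow 2 G) (hP : (P : Subgroup G) = s.T) (hbig : Big s)
    (hNC : normalizer (s.T : Set G) ≤ normalizer (s.C : Set G)) : Nat.card ↥s.T = 128 := by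
  obtain ⟨Q⟩ := exists_quat s e
  by_cases h : ∀ η ∈ s.Z, η * η = 1
  · exact Q.card_small hbig h
  · obtain ⟨K⟩ := Q.exists_root h
    exact absurd (K.isolated P hP hbig hNC) (CfsgLib.AlmostCyclic.no_isolated hns _)

end CfsgLib.NormalRankTwo
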