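import Cfsg.Agent.Lib.NormalRankTwo.AbBig

/-!
# A quaternion moved part
-/

set_option autoImplicit false
set_option linter.unusedSectionVars false

namespace CfsgLib.NormalRankTwo

open Subgroup

variable {G : Type*} [Group G] [Finite G]

/-- Three cosets in a two-group make four. -/
theorem four_le_relIndex {T H N : Subgroup G} (hT : IsPGroup 2 ↥T) (hHT : H ≤ T) {p q : G} (hp : p ∈ H)
    (hq : q ∈ H) (hpN : p ∉ N) (hqN : q ∉ N) (hpq : p⁻¹ * q ∉ N) : 4 ≤ N.relIndex H := by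
  haveI := Fact.mk Nat.prime_two
  obtain ⟨n, hn⟩ := IsPGroup.iff_card.1 (hT.to_le hHT)
  obtain ⟨k, -, hk⟩ := (Nat.dvd_prime_pow Nat.prime_two).1 (hn ▸ relIndex_dvd_card (H := N) (K := H))
  have h3 : 3 ≤ N.relIndex H := by
    rw [relIndex, index_eq_card]
    have hinj : Function.Injective
        (![((1 : ↥H) : ↥H ⧸ N.subgroupOf H), (⟨p, hp⟩ : ↥H), (⟨q, hq⟩ : ↥H)] : Fin 3 → ↥H ⧸ N.subgroupOf H) := by
      have e1 : ((1 : ↥H) : ↥H ⧸ N.subgroupOf H) ≠ (⟨p, hp⟩ : ↥H) := fun h => hpN (by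
        simpa [QuotientGroup.eq, mem_subgroupOf] using h)
      have e2 : ((1 : ↥H) : ↥H ⧸ N.subgroupOf H) ≠ (⟨q, hq⟩ : ↥H) := fun h => hqN (by
        simpa [QuotientGroup.eq, mem_subgroupOf] using h)
      have e3 : ((⟨p, hp⟩ : ↥H) : ↥H ⧸ N.subgroupOf H) ≠ (⟨q, hq⟩ : ↥H) := fun h => hpq (by
        simpa [QuotientGroup.eq, mem_subgroupOf] using h)
      intro i j h
      fin_cases i <;> fin_cases j <;> simp_all [eq_comm]
    simpa using Nat.card_le_card_of_injective _ hinj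
  rw [hk] at h3 ⊢
  rcases k with _ | _ | k <;> simp_all [pow_succ]
  have : 0 < 2 ^ k := by positivity
  omega

/-- The moved part is a quaternion group of order eight. -/
structure Quat (s : Ctx G) where
  z : G
  i : G
  j : G
  hz : z ∈ s.X
  hi : i ∈ s.X
  hj : j ∈ s.X
  hzz : z * z = 1
  hz1 : z ≠ 1
  hii : i * i = z
  hjj : j * j = z
  hij : i * j * i⁻¹ * j⁻¹ = z
  hall : ∀ x ∈ s.X, x = 1 ∨ x = z ∨ x = i ∨ x = i * z ∨ x = j ∨ x = j * z ∨ x = i * j ∨ x = i * j * z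

theorem exists_quat (s : Ctx G) (e : ↥s.X ≃* QuaternionGroup 2) : Nonempty (Quat s) := by
  let q : QuaternionGroup 2 → G := fun w => (e.symm w : G)
  have hm : ∀ v w, q (v * w) = q v * q w := fun v w => by simp [q]
  have h1 : q 1 = 1 := by simp [q]
  have hinv : ∀ v, q v⁻¹ = (q v)⁻¹ := fun v => by simp [q]
  have hinj : Function.Injective q := fun v w h => e.symm.injective (Subtype.ext h)
  refine ⟨⟨q (.a 2), q (.a 1), q (.xa 0), (e.symm _).2, (e.symm _).2, (e.symm _).2, ?_, ?_, ?_, ?_, ?_, ?_⟩⟩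
  · rw [← hm, show (QuaternionGroup.a 2 : QuaternionGroup 2) * .a 2 = 1 by decide, h1]
  · rw [← h1]; exact fun h => absurd (hinj h) (by decide)
  · rw [← hm]; exact congrArg q (by decide)
  · rw [← hm]; exact congrArg q (by decide)
  · rw [← hinv, ← hinv, ← hm, ← hm, ← hm]; exact congrArg q (by decide)
  · intro x hx
    have key : ∀ w : QuaternionGroup 2, w = 1 ∨ w = .a 2 ∨ w = .a 1 ∨ w = .a 1 * .a 2 ∨ w = .xa 0 ∨
        w = .xa 0 * .a 2 ∨ w = .a 1 * .xa 0 ∨ w = .a 1 * .xa 0 * .a 2 := by decide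
    have hxq : q (e ⟨x, hx⟩) = x := by simp [q]
    rcases key (e ⟨x, hx⟩) with h | h | h | h | h | h | h | h <;> rw [h] at hxq <;> subst hxq <;>
      simp only [hm, h1, true_or, or_true]

namespace Quat

variable {s : Ctx G} (Q : Quat s)
include Q

theorem ji : Q.j * Q.i * Q.j⁻¹ * Q.i⁻¹ = Q.z := by
  rw [show Q.j * Q.i * Q.j⁻¹ * Q.i⁻¹ = (Q.i * Q.j * Q.i⁻¹ * Q.j⁻¹)⁻¹ by group, Q.hij]
  exact inv_eq_of_mul_eq_one_left Q.hzz

theorem i_c : Q.i ∈ s.C := s.x_le_c Q.hi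
theorem j_c : Q.j ∈ s.C := s.x_le_c Q.hj
theorem z_c : Q.z ∈ s.C := s.x_le_c Q.hz

theorem z_z : Q.z ∈ s.Z := by rw [← Q.hij]; exact s.comm_z (s.hCT Q.i_c) Q.j_c

theorem z_u : Q.z ∈ s.U := ⟨Q.z_z, Q.hzz⟩

theorem zc {c : G} (hc : c ∈ s.C) : Q.z * c = c * Q.z := s.z_comm Q.z_z hc

theorem ij : Q.i * Q.j = Q.z * (Q.j * Q.i) := by rw [← Q.hij]; group

theorem ji' : Q.j * Q.i = Q.z * (Q.i * Q.j) := by rw [← Q.ji]; group

theorem i1 : Q.i ≠ 1 := fun h => Q.hz1 (by rw [← Q.hii, h, one_mul])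

theorem iz : Q.i ≠ Q.z := fun h => Q.hz1 (by
  have e := Q.hii
  rw [h, Q.hzz] at e
  exact e.symm)

/-- An element of `X` that commutes with `i` and `j` is `1` or `z`. -/
theorem central {x : G} (hx : x ∈ s.X) (hxi : x * Q.i = Q.i * x) (hxj : x * Q.j = Q.j * x) : x = 1 ∨ x = Q.z := by
  have hne : Q.i * Q.j ≠ Q.j * Q.i := fun h => Q.hz1 (by rw [← Q.hij, h]; group)
  have strip : ∀ {w u : G}, u ∈ s.C → w * Q.z * u = u * (w * Q.z) → w * u = u * w := fun {w u} hu h => by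
    rw [mul_assoc, Q.zc hu, ← mul_assoc, ← mul_assoc] at h
    exact mul_right_cancel h
  rcases Q.hall x hx with h | h | h | h | h | h | h | h
  · exact Or.inl h
  · exact Or.inr h
  · exact absurd (h ▸ hxj) hne
  · exact absurd (strip Q.j_c (h ▸ hxj)) hne
  · exact absurd (h ▸ hxi) (Ne.symm hne)
  · exact absurd (strip Q.i_c (h ▸ hxi)) (Ne.symm hne)
  · subst h; rw [mul_assoc] at hxi; exact absurd (mul_left_cancel hxi).symm hne
  · have h' := strip Q.i_c (h ▸ hxi)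
    rw [mul_assoc] at h'
    exact absurd (mul_left_cancel h').symm hne

theorem sq_eq {x : G} (hx : x ∈ s.X) : x = 1 ∨ x = Q.z ∨ x * x = Q.z := by
  have hzc : ∀ {w : G}, w ∈ s.C → w * w = Q.z → w * Q.z * (w * Q.z) = Q.z := fun {w} hw h => by
    rw [show w * Q.z * (w * Q.z) = w * (Q.z * w) * Q.z by group, Q.zc hw, ← mul_assoc w w, h, Q.hzz, one_mul]
  have hk : Q.i * Q.j * (Q.i * Q.j) = Q.z := by
    calc Q.i * Q.j * (Q.i * Q.j) = Q.i * (Q.j * Q.i) * Q.j := by group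
      _ = Q.i * (Q.z * (Q.i * Q.j)) * Q.j := by rw [← Q.ji']
      _ = (Q.i * Q.z) * Q.i * (Q.j * Q.j) := by group
      _ = Q.z * (Q.i * Q.i) * (Q.j * Q.j) := by rw [← Q.zc Q.i_c]; group
      _ = Q.z := by rw [Q.hii, Q.hjj, Q.hzz, one_mul]
  rcases Q.hall x hx with h | h | h | h | h | h | h | h <;> subst h
  · exact Or.inl rfl
  · exact Or.inr (Or.inl rfl)
  · exact Or.inr (Or.inr Q.hii)
  · exact Or.inr (Or.inr (hzc Q.i_c Q.hii))
  · exact Or.inr (Or.inr Q.hjj)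
  · exact Or.inr (Or.inr (hzc Q.j_c Q.hjj))
  · exact Or.inr (Or.inr hk)
  · exact Or.inr (Or.inr (hzc (mul_mem Q.i_c Q.j_c) hk))

/-- Commutators inside `X`. -/
theorem x_comm {x y : G} (hx : x ∈ s.X) (hy : y ∈ s.X) :
    x * y * x⁻¹ * y⁻¹ = 1 ∨ x * y * x⁻¹ * y⁻¹ = Q.z := by
  have hX : x * y * x⁻¹ * y⁻¹ ∈ s.X := mul_mem (mul_mem (mul_mem hx hy) (inv_mem hx)) (inv_mem hy)
  have hZ : x * y * x⁻¹ * y⁻¹ ∈ s.Z := s.comm_z (s.hCT (s.x_le_c hx)) (s.x_le_c hy)
  exact Q.central hX (s.z_comm hZ Q.i_c) (s.z_comm hZ Q.j_c)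

/-- An element commuting with a noncentral element of `X` is in its cyclic group. -/
theorem cent_x {x y : G} (hx : x ∈ s.X) (hy : y ∈ s.X) (hc : x * y = y * x) (x1 : x ≠ 1) (xz : x ≠ Q.z) :
    y = 1 ∨ y = Q.z ∨ y = x ∨ y = x * Q.z := by
  by_contra h
  push Not at h
  have hxy : x * y * (x * y) = 1 := by
    rw [show x * y * (x * y) = x * (y * x) * y by group, ← hc, show x * (x * y) * y = (x * x) * (y * y) by group,
      ((Q.sq_eq hx).resolve_left x1).resolve_left xz, ((Q.sq_eq hy).resolve_left h.1).resolve_left h.2.1, Q.hzz]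
  rcases Q.sq_eq (mul_mem hx hy) with h2 | h2 | h2
  · have hxx := ((Q.sq_eq hx).resolve_left x1).resolve_left xz
    exact h.2.2.2 (mul_left_cancel (h2.trans (by rw [← mul_assoc, hxx, Q.hzz])))
  · exact h.2.2.1 (by
      have hxx := ((Q.sq_eq hx).resolve_left x1).resolve_left xz
      rw [← hxx] at h2
      exact mul_left_cancel h2)
  · exact Q.hz1 (h2.symm.trans hxy)

theorem a_z : s.a * Q.z = Q.z * s.a := by
  have h : s.a * Q.z * s.a⁻¹ ∈ s.X := s.x_conj Q.hz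
  have hsq : s.a * Q.z * s.a⁻¹ * (s.a * Q.z * s.a⁻¹) = 1 := by
    rw [show s.a * Q.z * s.a⁻¹ * (s.a * Q.z * s.a⁻¹) = s.a * (Q.z * Q.z) * s.a⁻¹ by group, Q.hzz]; group
  rcases Q.sq_eq h with e | e | e
  · exact absurd (conj_eq_one_iff.1 e) Q.hz1
  · exact mul_inv_eq_iff_eq_mul.1 e
  · exact absurd (e.symm.trans hsq) Q.hz1

/-- Elements fixed by `a` in `C` centralise `X`. -/
theorem fixed_cent {d : G} (hd : d ∈ s.C) (hda : s.a * d = d * s.a) {x : G} (hx : x ∈ s.X) : d * x = x * d := by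
  refine s.fixed_cent_x (s.hCT hd) hda (fun y hy => ?_) hx
  have hX : d * y * d⁻¹ * y⁻¹ ∈ s.X :=
    mul_mem ((mem_normalizer_iff.1 (s.c_normalizes_x hd) y).1 hy) (inv_mem hy)
  have hZ : d * y * d⁻¹ * y⁻¹ ∈ s.Z := s.comm_z (s.hCT hd) (s.x_le_c hy)
  rcases Q.central hX (s.z_comm hZ Q.i_c) (s.z_comm hZ Q.j_c) with e | e <;> rw [e]
  · rw [one_mul, mul_one]
  · exact Q.a_z

theorem a_fix_z {ζ : G} (h : ζ ∈ s.Z) : s.a * ζ = ζ * s.a := by
  obtain ⟨x, hx, d, hd, hda, rfl⟩ := s.decomp (s.z_le_c h)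
  have hc : ∀ {y : G}, y ∈ s.X → x * y = y * x := fun {y} hy => by
    have h1 := s.z_comm h (s.x_le_c hy)
    rw [mul_assoc, Q.fixed_cent hd hda hy, ← mul_assoc, ← mul_assoc] at h1
    exact mul_right_cancel h1
  rcases Q.central hx (hc Q.hi) (hc Q.hj) with e | e <;> subst e
  · rwa [one_mul]
  · rw [← mul_assoc, Q.a_z, mul_assoc, hda, ← mul_assoc]

/-- Fixed elements of `T` centralise `X`. -/
theorem fixed_cent_t {l : G} (hl : l ∈ s.T) (hla : s.a * l = l * s.a) {x : G} (hx : x ∈ s.X) : l * x = x * l :=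
  s.fixed_cent_x hl hla (fun _ hy => Q.a_fix_z (s.comm_z hl (s.x_le_c hy))) hx

theorem not_fixed {x : G} (hx : x ∈ s.X) (h : s.a * x = x * s.a) : x = 1 ∨ x = Q.z :=
  Q.central hx (Q.fixed_cent (s.x_le_c hx) h Q.hi) (Q.fixed_cent (s.x_le_c hx) h Q.hj)

/-- A fixed root of `z` commutes with no further fixed involution of `C`. -/
theorem no_root {y v : G} (hy : y ∈ s.C) (hya : s.a * y = y * s.a) (hyy : y * y = Q.z) (hv : v ∈ s.C)
    (hva : s.a * v = v * s.a) (hvv : v * v = 1) (hyv : y * v = v * y) (v1 : v ≠ 1) (vz : v ≠ Q.z) : False := by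
  have hyi := Q.fixed_cent hy hya Q.hi
  have hiy : Q.i * y * (Q.i * y) = 1 := by
    rw [show Q.i * y * (Q.i * y) = Q.i * (y * Q.i) * y by group, hyi,
      show Q.i * (Q.i * y) * y = (Q.i * Q.i) * (y * y) by group, Q.hii, hyy, Q.hzz]
  have hfix : ∀ {f : G}, f ∈ s.C → s.a * f = f * s.a → Q.i * y ≠ f := fun {f} hf hfa e => by
    have hai : s.a * Q.i = Q.i * s.a := by
      rw [show Q.i = f * y⁻¹ by rw [← e, mul_inv_cancel_right]]
      exact ((show Commute s.a f from hfa).mul_right (show Commute s.a y from hya).inv_right).eq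
    rcases Q.not_fixed Q.hi hai with h | h
    exacts [Q.i1 h, Q.iz h]
  refine s.no_three Q.z_c hv (mul_mem Q.i_c hy) Q.hzz hvv hiy (Q.zc hv) (Q.zc (mul_mem Q.i_c hy)) ?_ Q.hz1 v1 vz
    (hfix (one_mem _) (by rw [one_mul, mul_one])) (hfix Q.z_c Q.a_z) (hfix hv hva)
    (hfix (mul_mem Q.z_c hv) ((show Commute s.a Q.z from Q.a_z).mul_right hva).eq)
  calc v * (Q.i * y) = (v * Q.i) * y := by group
    _ = Q.i * (v * y) := by rw [Q.fixed_cent hv hva Q.hi]; group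
    _ = _ := by rw [← hyv]; group

/-- Every element of `C` is a product from `X` and a fixed element. -/
theorem c_dec {c : G} (hc : c ∈ s.C) : ∃ x ∈ s.X, ∃ d ∈ s.C, s.a * d = d * s.a ∧ c = x * d := s.decomp hc

theorem u_t {t u : G} (ht : t ∈ s.T) (hu : u ∈ s.U) : t * u * t⁻¹ ∈ s.U := by
  refine ⟨s.conj_z ht hu.1, ?_⟩
  rw [show t * u * t⁻¹ * (t * u * t⁻¹) = t * (u * u) * t⁻¹ by group, hu.2]; group

/-- The squares of the centre, with `z` adjoined. -/
def R : Subgroup G where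
  carrier := {r | ∃ η ∈ s.Z, r = η * η ∨ r = Q.z * (η * η)}
  one_mem' := ⟨1, one_mem _, Or.inl (one_mul 1).symm⟩
  mul_mem' := by
    rintro p q ⟨η, hη, hp⟩ ⟨θ, hθ, hq⟩
    have hsq : η * θ * (η * θ) = η * η * (θ * θ) := by
      rw [show η * θ * (η * θ) = η * (θ * η) * θ by group, s.z_ab θ hθ η hη]; group
    have hzη : Q.z * (η * η) = η * η * Q.z := Q.zc (mul_mem (s.z_le_c hη) (s.z_le_c hη))
    refine ⟨η * θ, mul_mem hη hθ, ?_⟩
    rw [hsq]
    rcases hp with rfl | rfl <;> rcases hq with rfl | rfl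
    · exact Or.inl rfl
    · exact Or.inr (by rw [← mul_assoc, ← hzη, mul_assoc])
    · exact Or.inr (mul_assoc _ _ _)
    · refine Or.inl ?_
      calc Q.z * (η * η) * (Q.z * (θ * θ)) = η * η * Q.z * (Q.z * (θ * θ)) := by rw [hzη]
        _ = η * η * (Q.z * Q.z) * (θ * θ) := by group
        _ = _ := by rw [Q.hzz, mul_one]
  inv_mem' := by
    rintro p ⟨η, hη, hp⟩
    refine ⟨η⁻¹, inv_mem hη, ?_⟩
    rcases hp with rfl | rfl
    · exact Or.inl (mul_inv_rev _ _)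
    · refine Or.inr ?_
      rw [Q.zc (mul_mem (s.z_le_c hη) (s.z_le_c hη)), mul_inv_rev, mul_inv_rev, inv_eq_of_mul_eq_one_left Q.hzz]

theorem r_le : Q.R ≤ s.Z := by
  rintro r ⟨η, hη, rfl | rfl⟩
  exacts [mul_mem hη hη, mul_mem Q.z_z (mul_mem hη hη)]

theorem r_conj {t r : G} (ht : t ∈ s.T) (htz : t * Q.z = Q.z * t) (hr : r ∈ Q.R) : t * r * t⁻¹ ∈ Q.R := by
  obtain ⟨η, hη, rfl | rfl⟩ := hr
  · exact ⟨t * η * t⁻¹, s.conj_z ht hη, Or.inl (by group)⟩
  · refine ⟨t * η * t⁻¹, s.conj_z ht hη, Or.inr ?_⟩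
    rw [show t * (Q.z * (η * η)) * t⁻¹ = (t * Q.z) * (η * η) * t⁻¹ by group, htz]; group

/-- The involutions of the centre are products of `z` and a square, and `z` is the only square missed. -/
theorem relIndex_r : Q.R.relIndex s.Z ≤ 2 := by
  classical
  let f : ↥s.Z →* ↥s.Z := MonoidHom.mk' (fun η => η * η) fun η θ => Subtype.ext (by
    show (η : G) * θ * (η * θ) = η * η * (θ * θ)
    rw [show (η : G) * θ * (η * θ) = η * (θ * η) * θ by group, s.z_ab θ θ.2 η η.2]; group)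
  have hle : f.range ≤ Q.R.subgroupOf s.Z := by
    rintro _ ⟨η, rfl⟩
    exact ⟨η, η.2, Or.inl rfl⟩
  have hker : Nat.card ↥f.ker = Nat.card ↥s.U := by
    refine Nat.card_congr ⟨fun η => ⟨η.1.1, η.1.2, congrArg Subtype.val η.2⟩,
      fun u => ⟨⟨u.1, u.2.1⟩, Subtype.ext u.2.2⟩, fun η => rfl, fun u => rfl⟩
  have hidx : f.range.index = Nat.card ↥f.ker := by
    have h1 := card_mul_index f.range
    have h2 := card_mul_index f.ker
    rw [index_ker] at h2
    have : 0 < Nat.card ↥f.range := Nat.card_pos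
    nlinarith
  have hu := s.card_u_le
  by_cases hz : (⟨Q.z, Q.z_z⟩ : ↥s.Z) ∈ f.range
  · -- `z` is a square: the involutions are only `1` and `z`
    obtain ⟨η, hη⟩ := hz
    have hηη : (η : G) * η = Q.z := congrArg Subtype.val hη
    have hU2 : Nat.card ↥s.U ≤ 2 := by
      have hs : Function.Surjective (fun b : Bool => if b then (⟨Q.z, Q.z_u⟩ : ↥s.U) else 1) := fun u => by
        by_cases h1 : (u : G) = 1
        · exact ⟨false, by simpa using Subtype.ext h1.symm⟩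
        by_cases h2 : (u : G) = Q.z
        · exact ⟨true, by simpa using Subtype.ext h2.symm⟩
        exact (Q.no_root (s.z_le_c η.2) (Q.a_fix_z η.2) hηη (s.z_le_c u.2.1) (Q.a_fix_z u.2.1) u.2.2
          (s.z_ab _ η.2 _ u.2.1) h1 h2).elim
      simpa using Nat.card_le_card_of_surjective _ hs
    exact (Nat.le_of_dvd (Nat.pos_of_ne_zero index_ne_zero_of_finite) (index_dvd_of_le hle)).trans (by omega)
  · have h1 : (⟨Q.z, Q.z_z⟩ : ↥s.Z) ∈ Q.R.subgroupOf s.Z := ⟨1, one_mem _, Or.inr (by simp)⟩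
    have hlt : f.range < Q.R.subgroupOf s.Z := lt_of_le_of_ne hle fun h => hz (h ▸ h1)
    have h2 := relIndex_mul_index hle
    have h3 : f.range.relIndex (Q.R.subgroupOf s.Z) ≠ 1 := fun h => hlt.not_ge (relIndex_eq_one.1 h)
    have h4 : f.range.relIndex (Q.R.subgroupOf s.Z) ≠ 0 := fun h =>
      index_ne_zero_of_finite (H := f.range) (by rw [← h2, h, zero_mul])
    show (Q.R.subgroupOf s.Z).index ≤ 2
    nlinarith [Nat.two_le_iff _ |>.2 ⟨h4, h3⟩]

/-- An element of order four of `X` has a partner not commuting with it. -/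
theorem exists_anti {x : G} (hx : x ∈ s.X) (x1 : x ≠ 1) (xz : x ≠ Q.z) :
    ∃ w ∈ s.X, w * x * w⁻¹ * x⁻¹ = Q.z ∧ w * w = Q.z := by
  have key : ∀ w ∈ s.X, x * w ≠ w * x → w * x * w⁻¹ * x⁻¹ = Q.z ∧ w * w = Q.z := fun w hw h => by
    refine ⟨(Q.x_comm hw hx).resolve_left fun e => h ?_, ?_⟩
    · exact (mul_inv_eq_iff_eq_mul.1 (mul_inv_eq_one.1 e)).symm
    · refine ((Q.sq_eq hw).resolve_left ?_).resolve_left ?_
      · rintro rfl; exact h (by rw [one_mul, mul_one])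
      · rintro rfl; exact h (Q.zc (s.x_le_c hx)).symm
  by_cases hi : x * Q.i = Q.i * x
  · exact ⟨Q.j, Q.hj, key _ Q.hj fun hj => (Q.central hx hi hj).elim x1 xz⟩
  · exact ⟨Q.i, Q.hi, key _ Q.hi hi⟩

/-- The class of two elements of order four determines the third. -/
theorem third {x y u w : G} (hx : x ∈ s.X) (hy : y ∈ s.X) (hu : u ∈ s.X) (hw : w ∈ s.X) (hxy : x * y ≠ y * x)
    (hxu : x * u ≠ u * x) (hyu : y * u ≠ u * y) (hxw : x * w ≠ w * x) (hyw : y * w ≠ w * y) :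
    u * w = w * u := by
  have x1 : x ≠ 1 := fun h => hxy (by rw [h, one_mul, mul_one])
  have xz : x ≠ Q.z := fun h => hxy (h ▸ Q.zc (s.x_le_c hy))
  have hz : ∀ {p q : G}, p ∈ s.X → q ∈ s.X → p * q ≠ q * p → p * q = Q.z * (q * p) := fun {p q} hp hq h => by
    rw [← (Q.x_comm hp hq).resolve_left fun e => h (mul_inv_eq_iff_eq_mul.1 (mul_inv_eq_one.1 e))]; group
  have key : ∀ {v : G}, v ∈ s.X → x * v ≠ v * x → y * v ≠ v * y → v = x * y ∨ v = x * Q.z * y := by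
    intro v hv hxv hyv
    have y1 : y⁻¹ = Q.z * y := inv_eq_of_mul_eq_one_left (by
      rw [mul_assoc, ((Q.sq_eq hy).resolve_left fun h => hxy (by rw [h, one_mul, mul_one])).resolve_left
        fun h => hxy (h ▸ (Q.zc (s.x_le_c hx)).symm), Q.hzz])
    have hc : x * (v * y⁻¹) = v * y⁻¹ * x := by
      rw [y1]
      calc x * (v * (Q.z * y)) = x * v * Q.z * y := by group
        _ = Q.z * (v * x) * Q.z * y := by rw [hz hx hv hxv]
        _ = v * x * y := by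
          rw [Q.zc (mul_mem (s.x_le_c hv) (s.x_le_c hx)), mul_assoc (v * x) Q.z Q.z, Q.hzz, mul_one]
        _ = v * (Q.z * (y * x)) := by rw [mul_assoc, hz hx hy hxy]
        _ = v * (Q.z * y) * x := by group
    rcases Q.cent_x hx (mul_mem hv (inv_mem hy)) hc x1 xz with e | e | e | e
    · exact absurd (by rw [mul_inv_eq_one.1 e]) hyv
    · refine absurd ?_ hyv
      rw [mul_inv_eq_iff_eq_mul.1 e, ← mul_assoc, ← Q.zc (s.x_le_c hy), mul_assoc]
    · exact Or.inl (mul_inv_eq_iff_eq_mul.1 e)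
    · exact Or.inr (mul_inv_eq_iff_eq_mul.1 e)
  have hzw : ∀ {v : G}, v ∈ s.C → x * y * v = v * (x * y) → x * Q.z * y * v = v * (x * Q.z * y) := fun {v} hv h => by
    rw [show x * Q.z * y = Q.z * (x * y) by rw [← Q.zc (s.x_le_c hx)]; group, mul_assoc, h, ← mul_assoc,
      Q.zc hv, mul_assoc]
  have hC : x * Q.z * y ∈ s.C := mul_mem (mul_mem (s.x_le_c hx) Q.z_c) (s.x_le_c hy)
  have hC' : x * y ∈ s.C := mul_mem (s.x_le_c hx) (s.x_le_c hy)
  rcases key hu hxu hyu with rfl | rfl <;> rcases key hw hxw hyw with rfl | rfl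
  · rfl
  · exact (hzw hC' rfl).symm
  · exact hzw hC' rfl
  · rfl

/-- Conjugation by `a` permutes the three classes of elements of order four. -/
theorem exists_rot {x w : G} (hx : x ∈ s.X) (x1 : x ≠ 1) (xz : x ≠ Q.z) (hw : w ∈ s.X) (w1 : w ≠ 1) (wz : w ≠ Q.z) :
    ∃ b : G, b ∈ s.A ∧ b * x * b⁻¹ ∈ s.X ∧ b * x * b⁻¹ * w = w * (b * x * b⁻¹) := by
  have hne : ∀ {v : G}, v ∈ s.X → v ≠ 1 → v ≠ Q.z → v * (s.a * v * s.a⁻¹) ≠ s.a * v * s.a⁻¹ * v := by
    intro v hv v1 vz h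
    have hX := s.x_conj hv
    have fix : s.a * v * s.a⁻¹ = v → False := fun e =>
      (Q.not_fixed hv (mul_inv_eq_iff_eq_mul.1 e)).elim v1 vz
    rcases Q.cent_x hv hX h v1 vz with e | e | e | e
    · exact v1 (conj_eq_one_iff.1 e)
    · refine vz ?_
      have := mul_inv_eq_iff_eq_mul.1 e
      rw [← Q.a_z] at this
      exact mul_left_cancel this
    · exact fix e
    · refine fix (s.a_pow_fix ?_)
      rw [e, show s.a * (v * Q.z) * s.a⁻¹ = s.a * v * s.a⁻¹ * (s.a * Q.z * s.a⁻¹) by group, e, Q.a_z,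
        mul_inv_cancel_right, mul_assoc, Q.hzz, mul_one]
  set p := s.a * x * s.a⁻¹ with hp
  set q := s.a * p * s.a⁻¹ with hq
  have hpX : p ∈ s.X := s.x_conj hx
  have hqX : q ∈ s.X := s.x_conj hpX
  have p1 : p ≠ 1 := fun h => x1 (conj_eq_one_iff.1 h)
  have pz : p ≠ Q.z := fun h => xz (by
    have := mul_inv_eq_iff_eq_mul.1 h
    rw [← Q.a_z] at this
    exact mul_left_cancel this)
  have hxp := hne hx x1 xz
  have hpq := hne hpX p1 pz
  have hxq : x * q ≠ q * x := by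
    intro h
    have q1 : q ≠ 1 := fun e => p1 (conj_eq_one_iff.1 e)
    have qz : q ≠ Q.z := fun e => pz (by
      have := mul_inv_eq_iff_eq_mul.1 e
      rw [← Q.a_z] at this
      exact mul_left_cancel this)
    rcases Q.cent_x hx hqX h x1 xz with e | e | e | e
    · exact q1 e
    · exact qz e
    · have := s.a_pow_fix e
      exact hxp (by rw [show s.a * x * s.a⁻¹ = x from this])
    · obtain ⟨k, hk⟩ := s.ha
      have h2 : s.a ^ 2 * x * (s.a ^ 2)⁻¹ = x * Q.z := by rw [← e, hq, hp, pow_two]; group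
      have h4 : s.a ^ 4 * x = x * s.a ^ 4 := by
        rw [← mul_inv_eq_iff_eq_mul, show s.a ^ 4 * x * (s.a ^ 4)⁻¹ =
          s.a ^ 2 * (s.a ^ 2 * x * (s.a ^ 2)⁻¹) * (s.a ^ 2)⁻¹ by group, h2,
          show s.a ^ 2 * (x * Q.z) * (s.a ^ 2)⁻¹ = s.a ^ 2 * x * (s.a ^ 2)⁻¹ * (s.a ^ 2 * Q.z * (s.a ^ 2)⁻¹) by group,
          h2, ((show Commute s.a Q.z from Q.a_z).pow_left 2).eq, mul_inv_cancel_right, mul_assoc, Q.hzz, mul_one]
      have h5 : Commute ((s.a ^ 4) ^ ((k + 1) * (k + 1))) x := (show Commute (s.a ^ 4) x from h4).pow_left _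
      rw [← pow_mul, show 4 * ((k + 1) * (k + 1)) = (2 * k + 1) * (2 * k + 3) + 1 by ring, pow_succ, pow_mul, ← hk,
        pow_orderOf_eq_one, one_pow, one_mul] at h5
      exact hxp (by rw [show s.a * x * s.a⁻¹ = x by rw [h5.eq, mul_inv_cancel_right]])
  by_cases hxw : x * w = w * x
  · exact ⟨1, one_mem _, by simpa using hx, by simpa using hxw⟩
  by_cases hpw : p * w = w * p
  · exact ⟨s.a, mem_zpowers _, hpX, hpw⟩
  refine ⟨s.a * s.a, mul_mem (mem_zpowers _) (mem_zpowers _), ?_, ?_⟩ <;>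
    rw [show s.a * s.a * x * (s.a * s.a)⁻¹ = q by rw [hq, hp]; group]
  · exact hqX
  · exact Q.third hx hpX hqX hw hxp hxq hpq hxw hpw

theorem coprime_t {K : Subgroup G} (hK : K ≤ s.T) : (Nat.card ↥s.A).Coprime (Nat.card ↥K) := by
  haveI := Fact.mk Nat.prime_two
  obtain ⟨n, hn⟩ := IsPGroup.iff_card.1 (s.hT.to_le hK)
  rw [hn, Ctx.A, Nat.card_zpowers]
  exact (Nat.coprime_two_right.2 s.ha).pow_right n

/-- Elements fixed modulo `N` lift to fixed elements. -/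
theorem lift_fixed {K N : Subgroup G} (hKT : K ≤ s.T) (haK : s.a ∈ normalizer (K : Set G)) (hNK : N ≤ K)
    (hKN : K ≤ normalizer (N : Set G)) (haN : s.a ∈ normalizer (N : Set G)) {t : G} (ht : t ∈ K)
    (h : s.a * t * s.a⁻¹ * t⁻¹ ∈ N) : ∃ d ∈ K, s.a * d = d * s.a ∧ t⁻¹ * d ∈ N := by
  have hpow : ∀ n : ℕ, s.a ^ n * t * (s.a ^ n)⁻¹ * t⁻¹ ∈ N := by
    intro n
    induction n with
    | zero => simp
    | succ n ih =>
      have := mul_mem ((mem_normalizer_iff.1 haN _).1 ih) h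
      rw [pow_succ']
      convert this using 1
      group
  obtain ⟨d, hd, hd'⟩ := CfsgLib.coprime_fixed_quotient (zpowers_le.2 haK) (Q.coprime_t hKT) (Or.inl s.solv_a)
    hNK hKN (zpowers_le.2 haN) ht fun b hb => by
      obtain ⟨n, rfl⟩ : b ∈ Submonoid.powers s.a := mem_powers_iff_mem_zpowers.2 hb
      exact hpow n
  exact ⟨d, hd.1, hd.2 _ (mem_zpowers _), hd'⟩

theorem a_norm_z : s.a ∈ normalizer (s.Z : Set G) := mem_normalizer_iff.2 fun ζ => ⟨fun h => by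
  rwa [Q.a_fix_z h, mul_inv_cancel_right], fun h => by
  have e := Q.a_fix_z h
  have : ζ = s.a * ζ * s.a⁻¹ := mul_left_cancel (a := s.a) (by
    conv_rhs => rw [e, inv_mul_cancel_right])
  rwa [this]⟩

theorem a_norm_t0 : s.a ∈ normalizer (s.T0 : Set G) := by
  haveI : Finite (s.T0 : Set G) := Finite.of_injective (fun x : (s.T0 : Set G) => (x : G)) Subtype.val_injective
  refine mem_normalizer_fintype fun t ht => ⟨(mem_normalizer_iff.1 s.haT t).1 ht.1, fun ζ hζ => ?_⟩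
  have e := Q.a_fix_z hζ
  show ζ * (s.a * t * s.a⁻¹) = s.a * t * s.a⁻¹ * ζ
  have e' : s.a⁻¹ * ζ = ζ * s.a⁻¹ := (show Commute s.a ζ from e).inv_left.eq
  calc ζ * (s.a * t * s.a⁻¹) = (ζ * s.a) * t * s.a⁻¹ := by group
    _ = s.a * (ζ * t) * s.a⁻¹ := by rw [← e]; group
    _ = s.a * t * (ζ * s.a⁻¹) := by rw [← s.t0_z ht hζ]; group
    _ = _ := by rw [← e']; group

/-- A fixed element of `T0` lies in `C` as soon as the fixed elements of `C` are central. -/
theorem fixed_t0 (hfix : ∀ c ∈ s.C, s.a * c = c * s.a → c ∈ s.Z) {d : G} (hd : d ∈ s.T0)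
    (hda : s.a * d = d * s.a) : d ∈ s.Z := by
  refine s.mem_z_of_cent hd.1 fun c hc => ?_
  obtain ⟨x, hx, e, he, hea, rfl⟩ := s.decomp hc
  calc d * (x * e) = (d * x) * e := by group
    _ = x * (d * e) := by rw [Q.fixed_cent_t hd.1 hda hx]; group
    _ = x * e * d := by rw [s.t0_z hd (hfix e he hea)]; group

/-- A proper overgroup of `C` in `T0` has index at least four. -/
theorem four_le_c_t0 (hfix : ∀ c ∈ s.C, s.a * c = c * s.a → c ∈ s.Z) (hne : ¬ s.T0 ≤ s.C) :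
    4 ≤ s.C.relIndex s.T0 := by
  haveI := Fact.mk Nat.prime_two
  have hn : s.T0 ≤ normalizer (s.C : Set G) := s.t0_normal_between s.z_le_c s.c_le_t0
  obtain ⟨t, ht, htC⟩ := SetLike.not_le_iff_exists.1 hne
  set r := s.a * t * s.a⁻¹ with hr
  have hrT : r ∈ s.T0 := (mem_normalizer_iff.1 Q.a_norm_t0 t).1 ht
  have hrC : r ∉ s.C := fun h => htC ((mem_normalizer_iff.1 s.haC t).2 h)
  have htr : r * t⁻¹ ∉ s.C := fun h => by
    obtain ⟨d, hd, hda, hdN⟩ := Q.lift_fixed s.t0_le Q.a_norm_t0 s.c_le_t0 hn s.haC ht h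
    refine htC ?_
    have := mul_mem (s.z_le_c (Q.fixed_t0 hfix hd hda)) (inv_mem hdN)
    simpa [mul_assoc] using mul_mem (s.z_le_c (Q.fixed_t0 hfix hd hda)) (inv_mem hdN)
  exact four_le_relIndex s.hT s.t0_le hrT ht hrC htC fun h => htr (by
    have := (mem_normalizer_iff.1 (hn hrT) _).1 (inv_mem h)
    convert this using 1
    group)

end Quat

end CfsgLib.NormalRankTwo
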