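import Cfsg.Agent.Lib.NormalRankTwo.QuatSmall

/-!
# A quaternion moved part with centre of exponent at least four: the shape of `T`
-/

set_option autoImplicit false
set_option linter.unusedSectionVars false

namespace CfsgLib.NormalRankTwo

open Subgroup

variable {G : Type*} [Group G] [Finite G] {s : Ctx G}

/-- An element of order four of the centre. -/
structure Root (Q : Quat s) where
  y : G
  hy : y ∈ s.Z
  hu : y * y ∈ s.U
  hne : y * y ≠ 1

namespace Quat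

/-- A centre of exponent above two has an element of order four. -/
theorem exists_root (Q : Quat s) (h : ¬ ∀ η ∈ s.Z, η * η = 1) : Nonempty (Root Q) := by
  by_contra hno
  refine h fun η hη => ?_
  obtain ⟨n, hn⟩ := (s.hT.to_le s.z_le_t) ⟨η, hη⟩
  have key : ∀ m : ℕ, ∀ w ∈ s.Z, w ^ 2 ^ m = 1 → w * w = 1 := by
    intro m
    induction m with
    | zero => intro w _ hw; rw [pow_zero, pow_one] at hw; rw [hw, one_mul]
    | succ m ih =>
      intro w hw hwm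
      have h2 := ih _ (mul_mem hw hw) (by rw [← pow_two, ← pow_mul, ← pow_succ']; exact hwm)
      by_contra hne
      exact hno ⟨⟨w, hw, ⟨mul_mem hw hw, h2⟩, hne⟩⟩
  exact key n η hη (congrArg Subtype.val hn)

end Quat

namespace Root

variable {Q : Quat s} (K : Root Q)
include K

/-- The involution with a square root in the centre. -/
def w : G := K.y * K.y

theorem w_u : K.w ∈ s.U := K.hu
theorem w1 : K.w ≠ 1 := K.hne
theorem ww : K.w * K.w = 1 := K.hu.2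
theorem y_c : K.y ∈ s.C := s.z_le_c K.hy

theorem u_eq {u : G} (hu : u ∈ s.U) : u = 1 ∨ u = Q.z ∨ u = K.w ∨ u = Q.z * K.w := by
  by_cases hw : K.w = Q.z
  · by_cases h1 : u = 1
    · exact Or.inl h1
    by_cases h2 : u = Q.z
    · exact Or.inr (Or.inl h2)
    exact (Q.no_root K.y_c (Q.a_fix_z K.hy) hw (s.z_le_c hu.1) (Q.a_fix_z hu.1) hu.2 (s.z_ab _ K.hy _ hu.1)
      h1 h2).elim
  · by_contra h
    push Not at h
    have e1 : Q.z * K.w ≠ 1 := fun e => hw (mul_left_cancel (e.trans Q.hzz.symm))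
    have hinj := five_injective Q.hz1 K.w1 hw e1 h.1 h.2.1 h.2.2.1 h.2.2.2
    have := five_le_card hinj (A := s.U) fun i => by
      fin_cases i
      exacts [one_mem _, Q.z_u, K.w_u, mul_mem Q.z_u K.w_u, hu]
    have := s.card_u_le
    omega

theorem four_of_ne (hw : K.w ≠ Q.z) : 4 ≤ Nat.card ↥s.U := by
  have e1 : Q.z * K.w ≠ 1 := fun e => hw (mul_left_cancel (e.trans Q.hzz.symm))
  have := Nat.card_le_card_of_injective
    (![(1 : ↥s.U), ⟨Q.z, Q.z_u⟩, ⟨K.w, K.w_u⟩, ⟨Q.z, Q.z_u⟩ * ⟨K.w, K.w_u⟩] : Fin 4 → ↥s.U) (by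
      intro p q hpq
      have := Q.hz1
      have := K.w1
      fin_cases p <;> fin_cases q <;> simp_all [Subtype.ext_iff, eq_comm])
  simpa using this

/-- A root of `z` among the fixed elements commutes with no second involution of the centre. -/
theorem no_z (hw : K.w ≠ Q.z) {d : G} (hd : d ∈ s.C) (hda : s.a * d = d * s.a) : d * d ≠ Q.z := fun h =>
  Q.no_root hd hda h (s.z_le_c K.w_u.1) (Q.a_fix_z K.w_u.1) K.ww (s.z_comm K.w_u.1 hd).symm K.w1 hw

/-- `w` is the only involution with a square root in the centre. -/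
theorem sq_unique {η : G} (hη : η ∈ s.Z) (h : η * η ∈ s.U) : η * η = 1 ∨ η * η = K.w := by
  rcases K.u_eq h with e | e | e | e
  · exact Or.inl e
  · by_cases hw : K.w = Q.z
    · exact Or.inr (e.trans hw.symm)
    · exact absurd e (K.no_z hw (s.z_le_c hη) (Q.a_fix_z hη))
  · exact Or.inr e
  · by_cases hw : K.w = Q.z
    · exact Or.inl (by rw [e, hw, Q.hzz])
    · refine absurd ?_ (K.no_z hw (mul_mem (s.z_le_c hη) K.y_c) (Q.a_fix_z (mul_mem hη K.hy)))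
      rw [show η * K.y * (η * K.y) = η * (K.y * η) * K.y by group, s.z_ab _ K.hy _ hη,
        show η * (η * K.y) * K.y = η * η * (K.y * K.y) by group, e, mul_assoc, show K.w * (K.y * K.y) = 1 from K.hu.2, mul_one]

/-- Fixed elements of `C` are central in it. -/
theorem fixed_z {c : G} (hc : c ∈ s.C) (hca : s.a * c = c * s.a) : c ∈ s.Z := by
  have hroot : ∀ {d : G}, d ∈ s.C → s.a * d = d * s.a → d ∉ s.Z → d * d ∉ Q.R := by
    intro d hd hda hdZ hR
    have hsub : ∀ {θ : G}, θ ∈ s.Z → d * θ⁻¹ * (d * θ⁻¹) = d * d * (θ * θ)⁻¹ := fun {θ} hθ => by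
      rw [show d * θ⁻¹ * (d * θ⁻¹) = d * (θ⁻¹ * d) * θ⁻¹ by group, s.z_comm (inv_mem hθ) hd]; group
    have hfix : ∀ {θ : G}, θ ∈ s.Z → s.a * (d * θ⁻¹) = d * θ⁻¹ * s.a := fun {θ} hθ =>
      ((show Commute s.a d from hda).mul_right (show Commute s.a θ from Q.a_fix_z hθ).inv_right).eq
    have hinv : ∀ {θ : G}, θ ∈ s.Z → d * d = θ * θ → False := by
      intro θ hθ e
      have hv : d * θ⁻¹ * (d * θ⁻¹) = 1 := by rw [hsub hθ, e, mul_inv_cancel]
      have hvC : d * θ⁻¹ ∈ s.C := mul_mem hd (s.z_le_c (inv_mem hθ))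
      have hvZ : d * θ⁻¹ ∉ s.Z := fun h => hdZ (by simpa using mul_mem h hθ)
      by_cases hw : K.w = Q.z
      · exact Q.no_root K.y_c (Q.a_fix_z K.hy) hw hvC (hfix hθ) hv (s.z_comm K.hy hvC)
          (fun h => hvZ (h ▸ one_mem _)) (fun h => hvZ (h ▸ Q.z_z))
      · exact hvZ (s.mem_u_of_four (K.four_of_ne hw) hvC hv).1
    obtain ⟨η, hη, e | e⟩ := hR
    · exact hinv hη e
    · by_cases hw : K.w = Q.z
      · refine hinv (mul_mem K.hy hη) ?_
        rw [show K.y * η * (K.y * η) = K.y * (η * K.y) * η by group, s.z_ab _ hη _ K.hy,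
          show K.y * (K.y * η) * η = K.y * K.y * (η * η) by group, e, ← hw, w]
      · refine K.no_z hw (mul_mem hd (s.z_le_c (inv_mem hη))) (hfix hη) ?_
        rw [hsub hη, e, mul_inv_cancel_right]
  refine s.mem_z_of_cent (s.hCT hc) fun e he => ?_
  obtain ⟨x, hx, d, hd, hda, rfl⟩ := s.decomp he
  rw [← mul_assoc, Q.fixed_cent hc hca hx, mul_assoc, mul_assoc x d c]
  congr 1
  by_contra hne
  have hcZ : c ∉ s.Z := fun h => hne (s.z_comm h hd)
  have hdZ : d ∉ s.Z := fun h => hne (s.z_comm h hc).symm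
  have hcdZ : c * d ∉ s.Z := fun h => hne (by
    have := s.z_comm h hc
    rw [mul_assoc] at this
    exact (mul_left_cancel this).symm)
  refine hroot (mul_mem hc hd) ((show Commute s.a c from hca).mul_right hda).eq hcdZ ?_
  have hu := s.comm_u (s.c_le_t0 hd) hc
  have hkR : d * c * d⁻¹ * c⁻¹ ∈ Q.R := by
    rcases K.u_eq hu with h | h | h | h <;> rw [h]
    · exact one_mem _
    · exact ⟨1, one_mem _, Or.inr (by simp)⟩
    · exact ⟨K.y, K.hy, Or.inl rfl⟩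
    · exact ⟨K.y, K.hy, Or.inr rfl⟩
  have e : c * d * (c * d) = (d * c * d⁻¹ * c⁻¹) * ((c * c) * (d * d)) := by
    calc c * d * (c * d) = c * ((d * c * d⁻¹ * c⁻¹) * c) * (d * d) := by group
      _ = (d * c * d⁻¹ * c⁻¹) * ((c * c) * (d * d)) := by
        rw [← mul_assoc c, ← s.z_comm hu.1 hc]; group
  rw [e]
  refine mul_mem hkR ?_
  have h2 : (Q.R.subgroupOf s.Z).index = 2 := by
    refine le_antisymm Q.relIndex_r ?_
    by_contra h
    have h0 : (Q.R.subgroupOf s.Z).index ≠ 0 := index_ne_zero_of_finite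
    have h1 : (Q.R.subgroupOf s.Z).index = 1 := by omega
    rw [index_eq_one] at h1
    exact hroot hc hca hcZ (show (⟨c * c, s.sq_z hc⟩ : ↥s.Z) ∈ Q.R.subgroupOf s.Z by rw [h1]; trivial)
  exact (mul_mem_iff_of_index_two h2 (a := ⟨c * c, s.sq_z hc⟩) (b := ⟨d * d, s.sq_z hd⟩)).2
    (iff_of_false (hroot hc hca hcZ) (hroot hd hda hdZ))

/-- Every element of `C` is a product from `X` and the centre. -/
theorem c_dec {c : G} (hc : c ∈ s.C) : ∃ x ∈ s.X, ∃ ζ ∈ s.Z, c = x * ζ := by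
  obtain ⟨x, hx, d, hd, hda, rfl⟩ := s.decomp hc
  exact ⟨x, hx, d, K.fixed_z hd hda, rfl⟩

/-- An element of largest order in the centre is no square up to `z`. -/
theorem exists_top : ∃ g ∈ s.Z, g ∉ Q.R ∧ 4 ∣ orderOf g ∧
    ∀ η ∈ s.Z, orderOf η ≤ orderOf g := by
  classical
  haveI := Fact.mk Nat.prime_two
  obtain ⟨⟨g, hg⟩, hmax⟩ := Finite.exists_max fun η : ↥s.Z => orderOf (η : G)
  have hy4 : orderOf K.y = 4 := by
    have := orderOf_eq_prime_pow (p := 2) (n := 1) (x := K.y) (by rw [pow_one, pow_two]; exact K.hne)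
      (by rw [show 2 ^ (1 + 1) = 2 + 2 from rfl, pow_add, pow_two]; exact K.ww)
    simpa using this
  obtain ⟨n, hn⟩ := (s.hT.to_le s.z_le_t) ⟨g, hg⟩
  obtain ⟨k, -, hk⟩ := (Nat.dvd_prime_pow Nat.prime_two).1
    (orderOf_dvd_of_pow_eq_one (show g ^ 2 ^ n = 1 from congrArg Subtype.val hn))
  have hk2 : 4 ≤ orderOf g := hy4 ▸ hmax ⟨K.y, K.hy⟩
  obtain ⟨j, rfl⟩ : ∃ j, k = j + 2 := ⟨k - 2, by
    rcases k with _ | _ | k <;> simp_all⟩
  refine ⟨g, hg, ?_, ⟨2 ^ j, by rw [hk, pow_add]; ring⟩, fun η hη => hmax ⟨η, hη⟩⟩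
  rintro ⟨η, hη, e⟩
  have hord : orderOf (η * η) = 2 ^ (j + 2) := by
    rcases e with e | e
    · rw [← e, hk]
    · have hηη : η * η = Q.z * g := by rw [e, ← mul_assoc, Q.hzz, one_mul]
      rw [hηη]
      refine orderOf_eq_prime_pow ?_ ?_
      · rw [(show Commute Q.z g from Q.zc (s.z_le_c hg)).mul_pow, pow_succ' 2 j, pow_mul Q.z, pow_two Q.z, Q.hzz,
          one_pow, one_mul, ← pow_succ']
        intro h
        have := orderOf_dvd_of_pow_eq_one h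
        rw [hk] at this
        have := Nat.le_of_dvd (by positivity) this
        rw [pow_succ' 2 (j + 1)] at this
        have : 0 < 2 ^ (j + 1) := by positivity
        omega
      · rw [(show Commute Q.z g from Q.zc (s.z_le_c hg)).mul_pow, pow_succ' 2 (j + 1), pow_mul Q.z, pow_two Q.z,
          Q.hzz, one_pow, one_mul, ← pow_succ', show j + 1 + 1 = j + 2 from rfl, ← hk, pow_orderOf_eq_one]
  have hη4 := hmax ⟨η, hη⟩
  simp only [hk] at hη4
  rw [← pow_two, orderOf_pow] at hord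
  have hg1 : 0 < orderOf η := orderOf_pos η
  rcases Nat.even_or_odd (orderOf η) with ⟨m, hm⟩ | hodd
  · have : (orderOf η).gcd 2 = 2 := Nat.gcd_eq_right ⟨m, by omega⟩
    rw [this] at hord
    have : 0 < 2 ^ (j + 2) := by positivity
    omega
  · have : (orderOf η).gcd 2 = 1 := Nat.coprime_two_right.2 hodd
    rw [this, Nat.div_one] at hord
    rw [hord, pow_succ] at hodd
    exact Nat.not_odd_iff_even.2 ⟨2 ^ (j + 1), by ring⟩ hodd

/-- The centraliser of the centre in `T` is the critical subgroup. -/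
theorem t0_eq {t : G} (ht : t ∈ s.T0) : t ∈ s.C := by
  by_cases hw : K.w = Q.z
  · have hc : ∀ {x : G}, x ∈ s.X → t * x * t⁻¹ * x⁻¹ = 1 ∨ t * x * t⁻¹ * x⁻¹ = Q.z := fun {x} hx => by
      rcases K.u_eq (s.comm_u ht (s.x_le_c hx)) with h | h | h | h
      · exact Or.inl h
      · exact Or.inr h
      · exact Or.inr (h.trans hw)
      · exact Or.inl (by rw [h, hw, Q.hzz])
    obtain ⟨p, hp, hpi, hpj⟩ : ∃ p ∈ s.X, p * Q.i * p⁻¹ * Q.i⁻¹ = t * Q.i * t⁻¹ * Q.i⁻¹ ∧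
        p * Q.j * p⁻¹ * Q.j⁻¹ = t * Q.j * t⁻¹ * Q.j⁻¹ := by
      rcases hc Q.hi with h1 | h1 <;> rcases hc Q.hj with h2 | h2 <;> simp only [h1, h2]
      · exact ⟨1, one_mem _, by group, by group⟩
      · exact ⟨Q.i, Q.hi, by group, Q.hij⟩
      · exact ⟨Q.j, Q.hj, Q.ji, by group⟩
      · refine ⟨Q.i * Q.j, mul_mem Q.hi Q.hj, ?_, ?_⟩
        · calc Q.i * Q.j * Q.i * (Q.i * Q.j)⁻¹ * Q.i⁻¹
              = Q.i * (Q.j * Q.i * Q.j⁻¹ * Q.i⁻¹) * Q.i⁻¹ := by group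
            _ = Q.z := by rw [Q.ji, ← Q.zc Q.i_c, mul_inv_cancel_right]
        · calc Q.i * Q.j * Q.j * (Q.i * Q.j)⁻¹ * Q.j⁻¹ = Q.i * Q.j * Q.i⁻¹ * Q.j⁻¹ := by group
            _ = Q.z := Q.hij
    have hcomm : ∀ {q : G}, q ∈ s.X → p * q * p⁻¹ * q⁻¹ = t * q * t⁻¹ * q⁻¹ → p⁻¹ * t * q = q * (p⁻¹ * t) :=
      fun {q} _ h => by
        have h' : t * q * t⁻¹ = p * q * p⁻¹ := (mul_right_cancel h).symm
        calc p⁻¹ * t * q = p⁻¹ * (t * q * t⁻¹) * t := by group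
          _ = q * (p⁻¹ * t) := by rw [h']; group
    have hd : p⁻¹ * t ∈ s.Z := by
      refine s.mem_z_of_cent (mul_mem (inv_mem (s.hCT (s.x_le_c hp))) ht.1) fun c hc' => ?_
      obtain ⟨x, hx, ζ, hζ, rfl⟩ := K.c_dec hc'
      have hcx : p⁻¹ * t * x = x * (p⁻¹ * t) := by
        have hle : s.X ≤ centralizer ({p⁻¹ * t} : Set G) := fun q hq => by
          rw [mem_centralizer_singleton_iff]
          have h1 := hcomm Q.hi hpi
          have h2 := hcomm Q.hj hpj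
          have hz : Commute (p⁻¹ * t) Q.z := by
            rw [← Q.hii]; exact Commute.mul_right h1 h1
          rcases Q.hall q hq with e | e | e | e | e | e | e | e <;> subst e
          exacts [(Commute.one_right _).eq.symm, hz.eq.symm, h1.symm, ((show Commute _ _ from h1).mul_right hz).eq.symm,
            h2.symm, ((show Commute _ _ from h2).mul_right hz).eq.symm,
            ((show Commute _ _ from h1).mul_right h2).eq.symm,
            (((show Commute _ _ from h1).mul_right h2).mul_right hz).eq.symm]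
        exact (mem_centralizer_singleton_iff.1 (hle hx)).symm
      have hcz : p⁻¹ * t * ζ = ζ * (p⁻¹ * t) :=
        ((show Commute p ζ from (s.z_comm hζ (s.x_le_c hp)).symm).inv_left.mul_left
          (show Commute t ζ from s.t0_z ht hζ)).eq
      exact ((show Commute _ _ from hcx).mul_right hcz).eq
    simpa using mul_mem (s.x_le_c hp) (s.z_le_c hd)
  · by_contra htC
    obtain ⟨g, hg, hgR, -, -⟩ := K.exists_top
    have hRT : Q.R ≤ s.T0 := Q.r_le.trans s.z_le_t0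
    have hRn : s.T0 ≤ normalizer (Q.R : Set G) := le_normalizer_of_conj fun r hr q hq => by
      rwa [s.t0_z hr (Q.r_le hq), mul_inv_cancel_right]
    -- commutators of `T0` are involutions of the centre, so squares modulo `R` are multiplicative
    have hUR : s.U ≤ Q.R := fun u hu => by
      rcases K.u_eq hu with h | h | h | h <;> rw [h]
      · exact one_mem _
      · exact ⟨1, one_mem _, Or.inr (by simp)⟩
      · exact ⟨K.y, K.hy, Or.inl rfl⟩
      · exact ⟨K.y, K.hy, Or.inr rfl⟩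
    have hk : ∀ {r q : G}, r ∈ s.T0 → q ∈ s.T0 → r * q * r⁻¹ * q⁻¹ ∈ Q.R := by
      intro r q hr hq
      have hz := s.comm_t0 hr hq
      refine hUR ⟨hz, ?_⟩
      set k := r * q * r⁻¹ * q⁻¹ with hk
      have h2 : r * r * q = q * (r * r) := (s.t0_z hq (s.sq_t0 hr)).symm
      calc k * k = r * (k * q) * r⁻¹ * q⁻¹ := by
            rw [show r * (k * q) * r⁻¹ * q⁻¹ = r * k * r⁻¹ * k by rw [hk]; group, s.t0_z hr hz,
              mul_inv_cancel_right]
        _ = r * r * q * (r * r)⁻¹ * q⁻¹ := by rw [hk]; group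
        _ = 1 := by rw [h2]; group
    let Kc : Subgroup G :=
      { carrier := {r | r ∈ s.T0 ∧ r * r ∈ Q.R}
        one_mem' := ⟨one_mem _, by rw [one_mul]; exact one_mem _⟩
        mul_mem' := fun {r q} hr hq => ⟨mul_mem hr.1 hq.1, by
          have e : r * q * (r * q) = (r * r) * (q * q) * (r⁻¹ * q * r * q⁻¹) := by
            calc r * q * (r * q) = (r * r) * ((r⁻¹ * q * r * q⁻¹) * (q * q)) := by group
              _ = (r * r) * ((q * q) * (r⁻¹ * q * r * q⁻¹)) := by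
                rw [s.t0_z (mul_mem (mul_mem (mul_mem (inv_mem hr.1) hq.1) hr.1) (inv_mem hq.1)) (s.sq_t0 hq.1)]
              _ = _ := by group
          rw [e]
          refine mul_mem (mul_mem hr.2 hq.2) ?_
          simpa using hk (inv_mem hr.1) hq.1⟩
        inv_mem' := fun {r} hr => ⟨inv_mem hr.1, by
          rw [show r⁻¹ * r⁻¹ = (r * r)⁻¹ from (mul_inv_rev r r).symm]; exact inv_mem hr.2⟩ }
    have hcop := Q.coprime_t s.t0_le
    have hA : s.A ≤ normalizer (s.T0 : Set G) := zpowers_le.2 Q.a_norm_t0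
    have hle : ⁅s.T0, s.A⁆ ≤ Kc := by
      rw [commutator_le]
      intro r hr b hb
      have hb0 : b * r⁻¹ * b⁻¹ ∈ s.T0 := (mem_normalizer_iff.1 (hA hb) _).1 (inv_mem hr)
      rw [commutatorElement_def, show r * b * r⁻¹ * b⁻¹ = r * (b * r⁻¹ * b⁻¹) by group]
      refine ⟨mul_mem hr hb0, ?_⟩
      have hbz : b * (r * r) = r * r * b := by
        obtain ⟨n, rfl⟩ := hb
        exact ((show Commute s.a (r * r) from Q.a_fix_z (s.sq_t0 hr)).zpow_left n).eq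
      set q := b * r⁻¹ * b⁻¹ with hq
      have hqq : q * q = (r * r)⁻¹ := by
        calc q * q = b * (r * r)⁻¹ * b⁻¹ := by rw [hq]; group
          _ = (r * r)⁻¹ := by
            rw [(show Commute b (r * r) from hbz).inv_right.eq, mul_inv_cancel_right]
      have hkm : r⁻¹ * q * r * q⁻¹ ∈ Q.R := by simpa using hk (inv_mem hr) hb0
      show r * q * (r * q) ∈ Q.R
      rw [show r * q * (r * q) = (r * r) * ((r⁻¹ * q * r * q⁻¹) * (q * q)) by group, hqq,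
        s.z_ab _ (Q.r_le hkm) _ (inv_mem (s.sq_t0 hr)), mul_inv_cancel_left]
      exact hkm
    have hsq : ∀ r ∈ s.T0, r * r ∈ Q.R := by
      intro r hr
      obtain ⟨q, hq, d, hd, rfl⟩ := CfsgLib.coprime_decomp hA hcop (Or.inl s.solv_a) hr
      have hdZ := Q.fixed_t0 (fun c hc h => K.fixed_z hc h) hd.1 (hd.2 _ (mem_zpowers _))
      refine (Kc.mul_mem (hle hq) ⟨hd.1, ?_⟩).2
      exact ⟨d, hdZ, Or.inl rfl⟩
    have h16 := s.relIndex_le_sixteen s.t0_le hRT hRn hsq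
    rw [← relIndex_mul_relIndex Q.R s.Z s.T0 Q.r_le s.z_le_t0,
      ← relIndex_mul_relIndex s.Z s.C s.T0 s.z_le_c s.c_le_t0] at h16
    have hR2 : 2 ≤ Q.R.relIndex s.Z := by
      by_contra h
      have h0 : (Q.R.subgroupOf s.Z).index ≠ 0 := index_ne_zero_of_finite
      have h1 : Q.R.relIndex s.Z = 1 := by rw [relIndex] at h ⊢; omega
      exact hgR (relIndex_eq_one.1 h1 hg)
    have := Nat.mul_le_mul hR2 (Nat.mul_le_mul (Q.four_le_z s.hCT Q.i_c Q.j_c)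
      (Q.four_le_c_t0 (fun c hc h => K.fixed_z hc h) fun h => htC (h ht)))
    omega

/-- `T` is the product of `X` and its fixed elements. -/
theorem t_dec {t : G} (ht : t ∈ s.T) : ∃ x ∈ s.X, ∃ l ∈ s.T, s.a * l = l * s.a ∧ t = x * l := by
  obtain ⟨q, hq, l, hl, rfl⟩ := CfsgLib.coprime_decomp (zpowers_le.2 s.haT) (Q.coprime_t le_rfl)
    (Or.inl s.solv_a) ht
  have hle : ⁅s.T, s.A⁆ ≤ s.C := by
    rw [commutator_le]
    intro r hr b hb
    rw [commutatorElement_def]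
    refine K.t0_eq ⟨?_, fun ζ hζ => ?_⟩
    · rw [show r * b * r⁻¹ * b⁻¹ = r * (b * r⁻¹ * b⁻¹) by group]
      exact mul_mem hr ((mem_normalizer_iff.1 (zpowers_le.2 s.haT hb) _).1 (inv_mem hr))
    have hb' : ∀ {η : G}, η ∈ s.Z → Commute b η := fun {η} hη => by
      obtain ⟨n, rfl⟩ := hb
      exact (show Commute s.a η from Q.a_fix_z hη).zpow_left n
    have h2 : r⁻¹ * ζ * r ∈ s.Z := by
      have := s.conj_z (inv_mem hr) hζ; rwa [inv_inv] at this
    have : r * b * r⁻¹ * b⁻¹ * ζ * (r * b * r⁻¹ * b⁻¹)⁻¹ = ζ := by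
      calc r * b * r⁻¹ * b⁻¹ * ζ * (r * b * r⁻¹ * b⁻¹)⁻¹ = r * b * r⁻¹ * (b⁻¹ * ζ * b) * r * b⁻¹ * r⁻¹ := by group
        _ = r * (b * (r⁻¹ * ζ * r) * b⁻¹) * r⁻¹ := by rw [mul_assoc b⁻¹, ← (hb' hζ).eq, inv_mul_cancel_left]; group
        _ = ζ := by rw [(hb' h2).eq, mul_inv_cancel_right]; group
    exact (mul_inv_eq_iff_eq_mul.1 this).symm
  obtain ⟨x, hx, ζ, hζ, rfl⟩ := K.c_dec (hle hq)
  refine ⟨x, hx, ζ * l, mul_mem (s.z_le_t hζ) hl.1, ?_, mul_assoc x ζ l⟩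
  exact ((show Commute s.a ζ from Q.a_fix_z hζ).mul_right (hl.2 _ (mem_zpowers _))).eq

theorem t_z {t : G} (ht : t ∈ s.T) : t * Q.z = Q.z * t := by
  obtain ⟨x, hx, l, hl, hla, rfl⟩ := K.t_dec ht
  rw [mul_assoc, Q.fixed_cent_t hl hla Q.hz, ← mul_assoc, ← Q.zc (s.x_le_c hx), mul_assoc]

theorem t_w {t : G} (ht : t ∈ s.T) : t * K.w = K.w * t := by
  have hz := s.conj_z ht K.hy
  have e : t * K.y * t⁻¹ * (t * K.y * t⁻¹) = t * K.w * t⁻¹ := by simp only [w]; group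
  have hU : t * K.y * t⁻¹ * (t * K.y * t⁻¹) ∈ s.U := by rw [e]; exact Q.u_t ht K.w_u
  rcases K.sq_unique hz hU with h | h <;> rw [e] at h
  · exact absurd (conj_eq_one_iff.1 h) K.w1
  · exact mul_inv_eq_iff_eq_mul.1 h

theorem t_u {t : G} (ht : t ∈ s.T) {u : G} (hu : u ∈ s.U) : t * u = u * t := by
  rcases K.u_eq hu with rfl | rfl | rfl | rfl
  · rw [one_mul, mul_one]
  · exact K.t_z ht
  · exact K.t_w ht
  · exact (Commute.mul_right (K.t_z ht) (K.t_w ht)).eq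

/-- The centre is cyclic up to its involutions. -/
theorem z_gen {g : G} (hg : g ∈ s.Z) (hgR : g ∉ Q.R) {η : G} (hη : η ∈ s.Z) :
    ∃ n : ℕ, ∃ u ∈ s.U, η = g ^ n * u := by
  have h2 : (Q.R.subgroupOf s.Z).index = 2 := by
    refine le_antisymm Q.relIndex_r ?_
    by_contra h
    have h0 : (Q.R.subgroupOf s.Z).index ≠ 0 := index_ne_zero_of_finite
    have h1 : (Q.R.subgroupOf s.Z).index = 1 := by omega
    rw [index_eq_one] at h1
    exact hgR (show (⟨g, hg⟩ : ↥s.Z) ∈ Q.R.subgroupOf s.Z by rw [h1]; trivial)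
  have step : ∀ θ ∈ s.Z, ∃ n : ℕ, ∃ u ∈ s.U, ∃ φ ∈ s.Z, θ = g ^ n * u * (φ * φ) := by
    intro θ hθ
    by_cases hR : θ ∈ Q.R
    · obtain ⟨φ, hφ, e | e⟩ := hR
      · exact ⟨0, 1, one_mem _, φ, hφ, by rw [e]; simp⟩
      · exact ⟨0, Q.z, Q.z_u, φ, hφ, by rw [e]; simp⟩
    · have hR2 : g⁻¹ * θ ∈ Q.R := (mul_mem_iff_of_index_two h2 (a := ⟨g⁻¹, inv_mem hg⟩) (b := ⟨θ, hθ⟩)).2
        (iff_of_false (fun h => hgR (inv_inv g ▸ inv_mem (show g⁻¹ ∈ Q.R from h))) hR)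
      obtain ⟨φ, hφ, e | e⟩ := hR2
      · exact ⟨1, 1, one_mem _, φ, hφ, by rw [pow_one, mul_one, ← e, mul_inv_cancel_left]⟩
      · exact ⟨1, Q.z, Q.z_u, φ, hφ, by rw [pow_one, mul_assoc, ← e, mul_inv_cancel_left]⟩
  have key : ∀ k : ℕ, ∀ θ ∈ s.Z, ∃ n : ℕ, ∃ u ∈ s.U, ∃ φ ∈ s.Z, θ = g ^ n * u * φ ^ 2 ^ k := by
    intro k
    induction k with
    | zero => exact fun θ hθ => ⟨0, 1, one_mem _, θ, hθ, by simp⟩
    | succ k ih =>
      intro θ hθ
      obtain ⟨n, u, hu, φ, hφ, rfl⟩ := ih θ hθ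
      obtain ⟨m, v, hv, ψ, hψ, rfl⟩ := step φ hφ
      refine ⟨n + m * 2 ^ k, u * v ^ 2 ^ k, mul_mem hu (pow_mem hv _), ψ, hψ, ?_⟩
      have c1 : Commute (g ^ m * v) (ψ * ψ) := s.z_ab _ (mul_mem (pow_mem hg _) hv.1) _ (mul_mem hψ hψ)
      have c2 : Commute (g ^ m) v := s.z_ab _ (pow_mem hg _) _ hv.1
      have c3 : u * g ^ (m * 2 ^ k) = g ^ (m * 2 ^ k) * u := s.z_ab _ hu.1 _ (pow_mem hg _)
      rw [c1.mul_pow, c2.mul_pow, ← pow_two ψ, ← pow_mul, ← pow_mul, ← pow_succ']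
      calc g ^ n * u * (g ^ (m * 2 ^ k) * v ^ 2 ^ k * ψ ^ 2 ^ (k + 1))
          = g ^ n * (u * g ^ (m * 2 ^ k)) * v ^ 2 ^ k * ψ ^ 2 ^ (k + 1) := by group
        _ = g ^ (n + m * 2 ^ k) * (u * v ^ 2 ^ k) * ψ ^ 2 ^ (k + 1) := by rw [c3, pow_add]; group
  haveI := Fact.mk Nat.prime_two
  obtain ⟨N, hN⟩ := IsPGroup.iff_card.1 (s.hT.to_le s.z_le_t)
  obtain ⟨n, u, hu, φ, hφ, e⟩ := key N η hη
  refine ⟨n, u, hu, ?_⟩
  rw [e, show φ ^ 2 ^ N = 1 by
    rw [← hN]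
    exact congrArg Subtype.val (pow_card_eq_one' (x := (⟨φ, hφ⟩ : ↥s.Z))), mul_one]

/-- All commutators of `T` lie in the centre of `C`. -/
theorem comm_t {t r : G} (ht : t ∈ s.T) (hr : r ∈ s.T) : t * r * t⁻¹ * r⁻¹ ∈ s.Z := by
  obtain ⟨x, hx, l, hl, hla, rfl⟩ := K.t_dec ht
  obtain ⟨q, hq, m, hm, hma, rfl⟩ := K.t_dec hr
  obtain ⟨g, hg, hgR, hg4, -⟩ := K.exists_top
  have act : ∀ {l : G}, l ∈ s.T → ∃ n : ℕ, ∃ u ∈ s.U, l * g * l⁻¹ = g ^ n * u ∧ ∀ v ∈ s.U, v ^ n = v := by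
    intro l hl
    obtain ⟨n, u, hu, e⟩ := K.z_gen hg hgR (s.conj_z hl hg)
    refine ⟨n, u, hu, e, fun v hv => ?_⟩
    rcases Nat.even_or_odd n with ⟨k, hk⟩ | ⟨k, hk⟩
    · exfalso
      obtain ⟨d, hd⟩ := hg4
      have h1 : (g ^ n * u) ^ (2 * d) = 1 := by
        rw [(show Commute (g ^ n) u from s.z_ab _ (pow_mem hg _) _ hu.1).mul_pow, ← pow_mul, pow_mul u, pow_two u,
          hu.2, one_pow, mul_one, hk, show (k + k) * (2 * d) = 4 * d * k by ring, ← hd, pow_mul,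
          pow_orderOf_eq_one, one_pow]
      rw [← e, conj_pow, conj_eq_one_iff] at h1
      have := Nat.le_of_dvd (by have := orderOf_pos g; omega) (orderOf_dvd_of_pow_eq_one h1)
      have := orderOf_pos g
      omega
    · rw [hk, pow_succ, pow_mul, pow_two, hv.2, one_pow, one_mul]
  have hlm : l * m * l⁻¹ * m⁻¹ ∈ s.Z := by
    have hmem : l * m * l⁻¹ * m⁻¹ ∈ s.T := mul_mem (mul_mem (mul_mem hl hm) (inv_mem hl)) (inv_mem hm)
    have hfix : s.a * (l * m * l⁻¹ * m⁻¹) = l * m * l⁻¹ * m⁻¹ * s.a :=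
      ((((show Commute s.a l from hla).mul_right hma).mul_right (show Commute s.a l from hla).inv_right).mul_right
        (show Commute s.a m from hma).inv_right).eq
    have hcomm : ∀ ζ ∈ s.Z, l * (m * ζ * m⁻¹) * l⁻¹ = m * (l * ζ * l⁻¹) * m⁻¹ := by
      intro ζ hζ
      obtain ⟨k, u, hu, rfl⟩ := K.z_gen hg hgR hζ
      obtain ⟨n, v, hv, e, hev⟩ := act hl
      obtain ⟨n', v', hv', e', hev'⟩ := act hm
      have cu : ∀ {p : G}, p ∈ s.T → ∀ c : G, p * (c * u) * p⁻¹ = p * c * p⁻¹ * u := fun {p} hp c => by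
        rw [show p * (c * u) * p⁻¹ = p * c * (u * p⁻¹) by group, ← K.t_u (inv_mem hp) hu]; group
      rw [cu hm, cu hl, cu hl, cu hm]
      congr 1
      rw [← conj_pow, ← conj_pow, ← conj_pow, ← conj_pow, e, e']
      congr 1
      have cc : ∀ {p : G}, p ∈ s.T → ∀ {n : ℕ} {v : G}, v ∈ s.U →
          p * (g ^ n * v) * p⁻¹ = (p * g * p⁻¹) ^ n * v := fun {p} hp {n v} hv => by
        rw [conj_pow, show p * (g ^ n * v) * p⁻¹ = p * g ^ n * (v * p⁻¹) by group, ← K.t_u (inv_mem hp) hv]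
        group
      rw [cc hl hv', cc hm hv, e, e', (show Commute (g ^ n) v from s.z_ab _ (pow_mem hg _) _ hv.1).mul_pow,
        (show Commute (g ^ n') v' from s.z_ab _ (pow_mem hg _) _ hv'.1).mul_pow, hev' v hv, hev v' hv',
        ← pow_mul, ← pow_mul, mul_comm n' n, mul_assoc, mul_assoc, s.z_ab _ hv.1 _ hv'.1]
    refine K.fixed_z (K.t0_eq ⟨hmem, fun ζ hζ => ?_⟩) hfix
    have h2 : (m * l)⁻¹ * ζ * (m * l) ∈ s.Z := by
      have := s.conj_z (inv_mem (mul_mem hm hl)) hζ; rwa [inv_inv] at this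
    have h := hcomm _ h2
    have : l * m * l⁻¹ * m⁻¹ * ζ * (l * m * l⁻¹ * m⁻¹)⁻¹ = ζ := by
      calc l * m * l⁻¹ * m⁻¹ * ζ * (l * m * l⁻¹ * m⁻¹)⁻¹
          = l * (m * ((m * l)⁻¹ * ζ * (m * l)) * m⁻¹) * l⁻¹ := by group
        _ = ζ := by rw [h]; group
    exact (mul_inv_eq_iff_eq_mul.1 this).symm
  have e : x * l * (q * m) * (x * l)⁻¹ * (q * m)⁻¹ = x * q * x⁻¹ * q⁻¹ * (l * m * l⁻¹ * m⁻¹) := by
    have c1 : l * q = q * l := Q.fixed_cent_t hl hla hq
    have c2 : m * x⁻¹ = x⁻¹ * m := Q.fixed_cent_t hm hma (inv_mem hx)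
    have c3 : l⁻¹ * x⁻¹ = x⁻¹ * l⁻¹ :=
      Q.fixed_cent_t (inv_mem hl) (show Commute s.a l from hla).inv_right.eq (inv_mem hx)
    have c5 : q⁻¹ * (l * m * l⁻¹ * m⁻¹) = l * m * l⁻¹ * m⁻¹ * q⁻¹ :=
      (s.z_comm hlm (s.x_le_c (inv_mem hq))).symm
    have c4 : l * x⁻¹ = x⁻¹ * l := Q.fixed_cent_t hl hla (inv_mem hx)
    calc x * l * (q * m) * (x * l)⁻¹ * (q * m)⁻¹ = x * (l * q) * m * (l⁻¹ * x⁻¹) * m⁻¹ * q⁻¹ := by group
      _ = x * q * l * (m * x⁻¹) * l⁻¹ * m⁻¹ * q⁻¹ := by rw [c1, c3]; group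
      _ = x * q * (l * x⁻¹) * m * l⁻¹ * m⁻¹ * q⁻¹ := by rw [c2]; group
      _ = x * q * x⁻¹ * ((l * m * l⁻¹ * m⁻¹) * q⁻¹) := by rw [c4]; group
      _ = _ := by rw [← c5]; group
  rw [e]
  exact mul_mem (s.comm_z (s.hCT (s.x_le_c hx)) (s.x_le_c hq)) hlm

end Root

end CfsgLib.NormalRankTwo
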