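import Cfsg.Agent.Lib.NormalRankTwo.QuatFusion

/-!
# A quaternion moved part with a four-group of central involutions
-/

set_option autoImplicit false
set_option linter.unusedSectionVars false

namespace CfsgLib.NormalRankTwo

open Subgroup

variable {G : Type*} [Group G] [Finite G] {s : Ctx G}

/-- Translations pull back along conjugation. -/
theorem isTrans_pull {E W : Subgroup G} {π l : G} (h : IsTrans E W π l) (m : G) :
    IsTrans (E.map (MulAut.conj m⁻¹).toMonoidHom) (W.map (MulAut.conj m⁻¹).toMonoidHom) (m⁻¹ * π * m)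
      (m⁻¹ * l * m) := by
  obtain ⟨hn, ⟨k, hk⟩, hfix, hmov⟩ := h
  refine ⟨?_, ⟨k, ?_⟩, ?_, ?_⟩
  · refine mem_normalizer_iff.2 fun y => ?_
    simp only [mem_map_equiv]
    have h0 := mem_normalizer_iff.1 hn (m * y * m⁻¹)
    simpa [mul_assoc] using h0
  · have e := conj_pow (a := m⁻¹) (b := π) (i := 2 ^ k)
    rw [inv_inv] at e
    rw [e, hk, mul_one, inv_mul_cancel]
  · rintro _ ⟨w, hw, rfl⟩
    show m⁻¹ * π * m * (m⁻¹ * w * m⁻¹⁻¹) * (m⁻¹ * π * m)⁻¹ = m⁻¹ * w * m⁻¹⁻¹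
    conv_rhs => rw [← hfix w hw]
    group
  · rintro _ ⟨e, he, rfl⟩ heW
    show m⁻¹ * π * m * (m⁻¹ * e * m⁻¹⁻¹) * (m⁻¹ * π * m)⁻¹ = m⁻¹ * e * m⁻¹⁻¹ * (m⁻¹ * l * m)
    calc m⁻¹ * π * m * (m⁻¹ * e * m⁻¹⁻¹) * (m⁻¹ * π * m)⁻¹ = m⁻¹ * (π * e * π⁻¹) * m := by group
      _ = _ := by rw [hmov e he fun h => heW ⟨e, h, rfl⟩]; group

namespace Root

variable {Q : Quat s} (K : Root Q) (hw : K.w ≠ Q.z)
include K hw

theorem card_u : Nat.card ↥s.U = 4 := le_antisymm s.card_u_le (K.four_of_ne hw)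

/-- Involutions outside the centre move the element of order four. -/
theorem delta_w {v : G} (hv : v ∈ s.T) (hvv : v * v = 1) (hvU : v ∉ s.U) : K.delta v = K.w := by
  refine (K.comm_or_delta hv hvv).resolve_left fun hn => ?_
  let B : Subgroup G := closure (insert v (s.U : Set G))
  haveI : IsMulCommutative ↥B := isMulCommutative_closure (by
    rintro p (rfl | hp) q (rfl | hq)
    · rfl
    · exact K.t_u hv hq
    · exact (K.t_u hv hp).symm
    · exact s.z_ab p hp.1 q hq.1)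
  have hBab : ∀ p ∈ B, ∀ q ∈ B, p * q = q * p := fun p hp q hq =>
    congrArg Subtype.val (mul_comm' (⟨p, hp⟩ : ↥B) ⟨q, hq⟩)
  have hvB : v ∈ B := subset_closure (Or.inl rfl)
  have huB : ∀ u ∈ s.U, u ∈ B := fun u hu => subset_closure (Or.inr hu)
  have hBT : B ≤ s.T := (closure_le _).2 (Set.insert_subset hv fun u hu => s.z_le_t hu.1)
  have hsq : B ≤ omega B hBab := (closure_le _).2 (Set.insert_subset ⟨hvB, hvv⟩ fun u hu => ⟨huB u hu, hu.2⟩)
  have hconj : ∀ t ∈ s.T, B ≤ B.comap (MulAut.conj t).toMonoidHom := fun t ht => by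
    refine (closure_le _).2 (Set.insert_subset ?_ fun u hu => ?_)
    · show t * v * t⁻¹ ∈ B
      rw [← inv_mul_cancel_right (t * v * t⁻¹) v]
      exact mul_mem (huB _ (hn t ht)) hvB
    · show t * u * t⁻¹ ∈ B
      rw [K.t_u ht hu, mul_inv_cancel_right]; exact huB u hu
  have h4 := s.hrk B hBT (le_normalizer_of_conj fun t ht y hy => hconj t ht hy) hBab fun y hy => (hsq hy).2
  have h5 : s.U < B := lt_of_le_of_ne huB fun h => hvU (h ▸ hvB)
  have h6 : Nat.card ↥s.U < Nat.card ↥B := by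
    by_contra h
    exact h5.ne (eq_of_le_of_card_ge h5.le (not_lt.1 h))
  have := K.four_of_ne hw
  omega

theorem member {E : Subgroup G} (hE : Elem8 s E) :
    s.U ≤ E ∧ Nat.card ↥E = 8 ∧ IsTrans E s.U K.y K.w := by
  classical
  have hmul : ∀ p ∈ E, ∀ q ∈ E, p ∉ s.U → q ∉ s.U → p * q ∈ s.U := by
    intro p hp q hq hpU hqU
    by_contra h
    have e := K.delta_w hw (hE.le (mul_mem hp hq)) (hE.sq _ (mul_mem hp hq)) h
    rw [K.delta_mul (hE.le hp) (hE.le hq), K.delta_w hw (hE.le hp) (hE.sq p hp) hpU,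
      K.delta_w hw (hE.le hq) (hE.sq q hq) hqU, K.ww] at e
    exact K.w1 e.symm
  obtain ⟨x, hx, hxU⟩ : ∃ x ∈ E, x ∉ s.U := by
    by_contra h
    push Not at h
    have := card_le_of_le (show E ≤ s.U from h)
    have := s.card_u_le
    have := hE.five
    omega
  have hidx : (s.U ⊓ E).relIndex E = 2 := by
    rw [inf_relIndex_right, relIndex, index_eq_two_iff]
    refine ⟨⟨x, hx⟩, fun q => ?_⟩
    by_cases hq : (q : G) ∈ s.U
    · refine Or.inr ⟨hq, fun h => hxU ?_⟩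
      simpa using mul_mem (inv_mem (show (q : G) ∈ s.U from hq)) (show (q : G) * x ∈ s.U from h)
    · exact Or.inl ⟨hmul _ q.2 _ hx hq hxU, hq⟩
  have hc := card_mul_relIndex (inf_le_right : s.U ⊓ E ≤ E)
  rw [hidx] at hc
  have hle := card_le_of_le (inf_le_left : s.U ⊓ E ≤ s.U)
  have h4 := K.card_u hw
  have h8 := hE.card_eq (by omega)
  have heq : s.U ⊓ E = s.U := eq_of_le_of_card_ge inf_le_left (by omega)
  have hUE : s.U ≤ E := heq ▸ inf_le_right
  have hmov : ∀ e ∈ E, e ∉ s.U → K.y * e * K.y⁻¹ = e * K.w := fun e he heU => by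
    have hd := K.delta_w hw (hE.le he) (hE.sq e he) heU
    calc K.y * e * K.y⁻¹ = (K.delta e)⁻¹ * e := by simp only [delta]; group
      _ = _ := by rw [hd, inv_eq_of_mul_eq_one_left K.ww, K.t_w (hE.le he)]
  have hfix : ∀ u ∈ s.U, K.y * u * K.y⁻¹ = u := fun u hu => by
    rw [s.z_ab _ K.hy _ hu.1, mul_inv_cancel_right]
  refine ⟨hUE, h8, ?_, ⟨2, ?_⟩, hfix, hmov⟩
  · haveI : Finite (E : Set G) := Finite.of_injective (fun x : (E : Set G) => (x : G)) Subtype.val_injective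
    refine mem_normalizer_fintype fun e he => ?_
    by_cases heU : e ∈ s.U
    · show K.y * e * K.y⁻¹ ∈ E
      rw [hfix e heU]; exact hUE heU
    · show K.y * e * K.y⁻¹ ∈ E
      rw [hmov e he heU]; exact mul_mem he (hUE K.w_u)
  · rw [show (2 : ℕ) ^ 2 = 2 + 2 from rfl, pow_add, pow_two]; exact K.ww

/-- An involution that does not commute with `X` is not fused to `z`. -/
theorem four_false (P : Sylow 2 G) (hP : (P : Subgroup G) = s.T) {v x l g : G} (hx : x ∈ s.X) (hl : l ∈ s.T)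
    (hla : s.a * l = l * s.a) (hv : v = x * l) (x1 : x ≠ 1) (xz : x ≠ Q.z) (hvv : v * v = 1)
    (hg : g * v * g⁻¹ = Q.z) : False := by
  obtain ⟨p, hp, hpx, -⟩ := Q.exists_anti hx x1 xz
  have hvT : v ∈ s.T := hv ▸ mul_mem (s.hCT (s.x_le_c hx)) hl
  have hpv : p * v * p⁻¹ = v * Q.z := hv ▸ K.anti_act hp hpx hx hl hla
  have hvU : v ∉ s.U := fun h => Q.hz1 (by
    have := hpv
    rw [K.t_u (s.hCT (s.x_le_c hp)) h, mul_inv_cancel_right] at this
    exact mul_eq_left.1 this.symm)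
  let E : Subgroup G :=
    { carrier := {e | e ∈ s.U ∨ v * e ∈ s.U}
      one_mem' := Or.inl (one_mem _)
      mul_mem' := fun {a b} ha hb => by
        rcases ha with ha | ha <;> rcases hb with hb | hb
        · exact Or.inl (mul_mem ha hb)
        · refine Or.inr ?_
          rw [← mul_assoc, K.t_u hvT ha, mul_assoc]; exact mul_mem ha hb
        · exact Or.inr (by rw [← mul_assoc]; exact mul_mem ha hb)
        · refine Or.inl ?_
          have : a * b = (v * a) * (v * b) := by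
            have e : v * (v * a) = (v * a) * v := K.t_u hvT ha
            rw [← mul_assoc, ← e, ← mul_assoc, hvv, one_mul]
          rw [this]; exact mul_mem ha hb
      inv_mem' := fun {a} ha => by
        rcases ha with ha | ha
        · exact Or.inl (inv_mem ha)
        · refine Or.inr ?_
          have e : v * (v * a) = (v * a) * v := K.t_u hvT ha
          have h2 : a = (v * a) * v := by rw [← e, ← mul_assoc, hvv, one_mul]
          rw [h2, mul_inv_rev, mul_inv_cancel_left]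
          exact inv_mem ha }
  have hvE : v ∈ E := Or.inr (hvv ▸ one_mem _)
  have hUE : s.U ≤ E := fun u hu => Or.inl hu
  have hEv : ∀ e ∈ E, ∃ u ∈ s.U, e = u ∨ e = v * u := fun e he => he.elim (fun h => ⟨e, h, Or.inl rfl⟩)
    fun h => ⟨v * e, h, Or.inr (by rw [← mul_assoc, hvv, one_mul])⟩
  have hE : Elem8 s E := by
    refine ⟨fun e he => ?_, fun a ha b hb => ?_, fun e he => ?_, ?_⟩
    · obtain ⟨u, hu, rfl | rfl⟩ := hEv e he
      exacts [s.z_le_t hu.1, mul_mem hvT (s.z_le_t hu.1)]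
    · obtain ⟨u, hu, e1⟩ := hEv a ha
      obtain ⟨u', hu', e2⟩ := hEv b hb
      have c1 : Commute v u := K.t_u hvT hu
      have c2 : Commute v u' := K.t_u hvT hu'
      have c3 : Commute u u' := s.z_ab _ hu.1 _ hu'.1
      rcases e1 with rfl | rfl <;> rcases e2 with rfl | rfl
      exacts [c3.eq, (c1.symm.mul_right c3).eq, (c2.mul_left c3).eq,
        (((Commute.refl v).mul_right c2).mul_left (c1.symm.mul_right c3)).eq]
    · obtain ⟨u, hu, rfl | rfl⟩ := hEv e he
      · exact hu.2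
      · rw [show v * u * (v * u) = v * (u * v) * u by group, ← K.t_u hvT hu, ← mul_assoc v v, hvv, one_mul, hu.2]
    · have hlt : s.U < E := lt_of_le_of_ne hUE fun h => hvU (h ▸ hvE)
      have : Nat.card ↥s.U < Nat.card ↥E := by
        by_contra h
        exact hlt.ne (eq_of_le_of_card_ge hlt.le (not_lt.1 h))
      have := K.four_of_ne hw
      omega
  obtain ⟨-, hE8, hyT⟩ := K.member hw hE
  have hz' : IsTrans E s.U p Q.z := by
    have hfix : ∀ u ∈ s.U, p * u * p⁻¹ = u := fun u hu => by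
      rw [K.t_u (s.hCT (s.x_le_c hp)) hu, mul_inv_cancel_right]
    have hmov : ∀ e ∈ E, e ∉ s.U → p * e * p⁻¹ = e * Q.z := by
      intro e he heU
      obtain ⟨u, hu, rfl | rfl⟩ := hEv e he
      · exact absurd hu heU
      · calc p * (v * u) * p⁻¹ = (p * v * p⁻¹) * (p * u * p⁻¹) := by group
          _ = v * u * Q.z := by rw [hpv, hfix u hu, mul_assoc, s.z_ab _ Q.z_z _ hu.1, ← mul_assoc]
    refine ⟨?_, ?_, hfix, hmov⟩
    · haveI : Finite (E : Set G) := Finite.of_injective (fun x : (E : Set G) => (x : G)) Subtype.val_injective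
      refine mem_normalizer_fintype fun e he => ?_
      show p * e * p⁻¹ ∈ E
      by_cases heU : e ∈ s.U
      · rw [hfix e heU]; exact hUE heU
      · rw [hmov e he heU]; exact mul_mem he (hUE Q.z_u)
    · obtain ⟨n, hn⟩ := s.hT ⟨p, s.hCT (s.x_le_c hp)⟩
      exact ⟨n, congrArg Subtype.val hn⟩
  have hfull : ∀ l ∈ s.U, ∃ π, IsTrans E s.U π l := by
    intro c hc
    rcases K.u_eq hc with rfl | rfl | rfl | rfl
    · exact ⟨1, one_mem _, ⟨0, one_pow _⟩, fun w _ => by simp, fun e _ _ => by simp⟩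
    · exact ⟨p, hz'⟩
    · exact ⟨K.y, hyT⟩
    · refine ⟨p * K.y, mul_mem hz'.1 hyT.1, ?_, fun u hu => ?_, fun e he heU => ?_⟩
      · obtain ⟨n, hn⟩ := s.hT ⟨p * K.y, mul_mem (s.hCT (s.x_le_c hp)) (s.z_le_t K.hy)⟩
        exact ⟨n, congrArg Subtype.val hn⟩
      · rw [show p * K.y * u * (p * K.y)⁻¹ = p * (K.y * u * K.y⁻¹) * p⁻¹ by group, hyT.2.2.1 u hu, hz'.2.2.1 u hu]
      · have h2 : e * K.w ∉ s.U := fun h => heU (by simpa using mul_mem h (inv_mem K.w_u))
        rw [show p * K.y * e * (p * K.y)⁻¹ = p * (K.y * e * K.y⁻¹) * p⁻¹ by group, hyT.2.2.2 e he heU,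
          hz'.2.2.2 _ (mul_mem he (hUE K.w_u)) h2, mul_assoc, s.z_ab _ K.w_u.1 _ Q.z_z]
  obtain ⟨k, hkT, hkodd⟩ := exists_fully P (hP.symm ▸ hE.le : E ≤ (P : Subgroup G))
  rw [hP] at hkodd hkT
  set E₁ := E.map (MulAut.conj k).toMonoidHom with hE₁
  have hE1 : Elem8 s E₁ := hE.map k fun e he => hkT ⟨e, he, rfl⟩
  obtain ⟨hU1, h81, -⟩ := K.member hw hE1
  have hax : Axis E₁ s.U := axis_of_fully hkodd fun t ht u hu => K.t_u ht hu
  have rel : ∀ {W : Subgroup G}, W ≤ E₁ → Nat.card ↥W = 4 → W.relIndex E₁ = 2 := fun {W} hWE hW => by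
    have := card_mul_relIndex hWE
    rw [hW, h81] at this
    omega
  have h4 := K.card_u hw
  have hW0 : s.U.map (MulAut.conj k).toMonoidHom = s.U := by
    have hle : s.U.map (MulAut.conj k).toMonoidHom ≤ E₁ := map_mono hUE
    have hc : Nat.card ↥(s.U.map (MulAut.conj k).toMonoidHom) = 4 := by
      rw [card_map_of_injective (MulEquiv.injective _), h4]
    refine axis_eq hax hU1 h4 (rel hle hc) hle hc fun c hc' => ?_
    obtain ⟨u, hu, rfl⟩ := hc'
    obtain ⟨π, hπ⟩ := hfull u hu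
    have h := isTrans_pull hπ k⁻¹
    rw [inv_inv] at h
    exact ⟨_, h⟩
  have hfull1 : ∀ c ∈ s.U, ∃ π, IsTrans E₁ s.U π c := by
    intro c hc
    rw [← hW0] at hc ⊢
    obtain ⟨u, hu, rfl⟩ := hc
    obtain ⟨π, hπ⟩ := hfull u hu
    have h := isTrans_pull hπ k⁻¹
    rw [inv_inv] at h
    exact ⟨_, h⟩
  obtain ⟨m, hmv, hmT⟩ := move_into P hP hE.le (fun e he => hE.ab e he v hvE) (fun t ht => K.t_z ht) hg
  set n := m * k⁻¹ with hn
  have hnT : ∀ e ∈ E₁, n * e * n⁻¹ ∈ s.T := by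
    rintro _ ⟨e, he, rfl⟩
    have := hmT e he
    convert this using 1
    show n * (k * e * k⁻¹) * n⁻¹ = _
    rw [hn]; group
  obtain ⟨hU2, -, hy2⟩ := K.member hw (hE1.map n hnT)
  have htr := isTrans_pull hy2 n
  have hback : (E₁.map (MulAut.conj n).toMonoidHom).map (MulAut.conj n⁻¹).toMonoidHom = E₁ := by
    rw [Subgroup.map_map]
    convert Subgroup.map_id E₁
    ext y; simp [mul_assoc]
  rw [hback] at htr
  have hWle : s.U.map (MulAut.conj n⁻¹).toMonoidHom ≤ E₁ := hback ▸ map_mono hU2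
  have hWc : Nat.card ↥(s.U.map (MulAut.conj n⁻¹).toMonoidHom) = 4 := by
    rw [card_map_of_injective (MulEquiv.injective _), h4]
  have hWU := axis_eq_of_trans hax hU1 h4 hfull1 (rel hWle hWc) hWle hWc hE1.sq
    (⟨K.w, K.w_u, by simp⟩ : n⁻¹ * K.w * n ∈ s.U.map (MulAut.conj n⁻¹).toMonoidHom)
    (fun h => K.w1 (by simpa [mul_assoc] using congrArg (fun t => n * t * n⁻¹) h)) htr
  have h1 : n⁻¹ * Q.z * n ∈ s.U := hWU ▸ ⟨Q.z, Q.z_u, by simp⟩
  rw [← hW0] at h1
  obtain ⟨u, hu, e⟩ := h1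
  refine hvU ?_
  have e' : k * u * k⁻¹ = n⁻¹ * Q.z * n := e
  rw [show n⁻¹ * Q.z * n = k * v * k⁻¹ by rw [hn, ← hmv]; group] at e'
  exact (mul_left_cancel (mul_right_cancel e')) ▸ hu

end Root

end CfsgLib.NormalRankTwo
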