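import Cfsg.Agent.Lib.NormalRankTwo.QuatBig

/-!
# A quaternion moved part: involutions commuting with it are not fused to its centre
-/

set_option autoImplicit false
set_option linter.unusedSectionVars false

namespace CfsgLib.NormalRankTwo

open Subgroup

variable {G : Type*} [Group G] [Finite G] {s : Ctx G}

/-- An elementary abelian two-subgroup of `T` of order above four. -/
structure Elem8 (s : Ctx G) (E : Subgroup G) : Prop where
  le : E ≤ s.T
  ab : ∀ x ∈ E, ∀ y ∈ E, x * y = y * x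
  sq : ∀ x ∈ E, x * x = 1
  five : 5 ≤ Nat.card ↥E

theorem Elem8.map {E : Subgroup G} (hE : Elem8 s E) (g : G) (hg : ∀ e ∈ E, g * e * g⁻¹ ∈ s.T) :
    Elem8 s (E.map (MulAut.conj g).toMonoidHom) where
  le := by rintro _ ⟨e, he, rfl⟩; exact hg e he
  ab := by
    rintro _ ⟨e, he, rfl⟩ _ ⟨f, hf, rfl⟩
    rw [← map_mul, ← map_mul, hE.ab e he f hf]
  sq := by
    rintro _ ⟨e, he, rfl⟩
    rw [← map_mul, hE.sq e he, map_one]
  five := by rw [card_map_of_injective (MulEquiv.injective _)]; exact hE.five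

theorem Elem8.card_eq {E : Subgroup G} (hE : Elem8 s E) (h : Nat.card ↥E ≤ 8) : Nat.card ↥E = 8 := by
  haveI := Fact.mk Nat.prime_two
  obtain ⟨n, hn⟩ := IsPGroup.iff_card.1 (s.hT.to_le hE.le)
  have := hE.five
  rw [hn] at this h ⊢
  rcases n with _ | _ | _ | _ | n <;> simp_all [pow_succ]
  have : 0 < 2 ^ n := by positivity
  omega

/-- A two-group commuting with an involution fused to a central one moves into `T` with it. -/
theorem move_into (P : Sylow 2 G) (hP : (P : Subgroup G) = s.T) {K : Subgroup G} (hKT : K ≤ s.T) {v z g : G}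
    (hK : ∀ k ∈ K, k * v = v * k) (hz : ∀ t ∈ s.T, t * z = z * t) (hg : g * v * g⁻¹ = z) :
    ∃ g' : G, g' * v * g'⁻¹ = z ∧ ∀ k ∈ K, g' * k * g'⁻¹ ∈ s.T := by
  have hcen : (P : Subgroup G) ≤ centralizer ({z} : Set G) := fun t ht => by
    rw [mem_centralizer_singleton_iff]; exact hz t (hP ▸ ht)
  have hKg : K.map (MulAut.conj g).toMonoidHom ≤ centralizer ({z} : Set G) := by
    rintro _ ⟨k, hk, rfl⟩
    rw [mem_centralizer_singleton_iff, ← hg]
    show g * k * g⁻¹ * (g * v * g⁻¹) = g * v * g⁻¹ * (g * k * g⁻¹)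
    rw [show g * k * g⁻¹ * (g * v * g⁻¹) = g * (k * v) * g⁻¹ by group, hK k hk]
    group
  obtain ⟨h, hh, hhT⟩ := exists_conj_into P hcen ((s.hT.to_le hKT).map _) hKg
  refine ⟨h * g, ?_, fun k hk => ?_⟩
  · rw [mem_centralizer_singleton_iff] at hh
    rw [show h * g * v * (h * g)⁻¹ = h * (g * v * g⁻¹) * h⁻¹ by group, hg, hh, mul_inv_cancel_right]
  · have := hhT _ ⟨k, hk, rfl⟩
    rw [hP] at this
    simpa [mul_assoc] using this

namespace Quat

variable (Q : Quat s)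
include Q

theorem comm_all {v : G} (hi : v * Q.i = Q.i * v) (hj : v * Q.j = Q.j * v) {x : G} (hx : x ∈ s.X) :
    v * x = x * v := by
  have h1 : Commute v Q.i := hi
  have h2 : Commute v Q.j := hj
  have hz : Commute v Q.z := by rw [← Q.hii]; exact h1.mul_right h1
  rcases Q.hall x hx with e | e | e | e | e | e | e | e <;> subst e
  exacts [(Commute.one_right _).eq, hz.eq, h1.eq, (h1.mul_right hz).eq, h2.eq, (h2.mul_right hz).eq,
    (h1.mul_right h2).eq, ((h1.mul_right h2).mul_right hz).eq]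

end Quat

namespace Root

variable {Q : Quat s} (K : Root Q)
include K

/-- Conjugation by `X` moves a product `x l` by at most `z`. -/
theorem x_act {p t : G} (hp : p ∈ s.X) (ht : t ∈ s.T) : p * t * p⁻¹ = t ∨ p * t * p⁻¹ = t * Q.z := by
  obtain ⟨x, hx, l, hl, hla, rfl⟩ := K.t_dec ht
  have c : l * p⁻¹ = p⁻¹ * l := Q.fixed_cent_t hl hla (inv_mem hp)
  have e : p * (x * l) * p⁻¹ = p * x * p⁻¹ * x⁻¹ * (x * l) := by
    calc p * (x * l) * p⁻¹ = p * x * (l * p⁻¹) := by group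
      _ = _ := by rw [c]; group
  rcases Q.x_comm hp hx with h | h <;> rw [e, h]
  · exact Or.inl (one_mul _)
  · refine Or.inr ?_
    rw [K.t_z ht]

/-- An element of order four anticommuting with the `X`-part moves by `z`. -/
theorem anti_act {p x l : G} (hp : p ∈ s.X) (hpx : p * x * p⁻¹ * x⁻¹ = Q.z) (hx : x ∈ s.X) (hl : l ∈ s.T)
    (hla : s.a * l = l * s.a) : p * (x * l) * p⁻¹ = x * l * Q.z := by
  have c : l * p⁻¹ = p⁻¹ * l := Q.fixed_cent_t hl hla (inv_mem hp)
  have e : p * (x * l) * p⁻¹ = p * x * p⁻¹ * x⁻¹ * (x * l) := by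
    calc p * (x * l) * p⁻¹ = p * x * (l * p⁻¹) := by group
      _ = _ := by rw [c]; group
  rw [e, hpx, K.t_z (mul_mem (s.hCT (s.x_le_c hx)) hl)]

/-- The action on the element of order four of the centre. -/
def delta (_K : Root Q) (t : G) : G := t * _K.y * t⁻¹ * _K.y⁻¹

theorem delta_u {t : G} (ht : t ∈ s.T) : K.delta t ∈ s.U := by
  have hd : K.delta t ∈ s.Z := s.comm_z ht K.y_c
  refine ⟨hd, ?_⟩
  have hw : t * K.w * t⁻¹ = K.w := by rw [K.t_w ht, mul_inv_cancel_right]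
  have e : t * K.w * t⁻¹ = K.delta t * K.delta t * K.w := by
    calc t * K.w * t⁻¹ = (K.delta t * K.y) * (K.delta t * K.y) := by simp only [delta, w]; group
      _ = K.delta t * (K.y * K.delta t) * K.y := by group
      _ = _ := by rw [s.z_ab _ K.hy _ hd]; simp only [w]; group
  exact mul_eq_right.1 (e.symm.trans hw)

theorem delta_mul {t r : G} (ht : t ∈ s.T) (hr : r ∈ s.T) : K.delta (t * r) = K.delta r * K.delta t := by
  calc K.delta (t * r) = t * K.delta r * (K.y * t⁻¹) * K.y⁻¹ := by simp only [delta]; group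
    _ = K.delta r * t * (K.y * t⁻¹) * K.y⁻¹ := by rw [K.t_u ht (K.delta_u hr)]
    _ = _ := by simp only [delta]; group

theorem delta_eq_one {t : G} (h : K.delta t = 1) : t * K.y = K.y * t :=
  mul_inv_eq_iff_eq_mul.1 (mul_inv_eq_one.1 h)

theorem delta_x {x : G} (hx : x ∈ s.C) : K.delta x = 1 := by
  rw [delta, ← s.z_comm K.hy hx, mul_inv_cancel_right, mul_inv_cancel]

/-- An involution is normalised modulo `U` by `T` or moves the element of order four. -/
theorem comm_or_delta {v : G} (hv : v ∈ s.T) (hvv : v * v = 1) :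
    (∀ t ∈ s.T, t * v * t⁻¹ * v⁻¹ ∈ s.U) ∨ K.delta v = K.w := by
  by_contra hno
  push Not at hno
  obtain ⟨⟨t, ht, hn⟩, hd⟩ := hno
  set ζ := t * v * t⁻¹ * v⁻¹ with hζ
  have hz : ζ ∈ s.Z := K.comm_t ht hv
  have hvinv : v⁻¹ = v := inv_eq_of_mul_eq_one_left hvv
  have h1 : v * ζ * v⁻¹ = ζ⁻¹ := by
    refine eq_inv_of_mul_eq_one_left ?_
    calc v * ζ * v⁻¹ * ζ = v * (t * v * t⁻¹) * (v * v)⁻¹ * (t * v * t⁻¹ * v⁻¹) := by rw [hζ]; group
      _ = v * (t * v * t⁻¹) * (t * v * t⁻¹ * v⁻¹) := by rw [hvv, inv_one, mul_one]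
      _ = v * (t * (v * v) * t⁻¹) * v⁻¹ := by group
      _ = 1 := by rw [hvv]; group
  obtain ⟨n, hn'⟩ := (s.hT.to_le s.z_le_t) ⟨ζ, hz⟩
  have key : ∀ m : ℕ, ∀ η ∈ s.Z, v * η * v⁻¹ = η⁻¹ → η ^ 2 ^ m = 1 → η * η = 1 := by
    intro m
    induction m with
    | zero => intro η _ _ h; rw [pow_zero, pow_one] at h; rw [h, one_mul]
    | succ m ih =>
      intro η hη hinv hpow
      have h2 := ih _ (mul_mem hη hη) (by
        rw [show v * (η * η) * v⁻¹ = (v * η * v⁻¹) * (v * η * v⁻¹) by group, hinv, mul_inv_rev])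
        (by rw [← pow_two, ← pow_mul, ← pow_succ']; exact hpow)
      by_contra hne
      have hw : η * η = K.w := (K.sq_unique hη ⟨mul_mem hη hη, h2⟩).resolve_left hne
      have hu : η * K.y⁻¹ ∈ s.U := by
        refine ⟨mul_mem hη (inv_mem K.hy), ?_⟩
        rw [show η * K.y⁻¹ * (η * K.y⁻¹) = η * (K.y⁻¹ * η) * K.y⁻¹ by group, s.z_ab _ (inv_mem K.hy) _ hη,
          show η * (η * K.y⁻¹) * K.y⁻¹ = η * η * (K.y * K.y)⁻¹ by group, hw]
        exact mul_inv_cancel _
      refine hd ?_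
      calc K.delta v = v * ((η * K.y⁻¹)⁻¹ * η) * v⁻¹ * K.y⁻¹ := by simp only [delta]; group
        _ = (η * K.y⁻¹)⁻¹ * (v * η * v⁻¹) * K.y⁻¹ := by
          rw [← mul_assoc v, K.t_u hv (inv_mem hu)]; group
        _ = K.y * (η * η)⁻¹ * K.y⁻¹ := by rw [hinv]; group
        _ = K.w := by
          rw [hw, inv_eq_of_mul_eq_one_left K.ww, s.z_ab _ K.hy _ K.w_u.1, mul_inv_cancel_right]
  exact hn ⟨hz, key n ζ hz h1 (congrArg Subtype.val hn')⟩

/-- An involution that commutes with `X` and is fused to `z` is `z`. -/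
theorem fused_cent (P : Sylow 2 G) (hP : (P : Subgroup G) = s.T)
    (hNC : normalizer (s.T : Set G) ≤ normalizer (s.C : Set G)) {v g : G} (hi : v * Q.i = Q.i * v)
    (hj : v * Q.j = Q.j * v) (hg : g * v * g⁻¹ = Q.z) : v = Q.z := by
  obtain ⟨m, hm, hmT⟩ := move_into P hP (s.x_le_c.trans s.hCT) (fun k hk => (Q.comm_all hi hj hk).symm)
    (fun t ht => K.t_z ht) hg
  have hu : m * Q.z * m⁻¹ ∈ s.U := by
    refine ⟨?_, by rw [show m * Q.z * m⁻¹ * (m * Q.z * m⁻¹) = m * (Q.z * Q.z) * m⁻¹ by group, Q.hzz]; group⟩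
    have h := K.comm_t (hmT _ Q.hi) (hmT _ Q.hj)
    rw [← Q.hij]
    convert h using 1
    group
  have key : m * Q.z * m⁻¹ = Q.z := by
    by_contra hne
    -- Burnside: the two central elements are fused in the normaliser of `T`
    set u := m * Q.z * m⁻¹ with hu'
    have hcen : (P : Subgroup G) ≤ centralizer ({u} : Set G) := fun t ht => by
      rw [mem_centralizer_singleton_iff]; exact K.t_u (hP ▸ ht) hu
    have hmap : s.T.map (MulAut.conj m).toMonoidHom ≤ centralizer ({u} : Set G) := by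
      rintro _ ⟨t, ht, rfl⟩
      rw [mem_centralizer_singleton_iff, hu']
      show m * t * m⁻¹ * (m * Q.z * m⁻¹) = m * Q.z * m⁻¹ * (m * t * m⁻¹)
      rw [show m * t * m⁻¹ * (m * Q.z * m⁻¹) = m * (t * Q.z) * m⁻¹ by group, K.t_z ht]; group
    obtain ⟨h, hh, hhT⟩ := exists_conj_into P hcen (s.hT.map _) hmap
    haveI : Finite (s.T : Set G) := Finite.of_injective (fun x : (s.T : Set G) => (x : G)) Subtype.val_injective
    have hn : h * m ∈ normalizer (s.T : Set G) := mem_normalizer_fintype fun t ht => by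
      have := hhT _ ⟨t, ht, rfl⟩
      rw [hP] at this
      simpa [mul_assoc] using this
    set n := h * m with hn'
    have hnC := hNC hn
    have hnz : n * Q.z * n⁻¹ = u := by
      rw [mem_centralizer_singleton_iff] at hh
      rw [show n * Q.z * n⁻¹ = h * u * h⁻¹ by rw [hn', hu']; group, hh, mul_inv_cancel_right]
    have hzn : n * Q.z * n⁻¹ = (n * Q.i * n⁻¹) * (n * Q.j * n⁻¹) * (n * Q.i * n⁻¹)⁻¹ * (n * Q.j * n⁻¹)⁻¹ := by
      rw [← Q.hij]; group
    obtain ⟨x, hx, ζ, hζ, e⟩ := K.c_dec ((mem_normalizer_iff.1 hnC _).1 Q.i_c)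
    obtain ⟨q, hq, θ, hθ, e'⟩ := K.c_dec ((mem_normalizer_iff.1 hnC _).1 Q.j_c)
    rw [e, e', hnz] at hzn
    have hxq : x * ζ * (q * θ) * (x * ζ)⁻¹ * (q * θ)⁻¹ = x * q * x⁻¹ * q⁻¹ := by
      have c1 : ζ * (q * θ) = q * θ * ζ := s.z_comm hζ (mul_mem (s.x_le_c hq) (s.z_le_c hθ))
      have c2 : θ * x⁻¹ = x⁻¹ * θ := s.z_comm hθ (inv_mem (s.x_le_c hx))
      calc x * ζ * (q * θ) * (x * ζ)⁻¹ * (q * θ)⁻¹ = x * (ζ * (q * θ)) * ζ⁻¹ * x⁻¹ * θ⁻¹ * q⁻¹ := by group
        _ = x * q * (θ * x⁻¹) * θ⁻¹ * q⁻¹ := by rw [c1]; group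
        _ = _ := by rw [c2]; group
    rw [hxq] at hzn
    rcases Q.x_comm hx hq with h | h <;> rw [h] at hzn
    · exact Q.hz1 (conj_eq_one_iff.1 hzn)
    · exact hne hzn
  exact mul_left_cancel (mul_right_cancel (hm.trans key.symm))

end Root

end CfsgLib.NormalRankTwo
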