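import Cfsg.Agent.Lib.NormalRankTwo.QuatBase
import Cfsg.Agent.Lib.Elementary

/-!
# A quaternion moved part with centre of exponent two: order 128
-/

set_option autoImplicit false
set_option linter.unusedSectionVars false

namespace CfsgLib.NormalRankTwo

open Subgroup

variable {G : Type*} [Group G] [Finite G]

/-- The order of a group is the order of a subgroup times the index. -/
theorem card_mul_relIndex {H K : Subgroup G} (h : H ≤ K) : Nat.card ↥H * H.relIndex K = Nat.card ↥K := by
  rw [relIndex, ← Nat.card_congr (subgroupOfEquivOfLe h).toEquiv, card_mul_index]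

/-- Five distinct elements. -/
theorem five_injective {u v w : G} (u1 : u ≠ 1) (v1 : v ≠ 1) (vu : v ≠ u) (uv1 : u * v ≠ 1) (w1 : w ≠ 1)
    (wu : w ≠ u) (wv : w ≠ v) (wuv : w ≠ u * v) : Function.Injective (![1, u, v, u * v, w] : Fin 5 → G) := by
  have a1 : u * v ≠ u := fun h => v1 (mul_eq_left.1 h)
  have a2 : u * v ≠ v := fun h => u1 (mul_eq_right.1 h)
  intro i j h
  fin_cases i <;> fin_cases j <;> first
    | rfl
    | (dsimp at h; first
      | exact absurd h u1 | exact absurd h.symm u1 | exact absurd h v1 | exact absurd h.symm v1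
      | exact absurd h vu | exact absurd h.symm vu | exact absurd h uv1 | exact absurd h.symm uv1
      | exact absurd h w1 | exact absurd h.symm w1 | exact absurd h wu | exact absurd h.symm wu
      | exact absurd h wv | exact absurd h.symm wv | exact absurd h wuv | exact absurd h.symm wuv
      | exact absurd h a1 | exact absurd h.symm a1 | exact absurd h a2 | exact absurd h.symm a2)

namespace Quat

variable {s : Ctx G} (Q : Quat s)
include Q

/-- `X Z` has index at least four over `Z`. -/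
theorem four_le_z {M : Subgroup G} (hM : M ≤ s.T) (hi : Q.i ∈ M) (hj : Q.j ∈ M) : 4 ≤ s.Z.relIndex M := by
  have hne : Q.i * Q.j ≠ Q.j * Q.i := fun h => Q.hz1 (by rw [← Q.hij, h]; group)
  refine four_le_relIndex s.hT hM hi hj (fun h => hne (s.z_comm h Q.j_c))
    (fun h => hne (s.z_comm h Q.i_c).symm) fun h => hne ?_
  have h2 := s.z_comm h Q.i_c
  calc Q.i * Q.j = Q.i * Q.i * (Q.i⁻¹ * Q.j) := by group
    _ = Q.i * (Q.i⁻¹ * Q.j * Q.i) := by rw [h2]; group
    _ = Q.j * Q.i := by group

/-- The critical subgroup has sixteen classes modulo the centre unless its fixed elements are central. -/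
theorem sixteen_le (hfix : ¬ ∀ c ∈ s.C, s.a * c = c * s.a → c ∈ s.Z) : 16 ≤ s.Z.relIndex s.C := by
  push Not at hfix
  obtain ⟨c, hc, hca, hcZ⟩ := hfix
  obtain ⟨d, hd, hda, hdc⟩ : ∃ d ∈ s.C, s.a * d = d * s.a ∧ c * d ≠ d * c := by
    by_contra hno
    push Not at hno
    refine hcZ (s.mem_z_of_cent (s.hCT hc) fun e he => ?_)
    obtain ⟨x, hx, d, hd, hda, rfl⟩ := s.decomp he
    rw [← mul_assoc, Q.fixed_cent hc hca hx, mul_assoc, hno d hd hda, ← mul_assoc]
  let M : Subgroup G := closure ((s.X : Set G) ∪ (s.Z : Set G))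
  have hXM : s.X ≤ M := fun x hx => subset_closure (Or.inl hx)
  have hZM : s.Z ≤ M := fun x hx => subset_closure (Or.inr hx)
  have hMC : M ≤ s.C := (closure_le _).2 (Set.union_subset s.x_le_c s.z_le_c)
  -- the elements of `X Z` centralise every fixed element
  have hcomm : ∀ {f : G}, f ∈ s.C → s.a * f = f * s.a → ∀ m ∈ M, f * m = m * f := fun {f} hf hfa m hm => by
    refine ((closure_le (K := centralizer ({f} : Set G))).2 ?_ hm) f rfl
    rintro p (hp | hp) q rfl
    · exact Q.fixed_cent hf hfa hp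
    · exact (s.z_comm hp hf).symm
  have h4 : 4 ≤ M.relIndex s.C := four_le_relIndex s.hT s.hCT hc hd
    (fun h => hdc (hcomm hd hda c h).symm) (fun h => hdc (hcomm hc hca d h)) fun h => hdc (by
      have h2 := hcomm hc hca _ h
      calc c * d = c * (c * (c⁻¹ * d)) := by group
        _ = c * (c⁻¹ * d * c) := by rw [h2]
        _ = d * c := by group)
  rw [← relIndex_mul_relIndex s.Z M s.C hZM hMC]
  exact le_trans (by norm_num) (Nat.mul_le_mul (Q.four_le_z (hMC.trans s.hCT) (hXM Q.hi) (hXM Q.hj)) h4)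

/-- A centre of exponent two gives order 128. -/
theorem card_small (hbig : Big s) (hexp : ∀ η ∈ s.Z, η * η = 1) : Nat.card ↥s.T = 128 := by
  haveI := Fact.mk Nat.prime_two
  have hZU : s.Z = s.U := le_antisymm (fun η hη => ⟨hη, hexp η hη⟩) fun η hη => hη.1
  obtain ⟨t, ht, ζ, hζ, htζ⟩ : ∃ t ∈ s.T, ∃ ζ ∈ s.Z, t * ζ ≠ ζ * t := by
    by_contra hno
    push Not at hno
    exact hbig.not_central fun t ht ζ hζ => (hno t ht ζ hζ).symm
  -- a central element of `T` in the centre
  obtain ⟨u, hu, hu1, hut⟩ : ∃ u ∈ s.Z, u ≠ 1 ∧ ∀ r ∈ s.T, r * u = u * r := by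
    haveI : Group.IsNilpotent ↥s.T := s.hT.isNilpotent
    haveI : (s.Z.subgroupOf s.T).Normal :=
      ⟨fun n hn g => (mem_normalizer_iff.1 (s.normal_z g.2) _).1 hn⟩
    have hne : s.Z.subgroupOf s.T ≠ ⊥ := fun h => by
      have : (⟨Q.z, s.z_le_t Q.z_z⟩ : ↥s.T) ∈ s.Z.subgroupOf s.T := Q.z_z
      rw [h, mem_bot] at this
      exact Q.hz1 (congrArg Subtype.val this)
    obtain ⟨⟨u, hu⟩, hu2, hu1⟩ : ∃ u, u ∈ s.Z.subgroupOf s.T ⊓ center ↥s.T ∧ u ≠ 1 := by
      by_contra hno
      push Not at hno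
      exact CfsgLib.inf_center_ne_bot_of_nilpotent hne ((eq_bot_iff_forall _).2 fun x hx => hno x hx)
    exact ⟨u, hu2.1, fun h => hu1 (Subtype.ext h),
      fun r hr => congrArg Subtype.val (mem_center_iff.1 hu2.2 ⟨r, hr⟩)⟩
  have hζ1 : ζ ≠ 1 := fun h => htζ (by rw [h, mul_one, one_mul])
  have hζu : ζ ≠ u := fun h => htζ (h ▸ hut t ht)
  have hcard : Nat.card ↥s.Z = 4 := by
    refine le_antisymm (hZU ▸ s.card_u_le) ?_
    have := Nat.card_le_card_of_injective
      (![(1 : ↥s.Z), ⟨u, hu⟩, ⟨ζ, hζ⟩, ⟨u, hu⟩ * ⟨ζ, hζ⟩] : Fin 4 → ↥s.Z) (by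
        intro p q hpq
        have e1 : u * ζ ≠ 1 := fun h => hζu (mul_left_cancel (h.trans (hexp u hu).symm))
        fin_cases p <;> fin_cases q <;> simp_all [Subtype.ext_iff, eq_comm])
    simpa using this
  have hall : ∀ η ∈ s.Z, η = 1 ∨ η = u ∨ η = ζ ∨ η = u * ζ := by
    intro η hη
    by_contra h
    push Not at h
    have e1 : u * ζ ≠ 1 := fun h => hζu (mul_left_cancel (h.trans (hexp u hu).symm))
    have hm : ∀ i, (![1, u, ζ, u * ζ, η] : Fin 5 → G) i ∈ s.Z := by
      intro i; fin_cases i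
      exacts [one_mem _, hu, hζ, mul_mem hu hζ, hη]
    have hinj := five_injective hu1 hζ1 hζu e1 h.1 h.2.1 h.2.2.1 h.2.2.2
    have := five_le_card hinj hm
    omega
  have hmem : ∀ r ∈ s.T, r * ζ * r⁻¹ = ζ ∨ r * ζ * r⁻¹ = u * ζ := by
    intro r hr
    rcases hall _ (s.conj_z hr hζ) with h | h | h | h
    · exact absurd (conj_eq_one_iff.1 h) hζ1
    · refine absurd (mul_left_cancel (a := r) (b := ζ) (c := u) ?_) hζu
      rw [mul_inv_eq_iff_eq_mul.1 h, hut r hr]
    · exact Or.inl h
    · exact Or.inr h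
  have h0 : ∀ r ∈ s.T, r * ζ = ζ * r → r ∈ s.T0 := fun r hr h => ⟨hr, fun η hη => by
    rcases hall η hη with rfl | rfl | rfl | rfl
    · rw [one_mul, mul_one]
    · exact (hut r hr).symm
    · exact h.symm
    · rw [mul_assoc, ← h, ← mul_assoc, ← hut r hr, mul_assoc]⟩
  have hidx : s.T0.relIndex s.T = 2 := by
    rw [relIndex, index_eq_two_iff]
    refine ⟨⟨t, ht⟩, fun r => ?_⟩
    have htζ' : t * ζ * t⁻¹ = u * ζ := (hmem t ht).resolve_left fun h => htζ (mul_inv_eq_iff_eq_mul.1 h)
    rcases hmem r r.2 with h | h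
    · refine Or.inr ⟨h0 _ r.2 (mul_inv_eq_iff_eq_mul.1 h), fun hrt => htζ ?_⟩
      have := mul_mem (inv_mem (h0 _ r.2 (mul_inv_eq_iff_eq_mul.1 h))) (show (r : G) * t ∈ s.T0 from hrt)
      rw [inv_mul_cancel_left] at this
      exact s.t0_z this hζ
    · refine Or.inl ⟨h0 _ (mul_mem r.2 ht) (mul_inv_eq_iff_eq_mul.1 ?_), fun hr => ?_⟩
      · calc (r : G) * t * ζ * ((r : G) * t)⁻¹ = r * (t * ζ * t⁻¹) * (r : G)⁻¹ := by group
          _ = (r : G) * u * (r : G)⁻¹ * (r * ζ * (r : G)⁻¹) := by rw [htζ']; group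
          _ = u * u * ζ := by rw [hut r r.2, mul_inv_cancel_right, h]; group
          _ = ζ := by rw [hexp u hu, one_mul]
      · rw [s.t0_z (show (r : G) ∈ s.T0 from hr) hζ, mul_inv_cancel_right] at h
        exact hu1 (right_eq_mul.1 h)
  have h16 : s.Z.relIndex s.T0 = 16 := by
    refine le_antisymm s.relIndex_t0_le ?_
    have hmul := relIndex_mul_relIndex s.Z s.C s.T0 s.z_le_c s.c_le_t0
    by_cases hfix : ∀ c ∈ s.C, s.a * c = c * s.a → c ∈ s.Z
    · have hne : ¬ s.T0 ≤ s.C := by
        intro hTC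
        obtain ⟨E, hET, hab, hsq, h8⟩ := hbig
        have hinv : ∀ e ∈ s.C, e * e = 1 → e ∈ s.Z := by
          intro e he hee
          obtain ⟨x, hx, d, hd, hda, rfl⟩ := s.decomp he
          have hdZ := hfix d hd hda
          have hxx : x * x = 1 := by
            rw [show x * d * (x * d) = x * (d * x) * d by group, Q.fixed_cent hd hda hx,
              show x * (x * d) * d = x * x * (d * d) by group, hexp d hdZ, mul_one] at hee
            exact hee
          rcases Q.sq_eq hx with h | h | h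
          · rwa [h, one_mul]
          · rw [h]; exact mul_mem Q.z_z hdZ
          · exact absurd (h.symm.trans hxx) Q.hz1
        -- `E` meets `T0` in a centralised four-group
        have h2 : 4 ≤ Nat.card ↥(E ⊓ s.T0) := by
          have h1 : (s.T0 ⊓ E).relIndex E ≤ 2 := by
            rw [inf_relIndex_right]
            exact (relIndex_le_of_le_right hET (by rw [hidx]; norm_num)).trans hidx.le
          have h3 := card_mul_relIndex (inf_le_right : s.T0 ⊓ E ≤ E)
          rw [inf_comm, h8] at h3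
          rw [inf_comm] at h1
          nlinarith
        have h3 : E ⊓ s.T0 = s.Z := eq_of_le_of_card_ge
          (fun e he => hinv e (hTC he.2) (hsq e he.1)) (by omega)
        have h4 : E ≤ s.Z := fun e he => hinv e (hTC ⟨hET he, fun η hη => by
          rw [← h3] at hη
          exact hab η hη.1 e he⟩) (hsq e he)
        have := card_le_of_le h4
        omega
      rw [← hmul]
      exact le_trans (by norm_num) (Nat.mul_le_mul (Q.four_le_z s.hCT Q.i_c Q.j_c) (Q.four_le_c_t0 hfix hne))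
    · rw [← hmul]
      refine (Q.sixteen_le hfix).trans (Nat.le_mul_of_pos_right _ (Nat.pos_of_ne_zero ?_))
      intro h
      have := card_mul_relIndex s.c_le_t0
      rw [h, mul_zero] at this
      exact Nat.card_pos.ne this
  rw [← card_mul_relIndex s.t0_le, hidx, ← card_mul_relIndex s.z_le_t0, h16, hcard]

end Quat

end CfsgLib.NormalRankTwo
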